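import Groth.Agent.CSEquiv.Isog
import Groth.Agent.AVFin.Counts
import Groth.Agent.AVFin.Dim
import Groth.Agent.AVFrobKer.Scheme

/-!
An abelian variety over a prime field whose endomorphism ring is a commutative order generated by Frobenius and
Verschiebung with a unimodular pairing, and the abelian varieties killed by its Frobenius polynomial.
-/

noncomputable section

set_option autoImplicit false
set_option linter.style.haveILetI false
set_option linter.unusedSectionVars false
set_option backward.isDefEq.respectTransparency false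
set_option backward.isDefEq.respectTransparency.types false
set_option maxHeartbeats 800000
set_option synthInstance.maxHeartbeats 400000

universe u

open CategoryTheory CategoryTheory.Limits AlgebraicGeometry MonoidalCategory CartesianMonoidalCategory
open scoped MonObj

attribute [-instance] CategoryTheory.catToReflQuiver

namespace Groth.Agent.CSEquiv

variable {k : Type u} [Field k] [Finite k]

/-- The Frobenius endomorphism. -/
def frobE (X : Over (Spec (CommRingCat.of k))) [GrpObj X] [IsCommMonObj X] : EndAV.End X :=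
  haveI := (AVFin.exists_frobHom X).choose_spec.choose
  EndAV.End.of (AVFin.exists_frobHom X).choose

theorem isPowMap_frobE (X : Over (Spec (CommRingCat.of k))) [GrpObj X] [IsCommMonObj X] :
    WeilLib.IsPowMap (EndAV.End.toHom (frobE X)).left (Nat.card k) :=
  (AVFin.exists_frobHom X).choose_spec.choose_spec

theorem frobE_eq {X : Over (Spec (CommRingCat.of k))} [GrpObj X] [IsCommMonObj X] (π : X ⟶ X) [IsMonHom π]
    (h : WeilLib.IsPowMap π.left (Nat.card k)) : frobE X = EndAV.End.of π :=
  EndAV.End.ext (Over.OverMorphism.ext (AVRosati.isPowMap_unique (isPowMap_frobE X) h))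

variable {X Y : Over (Spec (CommRingCat.of k))} [GrpObj X] [IsCommMonObj X] [IsProper X.hom] [GeometricallyIntegral X.hom]
  [GrpObj Y] [IsCommMonObj Y] [IsProper Y.hom] [GeometricallyIntegral Y.hom]

theorem map_aeval_int {R S : Type*} [Ring R] [Ring S] [Algebra ℤ R] [Algebra ℤ S] (φ : R →+* S) (x : R)
    (Q : Polynomial ℤ) : φ (Polynomial.aeval x Q) = Polynomial.aeval (φ x) Q := by
  induction Q using Polynomial.induction_on with
  | C a =>
    rw [Polynomial.aeval_C, Polynomial.aeval_C]
    exact (RingHom.congr_fun (RingHom.ext_int (φ.comp (algebraMap ℤ R)) (algebraMap ℤ S)) a)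
  | add a b ha hb => rw [map_add, map_add, map_add, ha, hb]
  | monomial n a ih =>
    rw [pow_succ, ← mul_assoc, map_mul, map_mul, Polynomial.aeval_X, map_mul _ _ Polynomial.X, Polynomial.aeval_X, ih]

theorem frob_natural_toHom (f : X ⟶ Y) :
    EndAV.End.toHom (frobE X) ≫ f = f ≫ EndAV.End.toHom (frobE Y) :=
  AVFin.frob_natural (isPowMap_frobE X) (isPowMap_frobE Y) f

theorem frobE_natural (f : EndAV.Hom X Y) :
    (show EndAV.Hom X X from frobE X) ≫ f = f ≫ (show EndAV.Hom Y Y from frobE Y) :=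
  EndAV.Hom.ext (frob_natural_toHom f.toHom)

theorem aeval_natural (f : EndAV.Hom X Y) (Q : Polynomial ℤ) :
    (show EndAV.Hom X X from Polynomial.aeval (frobE X) Q) ≫ f =
      f ≫ (show EndAV.Hom Y Y from Polynomial.aeval (frobE Y) Q) := by
  induction Q using Polynomial.induction_on with
  | C a =>
    simp only [Polynomial.aeval_C, Algebra.algebraMap_eq_smul_one]
    show (a • 𝟙 (CommGrp.mk X)) ≫ f = f ≫ (a • 𝟙 (CommGrp.mk Y))
    rw [Preadditive.zsmul_comp, Preadditive.comp_zsmul, Category.id_comp, Category.comp_id]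
  | add a b ha hb =>
    simp only [map_add]
    exact (Preadditive.add_comp _ _ _ _ _ f).trans ((congrArg₂ (· + ·) ha hb).trans
      (Preadditive.comp_add _ _ _ f _ _).symm)
  | monomial n a ih =>
    simp only [pow_succ, ← mul_assoc, map_mul, Polynomial.aeval_X] at ih ⊢
    show ((show EndAV.Hom X X from frobE X) ≫
        (show EndAV.Hom X X from Polynomial.aeval (frobE X) (Polynomial.C a) * Polynomial.aeval (frobE X) (Polynomial.X ^ n))) ≫ f = _
    rw [Category.assoc]
    simp only [map_pow, Polynomial.aeval_X] at ih ⊢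
    rw [ih, ← Category.assoc, frobE_natural, Category.assoc]
    rfl

theorem surjective_frobE : Surjective (EndAV.End.toHom (frobE X)).left := by
  refine ⟨fun x => ⟨x, ?_⟩⟩
  exact (isPowMap_frobE X).base x

/-- The Verschiebung. -/
theorem exists_versch : ∃ V : EndAV.End X, frobE X * V = (Nat.card k : EndAV.End X) ∧
    V * frobE X = (Nat.card k : EndAV.End X) := by
  haveI := surjective_frobE (X := X)
  obtain ⟨v, hv, hv'⟩ := AVRosati.Factor.exists_factor (EndAV.End.toHom (frobE X))
    (EndAV.End.toHom (Nat.card k : EndAV.End X)) fun T g hg => by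
      rw [EndAV.End.toHom_natCast, MonObj.comp_pow, Category.comp_id]
      exact AVFrobKer.pow_card_eq_one _ (isPowMap_frobE X) g hg
  haveI := hv
  have h1 : (EndAV.End.of v : EndAV.End X) * frobE X = (Nat.card k : EndAV.End X) := EndAV.End.ext hv'
  refine ⟨EndAV.End.of v, ?_, h1⟩
  exact (AVFin.frob_commute (isPowMap_frobE X) (EndAV.End.of v)).eq.trans h1

theorem isg_frobE : Isg (EndAV.End.toHom (frobE X)) := by
  haveI := isProper_left (EndAV.End.toHom (frobE X))
  obtain ⟨V, -, hV⟩ := exists_versch (X := X)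
  refine ⟨?_, surjective_frobE⟩
  haveI : IsFinite ((EndAV.End.toHom (frobE X)).left ≫ (EndAV.End.toHom V).left) := by
    have h := congrArg (fun s : EndAV.End X => (EndAV.End.toHom s).left) hV
    simp only [EndAV.End.toHom_mul, Over.comp_left, EndAV.End.toHom_natCast] at h
    rw [h]
    exact (isg_pow _ Nat.card_pos).1
  haveI := isProper_left (EndAV.End.toHom V)
  exact IsFinite.of_comp (EndAV.End.toHom (frobE X)).left (EndAV.End.toHom V).left

theorem frob_pow_cancel (N : ℕ) {u : EndAV.End X} (hu : Commute (frobE X) u) (h : frobE X ^ N * u = 0) :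
    u = 0 := by
  induction N with
  | zero => simpa using h
  | succ N ih =>
    refine ih ?_
    have h' : (frobE X ^ N * u) * frobE X = 0 := by rw [mul_assoc, ← hu.eq, ← mul_assoc, ← pow_succ, h]
    refine EndAV.End.ext (cancel_isg (EndAV.End.toHom (frobE X)) isg_frobE ?_)
    rw [← EndAV.End.toHom_mul, h', EndAV.End.toHom_zero, MonObj.comp_one]

theorem eq_zero_of_comp_frob : ∀ (N : ℕ) (δ : EndAV.Hom X Y),
    δ ≫ (show EndAV.Hom Y Y from frobE Y ^ N) = 0 → δ = 0
  | 0, δ, h => by rw [pow_zero] at h; exact (Category.comp_id δ).symm.trans h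
  | N + 1, δ, h => by
    refine eq_zero_of_comp_frob N δ ?_
    apply EndAV.Hom.ext
    refine cancel_isg (EndAV.End.toHom (frobE X)) isg_frobE ?_
    rw [frob_natural_toHom, EndAV.Hom.toHom_zero, MonObj.comp_one]
    rw [pow_succ'] at h
    exact (Category.assoc _ _ _).trans (congrArg EndAV.Hom.toHom h)

variable (Aw : Over (Spec (CommRingCat.of k))) [GrpObj Aw] [IsCommMonObj Aw] [IsProper Aw.hom] [GeometricallyIntegral Aw.hom]

/-- The hypotheses on the chosen abelian variety. -/
structure Data (p : ℕ) (P : Polynomial ℤ) : Prop where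
  prime : p.Prime
  card : Nat.card k = p
  comm : ∀ a b : EndAV.End Aw, a * b = b * a
  gen : ∃ V : EndAV.End Aw, frobE Aw * V = (p : EndAV.End Aw) ∧ ∀ s, s ∈ Algebra.adjoin ℤ ({frobE Aw, V} : Set (EndAV.End Aw))
  frobenius : ∃ lam : EndAV.End Aw →+ ℤ, ∀ (n : ℕ) (x : EndAV.End Aw),
    (∀ y, (n : ℤ) ∣ lam (x * y)) → ∃ z, x = n • z
  monic : P.Monic
  rank : Module.finrank ℤ (EndAV.End Aw) = P.natDegree
  root : Polynomial.aeval (frobE Aw) P = 0

/-- Being killed by the Frobenius polynomial. -/
def Mem (P : Polynomial ℤ) (X : Over (Spec (CommRingCat.of k))) [GrpObj X] [IsCommMonObj X] : Prop :=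
  Polynomial.aeval (frobE X) P = 0

variable {Aw} {p : ℕ} {P : Polynomial ℤ}

theorem Data.mem_self (h : Data Aw p P) : Mem P Aw := h.root

theorem Mem.of_surjective {f : EndAV.Hom X Y} (hX : Mem P X) (hf : Surjective f.toHom.left) : Mem P Y := by
  have e := aeval_natural f P
  rw [show Polynomial.aeval (frobE X) P = 0 from hX, show (show EndAV.Hom X X from (0 : EndAV.End X)) = 0 from rfl,
    Limits.zero_comp] at e
  refine EndAV.End.ext ?_
  haveI : IsIntegral Y.left := H23.MaxAbelian.isIntegral_of_geometricallyIntegral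
  haveI := hf
  refine AVRosati.Factor.cancel_surjective f.toHom ?_
  refine (congrArg EndAV.Hom.toHom e.symm).trans ?_
  rw [EndAV.End.toHom_zero, MonObj.comp_one]
  rfl

theorem Mem.of_mono {f : EndAV.Hom X Y} (hY : Mem P Y) [Mono f.toHom] : Mem P X := by
  have e := aeval_natural f P
  rw [show Polynomial.aeval (frobE Y) P = 0 from hY, show (show EndAV.Hom Y Y from (0 : EndAV.End Y)) = 0 from rfl,
    Limits.comp_zero] at e
  refine EndAV.End.ext ((cancel_mono f.toHom).1 ?_)
  refine (congrArg EndAV.Hom.toHom e).trans ?_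
  rw [EndAV.End.toHom_zero, MonObj.one_comp]
  rfl

theorem Mem.of_isg_source {f : EndAV.Hom X Y} (hY : Mem P Y) (hf : Isg f.toHom) : Mem P X := by
  obtain ⟨g, hg, -, hfg, -⟩ := exists_inverse f.toHom hf
  haveI := hg
  have e := aeval_natural f P
  rw [show Polynomial.aeval (frobE Y) P = 0 from hY, show (show EndAV.Hom Y Y from (0 : EndAV.End Y)) = 0 from rfl,
    Limits.comp_zero] at e
  have e2 := congrArg (fun φ : EndAV.Hom X Y => φ ≫ EndAV.Hom.of g) e
  simp only [Limits.zero_comp, Category.assoc] at e2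
  rw [show f ≫ EndAV.Hom.of g = ((deg f.toHom : ℕ) : ℤ) • 𝟙 (CommGrp.mk X) from EndAV.Hom.ext (by
    rw [EndAV.Hom.toHom_zsmul, zpow_natCast]
    exact hfg), Preadditive.comp_zsmul, Category.comp_id] at e2
  haveI : Module.Free ℤ (EndAV.End X) := (AVHomLib.hom_free (A := X) (B := X)).2
  have e3 : ((deg f.toHom : ℕ) : ℤ) • Polynomial.aeval (frobE X) P = 0 := e2
  exact (smul_eq_zero.1 e3).resolve_left (by exact_mod_cast (deg_pos _ hf).ne')

theorem Data.exists_reduce (h : Data Aw p P) (hX : Mem P X) (s : EndAV.End Aw) :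
    ∃ (N : ℕ) (Q : Polynomial ℤ) (u : EndAV.End X), frobE Aw ^ N * s = Polynomial.aeval (frobE Aw) Q ∧
      frobE X ^ N * u = Polynomial.aeval (frobE X) Q ∧ Commute (frobE X) u := by
  obtain ⟨V, hV, hgen⟩ := h.gen
  induction hgen s using Algebra.adjoin_induction with
  | mem x hx =>
    rcases hx with rfl | rfl
    · exact ⟨0, Polynomial.X, frobE X, by simp, by simp, Commute.refl _⟩
    · obtain ⟨VX, hVX, -⟩ := exists_versch (X := X)
      refine ⟨1, Polynomial.C (p : ℤ), VX, by simp [hV], by simp [hVX, h.card], AVFin.frob_commute (isPowMap_frobE X) VX⟩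
  | algebraMap r => exact ⟨0, Polynomial.C r, algebraMap ℤ _ r, by simp, by simp, Algebra.commute_algebraMap_right r _⟩
  | add a b _ _ iha ihb =>
    obtain ⟨N, Q, u, h1, h2, h3⟩ := iha
    obtain ⟨M, R, v, g1, g2, g3⟩ := ihb
    refine ⟨N + M, Polynomial.X ^ M * Q + Polynomial.X ^ N * R, u + v, ?_, ?_, h3.add_right g3⟩
    · rw [mul_add, map_add, map_mul, map_mul, map_pow, map_pow, Polynomial.aeval_X, ← h1, ← g1, ← mul_assoc,
        ← mul_assoc, ← pow_add, ← pow_add, add_comm M N]
    · rw [mul_add, map_add, map_mul, map_mul, map_pow, map_pow, Polynomial.aeval_X, ← h2, ← g2, ← mul_assoc,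
        ← mul_assoc, ← pow_add, ← pow_add, add_comm M N]
  | mul a b _ _ iha ihb =>
    obtain ⟨N, Q, u, h1, h2, h3⟩ := iha
    obtain ⟨M, R, v, g1, g2, g3⟩ := ihb
    refine ⟨N + M, Q * R, u * v, ?_, ?_, h3.mul_right g3⟩
    · rw [map_mul, ← h1, ← g1, pow_add, mul_assoc, mul_assoc, ← mul_assoc (frobE Aw ^ M),
        h.comm (frobE Aw ^ M) a, mul_assoc]
    · rw [map_mul, ← h2, ← g2, pow_add, mul_assoc, mul_assoc, ← mul_assoc (frobE X ^ M),
        (h3.pow_left M).eq, mul_assoc]

theorem Data.linearIndependent_pow (h : Data Aw p P) :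
    LinearIndependent ℤ (fun i : Fin P.natDegree => frobE Aw ^ (i : ℕ)) := by
  haveI : Module.Finite ℤ (EndAV.End Aw) := (AVHomLib.hom_free (A := Aw) (B := Aw)).1
  haveI : Module.Free ℤ (EndAV.End Aw) := (AVHomLib.hom_free (A := Aw) (B := Aw)).2
  let S := Submodule.span ℤ (Set.range fun i : Fin P.natDegree => frobE Aw ^ (i : ℕ))
  have hQ : ∀ Q : Polynomial ℤ, Polynomial.aeval (frobE Aw) Q ∈ S := fun Q => by
    rw [← Polynomial.modByMonic_add_div Q P, map_add, map_mul, h.root, zero_mul, add_zero]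
    rcases eq_or_ne P.natDegree 0 with h0 | h0
    · rw [(Polynomial.eq_one_of_monic_natDegree_zero h.monic h0), Polynomial.modByMonic_one, map_zero]
      exact S.zero_mem
    · rw [Polynomial.aeval_eq_sum_range' (n := P.natDegree)
        (Polynomial.natDegree_modByMonic_lt _ h.monic fun e => h0 (by rw [e, Polynomial.natDegree_one]))]
      exact Submodule.sum_mem _ fun i hi => S.smul_mem _ (Submodule.subset_span ⟨⟨i, Finset.mem_range.1 hi⟩, rfl⟩)
  have hV1 : ∀ V : EndAV.End Aw, frobE Aw * V = (p : EndAV.End Aw) →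
      ∃ R : Polynomial ℤ, ∃ m : ℤ, m ≠ 0 ∧ m • V = Polynomial.aeval (frobE Aw) R := by
    intro V hV
    have hint : IsIntegral ℤ (frobE Aw) := ⟨P, h.monic, h.root⟩
    set R₀ := minpoly ℤ (frobE Aw) with hR₀
    have h0 : Polynomial.aeval (frobE Aw) R₀ = 0 := minpoly.aeval ℤ _
    rw [← Polynomial.X_mul_divX_add R₀, map_add, map_mul, Polynomial.aeval_X, Polynomial.aeval_C] at h0
    refine ⟨-(Polynomial.C (p : ℤ) * R₀.divX), R₀.coeff 0, fun hc => ?_, ?_⟩
    · rw [hc, map_zero, add_zero] at h0
      have h1 : Polynomial.aeval (frobE Aw) R₀.divX = 0 :=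
        frob_pow_cancel 1 (h.comm _ _) (by rwa [pow_one])
      have hm : R₀.Monic := minpoly.monic hint
      have hd : R₀.natDegree ≠ 0 := fun hd => by
        rw [Polynomial.eq_one_of_monic_natDegree_zero hm hd] at hc
        simp at hc
      have hm' : R₀.divX.Monic := by
        rw [Polynomial.Monic, Polynomial.leadingCoeff, Polynomial.natDegree_divX_eq_natDegree_tsub_one,
          Polynomial.coeff_divX, Nat.sub_add_cancel (Nat.one_le_iff_ne_zero.2 hd)]
        exact hm.coeff_natDegree
      have hle := Polynomial.natDegree_le_natDegree (minpoly.min ℤ (frobE Aw) hm' h1)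
      rw [← hR₀, Polynomial.natDegree_divX_eq_natDegree_tsub_one] at hle
      omega
    · have h2 := congrArg (· * V) h0
      simp only [zero_mul, add_mul] at h2
      rw [mul_assoc, h.comm (Polynomial.aeval _ _) V, ← mul_assoc, hV] at h2
      rw [map_neg, map_mul, Polynomial.aeval_C, eq_neg_iff_add_eq_zero, add_comm]
      simpa [Algebra.smul_def] using h2
  -- every element has a multiple in the span
  have hs : ∀ s : EndAV.End Aw, ∃ m : ℤ, m ≠ 0 ∧ m • s ∈ S := by
    intro s
    obtain ⟨V, hV, -⟩ := h.gen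
    obtain ⟨R, m, hm, hR⟩ := hV1 V hV
    obtain ⟨N, Q, u, h1, -, -⟩ := h.exists_reduce h.mem_self s
    refine ⟨m ^ N * (p : ℤ) ^ N, mul_ne_zero (pow_ne_zero _ hm) (pow_ne_zero _ (by exact_mod_cast h.prime.ne_zero)), ?_⟩
    have hp : ((p : ℤ) ^ N) • s = V ^ N * (frobE Aw ^ N * s) := by
      rw [← mul_assoc, ← Commute.mul_pow (h.comm V (frobE Aw)), h.comm V, hV]
      simp [Algebra.smul_def]
    have e : (m ^ N * (p : ℤ) ^ N) • s = Polynomial.aeval (frobE Aw) (R ^ N * Q) := by
      rw [map_mul, map_pow, ← hR, smul_pow, ← h1, smul_mul_assoc, ← hp, mul_smul]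
    rw [e]
    exact hQ _
  have htor : ∀ q : EndAV.End Aw ⧸ S, ∃ m : ℤ, m ≠ 0 ∧ m • q = 0 := fun q => by
    obtain ⟨x, rfl⟩ := Submodule.Quotient.mk_surjective _ q
    obtain ⟨m, hm, hmx⟩ := hs x
    exact ⟨m, hm, by rwa [← Submodule.Quotient.mk_smul, Submodule.Quotient.mk_eq_zero]⟩
  have hz : Module.finrank ℤ (EndAV.End Aw ⧸ S) = 0 := Module.finrank_eq_zero_iff.2 fun q => htor q
  have h0 := Submodule.finrank_quotient_add_finrank S
  rw [linearIndependent_iff_card_eq_finrank_span, Fintype.card_fin, Set.finrank]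
  show P.natDegree = Module.finrank ℤ S
  rw [← h.rank]
  omega

/-- The Frobenius polynomial is the minimal one. -/
theorem Data.dvd_of_aeval (h : Data Aw p P) {Q : Polynomial ℤ} (hQ : Polynomial.aeval (frobE Aw) Q = 0) :
    P ∣ Q := by
  rw [← Polynomial.modByMonic_eq_zero_iff_dvd h.monic]
  rcases eq_or_ne P.natDegree 0 with h0 | h0
  · rw [(Polynomial.eq_one_of_monic_natDegree_zero h.monic h0), Polynomial.modByMonic_one]
  have e : Polynomial.aeval (frobE Aw) (Q %ₘ P) = 0 := by
    have := congrArg (Polynomial.aeval (frobE Aw)) (Polynomial.modByMonic_add_div Q P)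
    rw [map_add, map_mul, h.root, zero_mul, add_zero, hQ] at this
    exact this
  have hlt := Polynomial.natDegree_modByMonic_lt Q h.monic fun e => h0 (by rw [e, Polynomial.natDegree_one])
  rw [Polynomial.aeval_eq_sum_range' hlt, Finset.sum_range] at e
  ext i
  rw [Polynomial.coeff_zero]
  rcases lt_or_ge i P.natDegree with hi | hi
  · exact Fintype.linearIndependent_iff.1 h.linearIndependent_pow _ e ⟨i, hi⟩
  · exact Polynomial.coeff_eq_zero_of_natDegree_lt (hlt.trans_le hi)

/-- The action of the order. -/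
theorem Data.exists_act (h : Data Aw p P) (hX : Mem P X) :
    ∃ φ : EndAV.End Aw →+* EndAV.End X, φ (frobE Aw) = frobE X ∧
      ∀ s, ∃ (N : ℕ) (Q : Polynomial ℤ), frobE Aw ^ N * s = Polynomial.aeval (frobE Aw) Q ∧
        frobE X ^ N * φ s = Polynomial.aeval (frobE X) Q := by
  choose N Q u h1 h2 h3 using h.exists_reduce hX
  have huniq : ∀ (s : EndAV.End Aw) (M : ℕ) (R : Polynomial ℤ) (v : EndAV.End X),
      frobE Aw ^ M * s = Polynomial.aeval (frobE Aw) R → frobE X ^ M * v = Polynomial.aeval (frobE X) R →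
      Commute (frobE X) v → u s = v := by
    intro s M R v g1 g2 g3
    have hd : P ∣ Polynomial.X ^ M * Q s - Polynomial.X ^ N s * R := h.dvd_of_aeval (by
      rw [map_sub, map_mul, map_mul, map_pow, map_pow, Polynomial.aeval_X, ← h1, ← g1, ← mul_assoc, ← mul_assoc,
        ← pow_add, ← pow_add, add_comm, sub_self])
    obtain ⟨C, hC⟩ := hd
    have e := congrArg (Polynomial.aeval (frobE X)) hC
    rw [map_mul, show Polynomial.aeval (frobE X) P = 0 from hX, zero_mul, map_sub, map_mul, map_mul, map_pow,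
      map_pow, Polynomial.aeval_X, ← h2, ← g2, ← mul_assoc, ← mul_assoc, ← pow_add, ← pow_add, add_comm M,
      ← mul_sub] at e
    exact sub_eq_zero.1 (frob_pow_cancel _ ((h3 s).sub_right g3) e)
  refine ⟨{ toFun := u, map_one' := ?_, map_mul' := fun a b => ?_, map_zero' := ?_, map_add' := fun a b => ?_ },
    huniq _ 0 Polynomial.X _ (by simp) (by simp) (Commute.refl _), fun s => ⟨N s, Q s, h1 s, h2 s⟩⟩
  · exact huniq _ 0 1 _ (by simp) (by simp) (Commute.one_right _)
  · refine huniq _ (N a + N b) (Q a * Q b) _ ?_ ?_ ((h3 a).mul_right (h3 b))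
    · rw [map_mul, ← h1, ← h1, pow_add, mul_assoc, mul_assoc, ← mul_assoc (frobE Aw ^ N b),
        h.comm (frobE Aw ^ N b) a, mul_assoc]
    · rw [map_mul, ← h2, ← h2, pow_add, mul_assoc, mul_assoc, ← mul_assoc (frobE X ^ N b),
        ((h3 a).pow_left (N b)).eq, mul_assoc]
  · exact huniq _ 0 0 _ (by simp) (by simp) (Commute.zero_right _)
  · refine huniq _ (N a + N b) (Polynomial.X ^ N b * Q a + Polynomial.X ^ N a * Q b) _ ?_ ?_
      ((h3 a).add_right (h3 b))
    · rw [mul_add, map_add, map_mul, map_mul, map_pow, map_pow, Polynomial.aeval_X, ← h1, ← h1, ← mul_assoc,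
        ← mul_assoc, ← pow_add, ← pow_add, add_comm (N b)]
    · rw [mul_add, map_add, map_mul, map_mul, map_pow, map_pow, Polynomial.aeval_X, ← h2, ← h2, ← mul_assoc,
        ← mul_assoc, ← pow_add, ← pow_add, add_comm (N b)]

/-- The action of the order on an abelian variety killed by the polynomial. -/
def Data.act (h : Data Aw p P) (hX : Mem P X) : EndAV.End Aw →+* EndAV.End X := (h.exists_act hX).choose

theorem Data.act_frobE (h : Data Aw p P) (hX : Mem P X) : h.act hX (frobE Aw) = frobE X :=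
  (h.exists_act hX).choose_spec.1

/-- The action commutes with all homomorphisms. -/
theorem Data.act_natural (h : Data Aw p P) (hX : Mem P X) (hY : Mem P Y) (f : EndAV.Hom X Y) (s : EndAV.End Aw) :
    (show EndAV.Hom X X from h.act hX s) ≫ f = f ≫ (show EndAV.Hom Y Y from h.act hY s) := by
  obtain ⟨N, Q, h1, h2⟩ := (h.exists_act hX).choose_spec.2 s
  have h2' : frobE X ^ N * h.act hX s = Polynomial.aeval (frobE X) Q := h2
  have hY2 : frobE Y ^ N * h.act hY s = Polynomial.aeval (frobE Y) Q := by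
    rw [← h.act_frobE hY, ← map_pow, ← map_mul, h1]
    exact map_aeval_int (h.act hY) _ _
  have e := aeval_natural f Q
  rw [← h2', ← hY2] at e
  have hn := aeval_natural f (Polynomial.X ^ N)
  simp only [map_pow, Polynomial.aeval_X] at hn
  -- `e : (a ≫ F ^ N) ≫ f = f ≫ (b ≫ F ^ N)`
  have hδ : ((show EndAV.Hom X X from h.act hX s) ≫ f - f ≫ (show EndAV.Hom Y Y from h.act hY s)) ≫
      (show EndAV.Hom Y Y from frobE Y ^ N) = 0 := by
    rw [Preadditive.sub_comp, sub_eq_zero, Category.assoc, ← hn, ← Category.assoc, Category.assoc f]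
    exact e
  rw [← sub_eq_zero]
  generalize ((show EndAV.Hom X X from h.act hX s) ≫ f - f ≫ (show EndAV.Hom Y Y from h.act hY s)) = δ at hδ
  exact eq_zero_of_comp_frob N δ hδ

theorem Data.act_self (h : Data Aw p P) (s : EndAV.End Aw) : h.act h.mem_self s = s := by
  obtain ⟨N, Q, h1, h2⟩ := (h.exists_act h.mem_self).choose_spec.2 s
  refine sub_eq_zero.1 (frob_pow_cancel N (h.comm _ _) ?_)
  rw [mul_sub, sub_eq_zero, h1]
  exact h2

end Groth.Agent.CSEquiv
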