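import Groth.Agent.CSEquiv.Order

/-!
The index of the image of `Hom(Y, A_w)` in `Hom(X, A_w)` is the degree of the isogeny `X → Y`.
-/

noncomputable section

set_option autoImplicit false
set_option linter.style.haveILetI false
set_option linter.unusedSectionVars false
set_option linter.overlappingInstances false
set_option backward.isDefEq.respectTransparency false
set_option backward.isDefEq.respectTransparency.types false
set_option maxHeartbeats 800000
set_option synthInstance.maxHeartbeats 400000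

universe u

open CategoryTheory CategoryTheory.Limits AlgebraicGeometry MonoidalCategory CartesianMonoidalCategory
open scoped MonObj

attribute [-instance] CategoryTheory.catToReflQuiver

namespace Groth.Agent.CSEquiv

variable {k : Type u} [Field k] [Finite k]
  {X : Over (Spec (CommRingCat.of k))} [GrpObj X] [IsCommMonObj X] [IsProper X.hom] [GeometricallyIntegral X.hom]
  {Y : Over (Spec (CommRingCat.of k))} [GrpObj Y] [IsCommMonObj Y] [IsProper Y.hom] [GeometricallyIntegral Y.hom]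
  {Aw : Over (Spec (CommRingCat.of k))} [GrpObj Aw] [IsCommMonObj Aw] [IsProper Aw.hom] [GeometricallyIntegral Aw.hom]
  {p : ℕ} {P : Polynomial ℤ}

/-- An isogeny admitting no proper factorisation. -/
theorem Data.hidx_le_of_minimal (h : Data Aw p P) (hX : Mem P X) (hY : Mem P Y) (f : EndAV.Hom X Y)
    (hf : Isg f.toHom) (h1 : deg f.toHom ≠ 1)
    (hmin : ∀ (W : Over (Spec (CommRingCat.of k))) [GrpObj W] [IsCommMonObj W] [IsProper W.hom] [GeometricallyIntegral W.hom]
      (f₁ : X ⟶ W) [IsMonHom f₁] (f₂ : W ⟶ Y) [IsMonHom f₂], Isg f₁ → Isg f₂ → f₁ ≫ f₂ = f.toHom →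
        deg f₁ = 1 ∨ deg f₂ = 1) :
    hidx Aw f ≤ deg f.toHom := by
  classical
  have hdich : ∀ {Z : Over (Spec (CommRingCat.of k))} [GrpObj Z] [IsCommMonObj Z] [IsProper Z.hom]
      [GeometricallyIntegral Z.hom] (φ : EndAV.Hom X Z),
      (∀ (T : Over (Spec (CommRingCat.of k))) (g : T ⟶ X), g ≫ f.toHom = 1 → g ≫ φ.toHom = 1) ∨
      ∀ (T : Over (Spec (CommRingCat.of k))) (g : T ⟶ X), g ≫ f.toHom = 1 → g ≫ φ.toHom = 1 → g = 1 := by
    intro Z _ _ _ _ φ
    obtain ⟨W, _, _, _, _, q, hq, hqi, hqk⟩ := ((Cut.kernel f.toHom hf).inter φ.toHom).quot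
    obtain ⟨r, hr, hri, hqr, -⟩ := exists_isg_factor q hqi f.toHom hf fun T x hx => ((hqk T x).1 hx).1
    haveI := hr
    rcases hmin W q r hqi hri hqr with h2 | h2
    · haveI := isIso_of_deg_eq_one q hqi h2
      exact .inr fun T g hg hg' => (cancel_mono q).1 (((hqk T g).2 ⟨hg, hg'⟩).trans (MonObj.one_comp q).symm)
    · haveI := isIso_of_deg_eq_one r hri h2
      exact .inl fun T g hg => ((hqk T g).1 ((cancel_mono r).1 (by
        rw [Category.assoc, hqr, hg, MonObj.one_comp]))).2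
  let I : Ideal (EndAV.End Aw) :=
    { carrier := {s | ∀ (T : Over (Spec (CommRingCat.of k))) (g : T ⟶ X), g ≫ f.toHom = 1 →
        g ≫ EndAV.End.toHom (h.act hX s) = 1}
      zero_mem' := fun T g _ => by rw [map_zero, EndAV.End.toHom_zero, MonObj.comp_one]
      add_mem' := fun {a b} ha hb T g hg => by
        rw [map_add, EndAV.End.toHom_add, MonObj.comp_mul, ha T g hg, hb T g hg, _root_.one_mul]
      smul_mem' := fun t s hs T g hg => by
        show g ≫ EndAV.End.toHom (h.act hX (t * s)) = 1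
        rw [map_mul, EndAV.End.toHom_mul, ← Category.assoc, hs T g hg, MonObj.one_comp] }
  have hker : ∀ (s : EndAV.End Aw) (T : Over (Spec (CommRingCat.of k))) (g : T ⟶ X), g ≫ f.toHom = 1 →
      (g ≫ EndAV.End.toHom (h.act hX s)) ≫ f.toHom = 1 := fun s T g hg => by
    have hn := congrArg EndAV.Hom.toHom (h.act_natural hX hY f s)
    rw [EndAV.Hom.toHom_comp, EndAV.Hom.toHom_comp] at hn
    rw [Category.assoc]
    refine (congrArg (fun t => g ≫ t) hn).trans ?_
    rw [← Category.assoc, hg, MonObj.one_comp]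
  have hprime : ∀ s t, t * s ∈ I → s ∈ I ∨ t ∈ I := by
    intro s t hts
    rcases hdich (Z := X) (h.act hX s) with hs | hs
    · exact .inl hs
    · refine .inr fun T g hg => hs T _ (hker t T g hg) ?_
      have h2 := hts T g hg
      rw [h.comm, map_mul, EndAV.End.toHom_mul, ← Category.assoc] at h2
      exact h2
  obtain ⟨ψ, hψ, -, hfψ, -⟩ := exists_inverse f.toHom hf
  haveI := hψ
  have hd : (deg f.toHom : EndAV.End Aw) ∈ I := fun T g hg => by
    rw [map_natCast, EndAV.End.toHom_natCast, ← hfψ, ← Category.assoc, hg, MonObj.one_comp]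
  have hne : (1 : EndAV.End Aw) ∉ I := fun h1' => h1 (by
    have hk : ∀ (T : Over (Spec (CommRingCat.of k))) (g : T ⟶ X), g ≫ f.toHom = 1 ↔ g ≫ 𝟙 X = 1 := fun T g =>
      ⟨fun hg => by
        have h2 := h1' T g hg
        rwa [map_one, EndAV.End.toHom_one] at h2,
       fun hg => by rw [Category.comp_id] at hg; rw [hg, MonObj.one_comp]⟩
    rw [deg_eq_of_kernel_eq f.toHom hf (𝟙 X) (isg_of_isIso _) hk, deg_of_isIso])
  have hm : I.IsMaximal := isMaximal_of_prime h.comm (deg_pos _ hf) I hd hne hprime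
  obtain ⟨T, g₀, hg₀, hg₀1, hfinT, hcardT, hidxm⟩ := h.index_le_of_killed hX hY f hf h1 hm fun s hs => hs
  -- the target
  let IS : Submodule (EndAV.End Aw) (EndAV.Hom Aw Aw) :=
    { carrier := {φ | (show EndAV.End Aw from φ) ∈ I}
      zero_mem' := I.zero_mem
      add_mem' := fun ha hb => I.add_mem ha hb
      smul_mem' := fun t φ hφ => I.mul_mem_left t hφ }
  obtain ⟨WS, _, _, _, _, qS, hqS, hqSi, hqSk⟩ := (cut_kill (X := Aw) (deg f.toHom) (deg_pos _ hf) IS).quot
  have hland : ∀ (φ : EndAV.Hom X Aw) (T : Over (Spec (CommRingCat.of k))) (g : T ⟶ X), g ≫ f.toHom = 1 →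
      (g ≫ φ.toHom) ≫ qS = 1 := by
    intro φ T g hg
    refine (hqSk T _).2 ⟨?_, fun s hs => ?_⟩
    · rw [← MonObj.pow_comp, show g ^ deg f.toHom = g ≫ f.toHom ≫ ψ by
          rw [hfψ, MonObj.comp_pow, Category.comp_id],
        ← Category.assoc, hg, MonObj.one_comp, MonObj.one_comp]
    · have hn := congrArg EndAV.Hom.toHom (h.act_natural hX h.mem_self φ s)
      rw [EndAV.Hom.toHom_comp, EndAV.Hom.toHom_comp, h.act_self] at hn
      rw [Category.assoc]
      refine (congrArg (fun t => g ≫ t) hn.symm).trans ?_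
      rw [← Category.assoc, (hs : s ∈ I) T g hg, MonObj.one_comp]
  by_cases hall : ∀ φ : EndAV.Hom X Aw, ∀ (T : Over (Spec (CommRingCat.of k))) (g : T ⟶ X),
      g ≫ f.toHom = 1 → g ≫ φ.toHom = 1
  · rw [hidx, (AddMonoidHom.range_eq_top).2 fun (φ : EndAV.Hom X Aw) => ?_, AddSubgroup.index_top]
    · exact deg_pos _ hf
    · obtain ⟨v, hv, hfv⟩ := exists_factor f.toHom hf φ.toHom (hall φ)
      exact ⟨EndAV.Hom.of v, EndAV.Hom.ext hfv⟩
  push Not at hall
  obtain ⟨φ₀, hφ₀⟩ := hall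
  have hinj₀ : ∀ (T : Over (Spec (CommRingCat.of k))) (g : T ⟶ X), g ≫ f.toHom = 1 → g ≫ φ₀.toHom = 1 → g = 1 :=
    (hdich φ₀).resolve_left fun h' => by
      obtain ⟨T', g', hg', hgg⟩ := hφ₀
      exact hgg (h' T' g' hg')
  obtain ⟨N, _, i, hi, -, hN, hNf, hNd⟩ := exists_ker f.toHom hf
  obtain ⟨NS, _, iS, hiS, -, hNS, hNSf, hNSd⟩ := exists_ker qS hqSi
  haveI := hi
  haveI := hiS
  haveI := hNf
  haveI := hNSf
  haveI : Mono i := IsogLib.mono_kernel f.toHom hN
  haveI : Mono iS := IsogLib.mono_kernel qS hNS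
  obtain ⟨j, hj⟩ := IsogLib.exists_kernel_lift qS hNS (i ≫ φ₀.toHom)
    (hland φ₀ N i (IsogLib.kernel_comp _ hN))
  haveI : IsMonHom (j ≫ iS) := hj ▸ inferInstance
  haveI : IsMonHom j := AVRosati.SubAV.isMonHom_of_comp_mono j iS
  haveI : Mono j := mono_of_trivial j fun T t ht => by
    refine (cancel_mono i).1 ?_
    rw [MonObj.one_comp]
    refine hinj₀ T _ (by rw [Category.assoc, IsogLib.kernel_comp _ hN, MonObj.comp_one]) ?_
    rw [Category.assoc, ← hj, ← Category.assoc, ht, MonObj.one_comp]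
  have hle : deg f.toHom ≤ deg qS := by
    rw [← hNd, ← hNSd]
    exact finrank_le_of_mono j _
  -- the orders agree
  have hnIS : ∀ φ : EndAV.Hom Aw Aw, deg f.toHom • φ ∈ IS := fun φ => by
    show (deg f.toHom • (show EndAV.End Aw from φ)) ∈ I
    rw [nsmul_eq_mul, h.comm]
    exact I.mul_mem_left _ hd
  have hge : deg qS ≤ deg f.toHom := by
    rw [h.ord_eq_index (deg_pos _ hf) hnIS ⟨WS, inferInstance, inferInstance, inferInstance, inferInstance, qS, hqS,
      hqSi, rfl, hqSk⟩]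
    exact hidxm
  haveI : IsIso j := isIso_of_mono_of_finrank_le j _ (by rw [hNd, hNSd]; exact hge)
  -- the map to the points of the test scheme
  let Φ : EndAV.Hom X Aw →+ Additive (T ⟶ Aw) :=
    (EndAV.Hom.ptsMap (A := X) (B := Aw) T).flip (Additive.ofMul g₀)
  have hΦ : ∀ φ, Φ φ = Additive.ofMul (g₀ ≫ φ.toHom) := fun _ => rfl
  have hker : (Preadditive.leftComp (CommGrp.mk Aw) f).range = Φ.ker := by
    refine AddSubgroup.ext fun (φ : EndAV.Hom X Aw) => ?_
    rw [AddMonoidHom.mem_range, AddMonoidHom.mem_ker, hΦ]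
    constructor
    · rintro ⟨(v : EndAV.Hom Y Aw), rfl⟩
      show Additive.ofMul (g₀ ≫ EndAV.Hom.toHom (f ≫ v)) = 0
      rw [EndAV.Hom.toHom_comp, ← Category.assoc, hg₀, MonObj.one_comp]
      rfl
    · intro hφ
      have hφ' : g₀ ≫ φ.toHom = 1 := congrArg Additive.toMul hφ
      rcases hdich φ with hk | hk
      · obtain ⟨v, hv, hfv⟩ := exists_factor f.toHom hf φ.toHom hk
        exact ⟨EndAV.Hom.of v, EndAV.Hom.ext hfv⟩
      · exact absurd (hk T g₀ hg₀ hφ') hg₀1
  rw [hidx, hker, AddSubgroup.index_ker]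
  refine le_trans ?_ hcardT
  have hlift : ∀ z : Φ.range, ∃ t : T ⟶ NS, t ≫ iS = (z : Additive (T ⟶ Aw)).toMul := by
    rintro ⟨_, φ, rfl⟩
    exact IsogLib.exists_kernel_lift qS hNS _ (hland φ T g₀ hg₀)
  choose t ht using hlift
  refine Nat.card_le_card_of_injective (fun z => (⟨(t z ≫ inv j) ≫ i, by
    rw [Category.assoc, IsogLib.kernel_comp _ hN, MonObj.comp_one]⟩ : {g : T ⟶ X // g ≫ f.toHom = 1})) fun a b hab => ?_
  have h2 : t a = t b := by
    have h3 := (cancel_mono i).1 (congrArg Subtype.val hab)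
    exact (cancel_mono (inv j)).1 h3
  exact Subtype.ext (Additive.toMul.injective (by rw [← ht a, ← ht b, h2]))

/-- The index of the image of `Hom(Y, A_w)` in `Hom(X, A_w)` is at most the degree. -/
theorem Data.hidx_le (h : Data Aw p P) : ∀ (d : ℕ) (X Y : Over (Spec (CommRingCat.of k))) [GrpObj X] [IsCommMonObj X]
    [IsProper X.hom] [GeometricallyIntegral X.hom] [GrpObj Y] [IsCommMonObj Y] [IsProper Y.hom]
    [GeometricallyIntegral Y.hom], Mem P X → Mem P Y → ∀ f : EndAV.Hom X Y, Isg f.toHom → deg f.toHom = d →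
      hidx Aw f ≤ d := by
  intro d
  induction d using Nat.strong_induction_on with
  | _ d ih =>
    intro X Y _ _ _ _ _ _ _ _ hX hY f hf hd
    by_cases h1 : deg f.toHom = 1
    · haveI := isIso_of_deg_eq_one f.toHom hf h1
      haveI := isIso_hom f
      rw [hidx_of_isIso, ← hd, h1]
    by_cases hmin : ∀ (W : Over (Spec (CommRingCat.of k))) [GrpObj W] [IsCommMonObj W] [IsProper W.hom]
        [GeometricallyIntegral W.hom] (f₁ : X ⟶ W) [IsMonHom f₁] (f₂ : W ⟶ Y) [IsMonHom f₂],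
        Isg f₁ → Isg f₂ → f₁ ≫ f₂ = f.toHom → deg f₁ = 1 ∨ deg f₂ = 1
    · exact hd ▸ h.hidx_le_of_minimal hX hY f hf h1 hmin
    push Not at hmin
    obtain ⟨W, _, _, _, _, f₁, hf₁, f₂, hf₂, hi₁, hi₂, hc, hne₁, hne₂⟩ := hmin
    haveI := hf₁
    haveI := hf₂
    have hmul : d = deg f₁ * deg f₂ := by
      rw [← hd, ← deg_comp f₁ f₂ hi₁ hi₂]; simp [hc]
    have p₁ := deg_pos f₁ hi₁
    have p₂ := deg_pos f₂ hi₂
    have hW : Mem P W := Mem.of_isg_source (f := EndAV.Hom.of f₂) hY hi₂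
    have e : f = EndAV.Hom.of f₁ ≫ EndAV.Hom.of f₂ := EndAV.Hom.ext (by
      rw [EndAV.Hom.toHom_comp, EndAV.Hom.toHom_of, EndAV.Hom.toHom_of, hc])
    rw [e, hidx_comp _ _ (by rw [EndAV.Hom.toHom_of]; exact hi₁)]
    have l₁ := ih (deg f₁) (by rw [hmul]; exact lt_mul_of_one_lt_right p₁ (by omega)) X W hX hW (EndAV.Hom.of f₁) hi₁ rfl
    have l₂ := ih (deg f₂) (by rw [hmul]; exact lt_mul_of_one_lt_left p₂ (by omega)) W Y hW hY (EndAV.Hom.of f₂) hi₂ rfl
    rw [hmul]
    exact Nat.mul_le_mul l₁ l₂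

/-- The index of the image of `Hom(Y, A_w)` in `Hom(X, A_w)` is the degree. -/
theorem Data.hidx_eq_deg (h : Data Aw p P) (hX : Mem P X) (hY : Mem P Y) (f : EndAV.Hom X Y) (hf : Isg f.toHom) :
    hidx Aw f = deg f.toHom := by
  obtain ⟨ψ, hψ, hψi, hfψ, -⟩ := exists_inverse f.toHom hf
  haveI := hψ
  obtain ⟨g, hg⟩ := AVDegPoly.exists_dim (A := X)
  have e : f ≫ EndAV.Hom.of ψ = (show EndAV.Hom X X from (deg f.toHom : EndAV.End X)) := EndAV.Hom.ext (by
    rw [EndAV.Hom.toHom_comp, EndAV.Hom.toHom_of, hfψ]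
    exact (EndAV.End.toHom_natCast _).symm)
  have h1 : hidx Aw f * hidx Aw (EndAV.Hom.of ψ) = deg f.toHom ^ (2 * g) := by
    rw [← hidx_comp f _ hf, e, h.hidx_natCast hX hg]
  have h2 : deg f.toHom * deg ψ = deg f.toHom ^ (2 * g) := by
    rw [← deg_comp f.toHom ψ hf hψi, ← deg_pow hg _ (deg_pos _ hf)]
    simp [hfψ]
  have l₁ := h.hidx_le _ X Y hX hY f hf rfl
  have l₂ := h.hidx_le _ Y X hY hX (EndAV.Hom.of ψ) hψi rfl
  have hpos := Nat.pow_pos (n := 2 * g) (deg_pos f.toHom hf)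
  refine le_antisymm l₁ (Nat.le_of_mul_le_mul_right ?_ (deg_pos ψ hψi))
  rw [h2, ← h1]
  exact Nat.mul_le_mul_left _ l₂

end Groth.Agent.CSEquiv
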