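import Mathlib.Algebra.Module.LocalizedModule.Basic
import Mathlib.RingTheory.Localization.AtPrime.Basic
import Mathlib.RingTheory.Finiteness.Nakayama
import Mathlib.RingTheory.Finiteness.Basic
import Mathlib.GroupTheory.Index
import Mathlib.Tactic.LinearCombination

/-!
Locally free modules of rank one.
-/

set_option autoImplicit false

namespace Groth.Agent.CSEquiv

variable {R M : Type*} [CommRing R] [AddCommGroup M] [Module R M]

/-- Up to inverting an element outside `m`, the module is cyclic. -/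
def Cyc (R M : Type*) [CommRing R] [AddCommGroup M] [Module R M] (m : Ideal R) : Prop :=
  ∃ (x : M) (t : R), t ∉ m ∧ ∀ y : M, ∃ r : R, t • y = r • x

/-- A faithful, locally cyclic module is locally free of rank one. -/
theorem nonempty_equiv (hfaith : ∀ s : R, (∀ y : M, s • y = 0) → s = 0)
    (hcyc : ∀ m : Ideal R, m.IsMaximal → Cyc R M m) (P : Ideal R) [hP : P.IsPrime] :
    Nonempty (LocalizedModule P.primeCompl M ≃ₗ[Localization.AtPrime P] Localization.AtPrime P) := by
  obtain ⟨m, hm, hPm⟩ := Ideal.exists_le_maximal P hP.ne_top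
  obtain ⟨x, t, ht, hx⟩ := hcyc m hm
  have htP : t ∈ P.primeCompl := fun h => ht (hPm h)
  let Ψ := LinearMap.toSpanSingleton (Localization.AtPrime P) (LocalizedModule P.primeCompl M)
    (LocalizedModule.mk x (1 : P.primeCompl))
  have hΨ : ∀ (r : R) (s : P.primeCompl), Ψ (Localization.mk r s) = LocalizedModule.mk (r • x) s := fun r s => by
    show Localization.mk r s • LocalizedModule.mk x (1 : P.primeCompl) = _
    rw [LocalizedModule.mk_smul_mk, mul_one]
  refine ⟨(LinearEquiv.ofBijective Ψ ⟨?_, ?_⟩).symm⟩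
  · rw [injective_iff_map_eq_zero]
    intro c hc
    induction c using Localization.induction_on with
    | _ rs =>
      obtain ⟨r, s⟩ := rs
      rw [hΨ, ← LocalizedModule.zero_mk s, LocalizedModule.mk_eq] at hc
      obtain ⟨u, hu⟩ := hc
      simp only [smul_zero, Submonoid.smul_def, smul_smul] at hu
      have h0 : (u : R) * s * r * t = 0 := hfaith _ fun y => by
        obtain ⟨r', hr'⟩ := hx y
        rw [mul_smul, hr', smul_comm, mul_assoc, hu, smul_zero]
      rw [← Localization.mk_zero s, Localization.mk_eq_mk_iff, Localization.r_iff_exists]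
      exact ⟨u * ⟨t, htP⟩, by simp only [Submonoid.coe_mul, mul_zero]; linear_combination h0⟩
  · intro z
    induction z using LocalizedModule.induction_on with
    | h y s =>
      obtain ⟨r, hr⟩ := hx y
      refine ⟨Localization.mk r (⟨t, htP⟩ * s), ?_⟩
      rw [hΨ, LocalizedModule.mk_eq]
      refine ⟨1, ?_⟩
      simp only [Submonoid.smul_def, Submonoid.coe_mul, OneMemClass.coe_one, one_smul, ← hr, smul_smul]
      rw [mul_comm]

/-- A locally free module of rank one is locally cyclic. -/
theorem cyc_of_equiv [Module.Finite R M] (m : Ideal R) [m.IsPrime]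
    (e : LocalizedModule m.primeCompl M ≃ₗ[Localization.AtPrime m] Localization.AtPrime m) :
    Cyc R M m ∧ ∀ s : R, (∀ y : M, s • y = 0) → ∃ u ∉ m, u * s = 0 := by
  classical
  obtain ⟨x, t₀, hx⟩ : ∃ (x : M) (t₀ : m.primeCompl), e.symm 1 = LocalizedModule.mk x t₀ := by
    generalize e.symm 1 = z
    induction z using LocalizedModule.induction_on with
    | h y s => exact ⟨y, s, rfl⟩
  have hy : ∀ y : M, ∃ t ∉ m, ∃ r : R, t • y = r • x := fun y => by
    obtain ⟨r, s, hrs⟩ : ∃ (r : R) (s : m.primeCompl), e (LocalizedModule.mk y 1) = Localization.mk r s := by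
      generalize e (LocalizedModule.mk y 1) = c
      induction c using Localization.induction_on with
      | _ rs => exact ⟨rs.1, rs.2, rfl⟩
    have h1 : LocalizedModule.mk y 1 = Localization.mk r s • LocalizedModule.mk x t₀ := by
      rw [← hx, ← map_smul, ← hrs, smul_eq_mul, mul_one, e.symm_apply_apply]
    rw [LocalizedModule.mk_smul_mk, LocalizedModule.mk_eq] at h1
    obtain ⟨u, hu⟩ := h1
    simp only [Submonoid.smul_def, Submonoid.coe_mul, OneMemClass.coe_one, smul_smul, mul_one, one_smul] at hu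
    exact ⟨u * (s * t₀), (u * (s * t₀)).2, u * r, hu⟩
  refine ⟨?_, fun s hs => ?_⟩
  · obtain ⟨S, hS⟩ := Module.Finite.fg_top (R := R) (M := M)
    choose t ht r hr using hy
    refine ⟨x, ∏ y ∈ S, t y, fun h => ?_, fun z => ?_⟩
    · obtain ⟨y, -, hy'⟩ := ((inferInstance : m.IsPrime).prod_mem_iff).1 h
      exact ht y hy'
    have hz : z ∈ Submodule.span R (S : Set M) := hS ▸ Submodule.mem_top
    induction hz using Submodule.span_induction with
    | mem y hy' => exact ⟨(∏ y' ∈ S.erase y, t y') * r y, by rw [← Finset.prod_erase_mul _ _ hy', mul_smul, hr, smul_smul]⟩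
    | zero => exact ⟨0, by simp⟩
    | add a b _ _ ha hb =>
      obtain ⟨c, hc⟩ := ha
      obtain ⟨d, hd⟩ := hb
      exact ⟨c + d, by rw [smul_add, hc, hd, add_smul]⟩
    | smul c a _ ha =>
      obtain ⟨d, hd⟩ := ha
      exact ⟨c * d, by rw [smul_comm, hd, smul_smul]⟩
  · have h1 : Localization.mk s (1 : m.primeCompl) • e.symm 1 = 0 := by
      rw [hx, LocalizedModule.mk_smul_mk, hs, LocalizedModule.zero_mk]
    rw [← map_smul, smul_eq_mul, mul_one, e.symm.map_eq_zero_iff, ← Localization.mk_zero 1,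
      Localization.mk_eq_mk_iff, Localization.r_iff_exists] at h1
    obtain ⟨u, hu⟩ := h1
    exact ⟨u, u.2, by simpa using hu⟩

/-- If `M / m M` is no larger than the residue field, the module is cyclic near `m`. -/
theorem cyc_of_index [Module.Finite R M] (m : Ideal R) [m.IsMaximal]
    (hm : (Submodule.toAddSubgroup m).index ≠ 0)
    (hidx : (m • (⊤ : Submodule R M)).toAddSubgroup.index = (Submodule.toAddSubgroup m).index) : Cyc R M m := by
  let N := m • (⊤ : Submodule R M)
  have hne : N ≠ ⊤ := fun h => by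
    rw [show m • (⊤ : Submodule R M) = ⊤ from h, Submodule.top_toAddSubgroup, AddSubgroup.index_top] at hidx
    exact Ideal.IsMaximal.ne_top ‹_› ((Submodule.toAddSubgroup_inj _ _).1
      ((AddSubgroup.index_eq_one.1 hidx.symm).trans Submodule.top_toAddSubgroup.symm))
  obtain ⟨x, -, hx⟩ := SetLike.exists_of_lt (lt_top_iff_ne_top.2 hne)
  let f : R →+ M := (LinearMap.toSpanSingleton R M x).toAddMonoidHom
  have hcol : N.comap (LinearMap.toSpanSingleton R M x) = m := by
    refine (Ideal.IsMaximal.eq_of_le ‹_› (fun h => hx ?_) fun s hs => ?_).symm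
    · have h' : (1 : R) ∈ N.comap (LinearMap.toSpanSingleton R M x) := h ▸ Submodule.mem_top
      simpa using h'
    · exact Submodule.smul_mem_smul hs trivial
  have hcomap : N.toAddSubgroup.comap f = Submodule.toAddSubgroup m := by rw [← hcol]; rfl
  have htop : f.range ⊔ N.toAddSubgroup = ⊤ := by
    refine AddSubgroup.index_eq_one.1 ?_
    have hmul := AddSubgroup.relIndex_mul_index (show N.toAddSubgroup ≤ f.range ⊔ N.toAddSubgroup from le_sup_right)
    rw [AddSubgroup.relIndex_sup_right, ← AddSubgroup.index_comap, hcomap, hidx] at hmul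
    exact (mul_eq_left₀ hm).1 hmul
  let X := Submodule.span R {x}
  obtain ⟨r, hr1, hr0⟩ := Submodule.exists_sub_one_mem_and_smul_eq_zero_of_fg_of_le_smul m
    (⊤ : Submodule R (M ⧸ X)) Module.Finite.fg_top (fun z _ => by
      obtain ⟨z, rfl⟩ := X.mkQ_surjective z
      have hz : z ∈ f.range ⊔ N.toAddSubgroup := htop ▸ AddSubgroup.mem_top z
      obtain ⟨a, ⟨c, rfl⟩, b, hb, rfl⟩ := AddSubgroup.mem_sup.1 hz
      rw [map_add, show X.mkQ (f c) = 0 from (Submodule.Quotient.mk_eq_zero X).2
        (Submodule.mem_span_singleton.2 ⟨c, rfl⟩), zero_add]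
      have h2 := Submodule.mem_map_of_mem (f := X.mkQ) (show b ∈ N from hb)
      rw [Submodule.map_smul'', Submodule.map_top, Submodule.range_mkQ] at h2
      exact h2)
  refine ⟨x, r, fun hrm => ?_, fun y => ?_⟩
  · exact Ideal.IsMaximal.ne_top ‹_› ((Ideal.eq_top_iff_one m).2 (by simpa using m.sub_mem hrm hr1))
  · have h := hr0 (X.mkQ y) trivial
    rw [← map_smul, Submodule.mkQ_apply, Submodule.Quotient.mk_eq_zero] at h
    obtain ⟨c, hc⟩ := Submodule.mem_span_singleton.1 h
    exact ⟨c, hc.symm⟩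

/-- An endomorphism of a faithful locally cyclic module is a scalar. -/
theorem exists_scalar [Module.Finite R M] (hfaith : ∀ s : R, (∀ y : M, s • y = 0) → s = 0)
    (hcyc : ∀ m : Ideal R, m.IsMaximal → Cyc R M m) (L : M →ₗ[R] M) : ∃ s : R, ∀ y, L y = s • y := by
  let I : Ideal R :=
    { carrier := {t | ∃ s : R, ∀ y, t • L y = s • y}
      zero_mem' := ⟨0, fun y => by simp⟩
      add_mem' := fun {a b} ⟨c, hc⟩ ⟨d, hd⟩ => ⟨c + d, fun y => by rw [add_smul, hc, hd, add_smul]⟩
      smul_mem' := fun a b ⟨c, hc⟩ => ⟨a * c, fun y => by rw [smul_eq_mul, mul_smul, hc, mul_smul]⟩ }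
  have hI : I = ⊤ := by
    by_contra hI
    obtain ⟨m, hm, hIm⟩ := Ideal.exists_le_maximal I hI
    obtain ⟨x, t, ht, hx⟩ := hcyc m hm
    obtain ⟨a, ha⟩ := hx (L x)
    have h2 : t * t ∈ I := ⟨a * t, fun y => by
      obtain ⟨r, hr⟩ := hx y
      rw [mul_smul, ← map_smul, hr, map_smul, smul_comm, ha, mul_smul, hr, smul_comm]⟩
    exact ht ((hm.isPrime.mem_or_mem (hIm h2)).elim id id)
  obtain ⟨s, hs⟩ : (1 : R) ∈ I := hI ▸ Submodule.mem_top
  exact ⟨s, fun y => by rw [← hs, one_smul]⟩

/-- Being zero is local. -/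
theorem eq_zero_of_local {R : Type*} [CommRing R] {s : R} (h : ∀ m : Ideal R, m.IsMaximal → ∃ u ∉ m, u * s = 0) :
    s = 0 := by
  by_contra hs
  let I : Ideal R := LinearMap.ker (LinearMap.toSpanSingleton R R s)
  obtain ⟨m, hm, hIm⟩ := Ideal.exists_le_maximal I fun htop => hs (by
    have h1 : (1 : R) ∈ I := htop ▸ Submodule.mem_top
    simpa [I] using h1)
  obtain ⟨u, hu, hus⟩ := h m hm
  exact hu (hIm (by simpa [I] using hus))

end Groth.Agent.CSEquiv
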