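import Groth.Agent.CSEquiv.Upper
import Groth.Agent.CSEquiv.LocFree
import Mathlib.RingTheory.IntegralClosure.IsIntegralClosure.Basic
import Mathlib.RingTheory.Ideal.GoingUp

/-!
`M_w(A)` is locally free of rank one exactly when `End A` is the minimal central order.
-/

noncomputable section

set_option autoImplicit false
set_option linter.style.haveILetI false
set_option linter.unusedSectionVars false
set_option linter.overlappingInstances false
set_option backward.isDefEq.respectTransparency false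
set_option backward.isDefEq.respectTransparency.types false
set_option maxHeartbeats 800000
set_option synthInstance.maxHeartbeats 400000

universe u

open CategoryTheory CategoryTheory.Limits AlgebraicGeometry MonoidalCategory CartesianMonoidalCategory
open scoped MonObj

attribute [-instance] CategoryTheory.catToReflQuiver

namespace Groth.Agent.CSEquiv

variable {k : Type u} [Field k] [Finite k]
  {X : Over (Spec (CommRingCat.of k))} [GrpObj X] [IsCommMonObj X] [IsProper X.hom] [GeometricallyIntegral X.hom]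
  {Aw : Over (Spec (CommRingCat.of k))} [GrpObj Aw] [IsCommMonObj Aw] [IsProper Aw.hom] [GeometricallyIntegral Aw.hom]
  {p : ℕ} {P : Polynomial ℤ}

theorem Data.act_comp (h : Data Aw p P) (hX : Mem P X) (φ : EndAV.Hom X Aw) (s : EndAV.End Aw) :
    (show EndAV.Hom X X from h.act hX s) ≫ φ = φ ≫ (show EndAV.Hom Aw Aw from s) := by
  rw [h.act_natural hX h.mem_self φ s, h.act_self]

variable {R : Type*} [CommRing R] [Module R (EndAV.Hom X Aw)] (ρ : R ≃+* EndAV.End Aw)
  (hρ : ∀ (r : R) (φ : EndAV.Hom X Aw), r • φ = ρ r • φ)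

include hρ in
theorem Data.smul_eq (h : Data Aw p P) (hX : Mem P X) (r : R) (φ : EndAV.Hom X Aw) :
    r • φ = (show EndAV.Hom X X from h.act hX (ρ r)) ≫ φ :=
  (hρ r φ).trans (h.act_comp hX φ (ρ r)).symm

include hρ in
theorem finite_hom : Module.Finite R (EndAV.Hom X Aw) := by
  haveI : Module.Finite ℤ (EndAV.Hom X Aw) := (AVHomLib.hom_free (A := X) (B := Aw)).1
  obtain ⟨s, hs⟩ := Module.Finite.fg_top (R := ℤ) (M := EndAV.Hom X Aw)
  refine ⟨⟨s, eq_top_iff.2 fun φ _ => ?_⟩⟩
  exact Submodule.span_le_restrictScalars ℤ R _ (hs ▸ Submodule.mem_top : φ ∈ Submodule.span ℤ (s : Set _))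

include hρ in
/-- The action is injective exactly when the module is faithful. -/
theorem Data.faithful_iff (h : Data Aw p P) (hX : Mem P X) :
    Function.Injective (h.act hX) ↔ ∀ r : R, (∀ φ : EndAV.Hom X Aw, r • φ = 0) → r = 0 := by
  constructor
  · intro hinj r hr
    refine ρ.injective ((hinj ?_).trans (map_zero ρ).symm)
    rw [map_zero]
    exact h.hom_ext hX fun φ => (h.smul_eq ρ hρ hX r φ).symm.trans ((hr φ).trans Limits.zero_comp.symm)
  · intro hf
    refine (injective_iff_map_eq_zero _).2 fun s hs => ?_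
    obtain ⟨r, rfl⟩ := ρ.surjective s
    rw [hf r fun φ => ?_, map_zero]
    rw [h.smul_eq ρ hρ hX, hs]
    exact Limits.zero_comp

include hρ in
/-- Being killed by `m • Hom(X, A_w)` is being killed by the action of `m`. -/
theorem Data.killed_smul_iff (h : Data Aw p P) (hX : Mem P X) (m : Ideal R)
    {T : Over (Spec (CommRingCat.of k))} (g : T ⟶ X) :
    (∀ φ ∈ m • (⊤ : Submodule R (EndAV.Hom X Aw)), g ≫ φ.toHom = 1) ↔
      ∀ r ∈ m, g ≫ EndAV.End.toHom (h.act hX (ρ r)) = 1 := by
  have key : ∀ (r : R) (φ : EndAV.Hom X Aw), g ≫ (r • φ).toHom = (g ≫ EndAV.End.toHom (h.act hX (ρ r))) ≫ φ.toHom :=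
    fun r φ => by
      rw [Category.assoc]
      exact congrArg (fun t => g ≫ t) (congrArg EndAV.Hom.toHom (h.smul_eq ρ hρ hX r φ))
  constructor
  · intro hg r hr
    refine h.eq_one_of_killed hX _ fun φ => ?_
    rw [← key]
    exact hg _ (Submodule.smul_mem_smul hr trivial)
  · intro hg φ hφ
    refine Submodule.smul_induction_on (p := fun ψ : EndAV.Hom X Aw => g ≫ ψ.toHom = 1) hφ
      (fun r hr ψ _ => ?_) fun a b ha hb => ?_
    · rw [key, hg r hr, MonObj.one_comp]
    · rw [EndAV.Hom.toHom_add, MonObj.comp_mul, ha, hb, _root_.one_mul]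

include hρ in
/-- When `End X` is the minimal central order, `Hom(X, A_w)` is locally cyclic. -/
theorem Data.cyc_of_bijective (h : Data Aw p P) (hA : Data X p P) (hX : Mem P X)
    (hbij : Function.Bijective (h.act hX)) (m : Ideal R) [hm : m.IsMaximal] : Cyc R (EndAV.Hom X Aw) m := by
  haveI := finite_hom ρ hρ
  haveI : Module.Finite ℤ (EndAV.End Aw) := (AVHomLib.hom_free (A := Aw) (B := Aw)).1
  haveI : Module.Free ℤ (EndAV.End Aw) := (AVHomLib.hom_free (A := Aw) (B := Aw)).2
  let eR : EndAV.End Aw ≃ₗ[ℤ] R := ρ.symm.toAddEquiv.toIntLinearEquiv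
  haveI : Module.Finite ℤ R := Module.Finite.equiv eR
  haveI : Module.Free ℤ R := Module.Free.of_equiv eR
  -- a positive integer in the ideal
  obtain ⟨n, hn, hnm⟩ : ∃ n : ℕ, 0 < n ∧ (n : R) ∈ m := by
    haveI : Algebra.IsIntegral ℤ R := Algebra.IsIntegral.of_finite ℤ R
    have hmax : (m.comap (algebraMap ℤ R)).IsMaximal := Ideal.isMaximal_comap_of_isIntegral_of_isMaximal m
    obtain ⟨c, hc, hc0⟩ := Submodule.exists_mem_ne_zero_of_ne_bot (Ideal.IsMaximal.ne_bot_of_isIntegral_int (m.comap (algebraMap ℤ R)))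
    refine ⟨c.natAbs, Int.natAbs_pos.2 hc0, ?_⟩
    have hc' : (c : R) ∈ m := by simpa using hc
    rcases Int.natAbs_eq c with e | e
    · rw [e, Int.cast_natCast] at hc'; exact hc'
    · rw [e, Int.cast_neg, Int.cast_natCast] at hc'; exact neg_mem_iff.1 hc'
  have hnm' : ∀ r : R, n • r ∈ m := fun r => by rw [nsmul_eq_mul]; exact m.mul_mem_right r hnm
  refine cyc_of_index m (index_ne_zero (E := R) (M := R) hn hnm') ?_
  let S : Submodule (EndAV.End Aw) (EndAV.Hom X Aw) :=
    { carrier := {φ | φ ∈ m • (⊤ : Submodule R (EndAV.Hom X Aw))}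
      zero_mem' := (m • (⊤ : Submodule R (EndAV.Hom X Aw))).zero_mem
      add_mem' := fun {a b} ha hb => (m • (⊤ : Submodule R (EndAV.Hom X Aw))).add_mem ha hb
      smul_mem' := fun t φ hφ => by
        obtain ⟨r, rfl⟩ := ρ.surjective t
        show ρ r • φ ∈ m • (⊤ : Submodule R (EndAV.Hom X Aw))
        rw [← hρ]
        exact Submodule.smul_mem _ r hφ }
  let SA : Submodule (EndAV.End X) (EndAV.Hom X X) :=
    { carrier := {φ | ∃ r ∈ m, h.act hX (ρ r) = φ}
      zero_mem' := ⟨0, m.zero_mem, by rw [map_zero, map_zero]⟩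
      add_mem' := fun {a b} ⟨c, hc, ha⟩ ⟨d, hd, hb⟩ => ⟨c + d, m.add_mem hc hd, by rw [map_add, map_add, ha, hb]⟩
      smul_mem' := fun t φ ⟨r, hr, hφ⟩ => by
        obtain ⟨s, hs⟩ := hbij.2 t
        obtain ⟨r', hr'⟩ := ρ.surjective s
        exact ⟨r' * r, m.mul_mem_left r' hr, by rw [map_mul, map_mul, hr', hs, hφ]; rfl⟩ }
  have hnS : ∀ φ, n • φ ∈ S := fun φ => by
    show n • φ ∈ m • (⊤ : Submodule R (EndAV.Hom X Aw))
    rw [← Nat.cast_smul_eq_nsmul R]
    exact Submodule.smul_mem_smul hnm trivial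
  have hnSA : ∀ φ, n • φ ∈ SA := fun φ => by
    obtain ⟨s, hs⟩ := hbij.2 φ
    obtain ⟨r, hr⟩ := ρ.surjective s
    exact ⟨n • r, hnm' r, by rw [map_nsmul, map_nsmul, hr, hs]⟩
  obtain ⟨Q, i1, i2, i3, i4, q, hq, hqi, hqk⟩ := (cut_kill (X := X) n hn S).quot
  have e1 : deg q = S.toAddSubgroup.index :=
    h.ord_eq_index' hX hn hnS ⟨Q, i1, i2, i3, i4, q, hq, hqi, rfl, hqk⟩
  have e2 : deg q = SA.toAddSubgroup.index := by
    refine hA.ord_eq_index hn hnSA ⟨Q, i1, i2, i3, i4, q, hq, hqi, rfl, fun T g => (hqk T g).trans ?_⟩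
    exact and_congr Iff.rfl ((h.killed_smul_iff ρ hρ hX m g).trans
      ⟨fun hg φ ⟨r, hr, hφ⟩ => hφ ▸ hg r hr, fun hg r hr => hg (h.act hX (ρ r)) ⟨r, hr, rfl⟩⟩)
  have e3 : SA.toAddSubgroup.index = (Submodule.toAddSubgroup m).index := by
    let e : R ≃+ EndAV.Hom X X := ρ.toAddEquiv.trans (RingEquiv.ofBijective (h.act hX) hbij).toAddEquiv
    rw [show SA.toAddSubgroup = (Submodule.toAddSubgroup m).map e.toAddMonoidHom from rfl]
    exact AddSubgroup.index_map_of_bijective e.bijective _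
  exact e1.symm.trans (e2.trans e3)

include hρ in
/-- When `Hom(X, A_w)` is faithful and locally cyclic, `End X` is the minimal central order. -/
theorem Data.bijective_of_cyc (h : Data Aw p P) (hX : Mem P X)
    (hfaith : ∀ r : R, (∀ φ : EndAV.Hom X Aw, r • φ = 0) → r = 0)
    (hcyc : ∀ m : Ideal R, m.IsMaximal → Cyc R (EndAV.Hom X Aw) m) : Function.Bijective (h.act hX) := by
  haveI := finite_hom ρ hρ
  refine ⟨(h.faithful_iff ρ hρ hX).2 hfaith, fun f => ?_⟩
  obtain ⟨r, hr⟩ := exists_scalar hfaith hcyc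
    { toFun := fun φ => (show EndAV.Hom X X from f) ≫ φ
      map_add' := fun a b => Preadditive.comp_add _ _ _ _ _ _
      map_smul' := fun r φ => by
        rw [RingHom.id_apply, hρ, hρ]
        exact (Category.assoc _ _ _).symm }
  exact ⟨ρ r, h.hom_ext hX fun φ => (h.smul_eq ρ hρ hX r φ).symm.trans (hr φ).symm⟩

end Groth.Agent.CSEquiv
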