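import Groth.Agent.WeilNumLib.Central
import Mathlib.Analysis.Complex.Basic

/-!
The minimal central order of a family of Weil `q`-numbers carries a unimodular symmetric pairing `λ (x y)`,
`λ` the coefficient of `V ^ D`.
-/

set_option autoImplicit false

universe u

open MvPolynomial

namespace Groth.Agent.CSEquiv

open Groth.Agent.WeilNumLib

local notation "R₂" => MvPolynomial (Fin 2) ℤ

/-- A monic integer polynomial without real roots has even degree. -/
theorem even_natDegree {P : Polynomial ℤ} (hP : P.Monic) (hnr : ∀ z ∈ P.aroots ℂ, z.im ≠ 0) :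
    Even P.natDegree := by
  classical
  have hcard : (P.aroots ℂ).card = P.natDegree := by
    rw [Polynomial.aroots_def, IsAlgClosed.card_roots_eq_natDegree, hP.natDegree_map]
  have hsplit := Multiset.filter_add_not (fun z : ℂ => 0 < z.im) (P.aroots ℂ)
  have e : ((P.aroots ℂ).filter fun z => ¬ 0 < z.im).card = ((P.aroots ℂ).filter fun z => 0 < z.im).card := by
    conv_lhs => rw [← map_conj_aroots P, Multiset.filter_map, Multiset.card_map]
    refine congrArg Multiset.card (Multiset.filter_congr fun z hz => ?_)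
    have := hnr z hz
    simp only [Function.comp, Complex.conj_im, Left.neg_pos_iff, not_lt]
    exact ⟨fun h => lt_of_le_of_ne h (Ne.symm this), fun h => h.le⟩
  exact ⟨_, by rw [← hcard, ← hsplit, Multiset.card_add, e]⟩

section Range

variable {ι : Type} [Fintype ι] {K : ι → Type u} [∀ i, Field (K i)] [∀ i, CharZero (K i)] {π : ∀ i, K i}
  {q : ℤ} {D : ℕ}

theorem span_ev (hf : Family π q D) {ε : ℤ} (hε1 : ε = 1 ∨ ε = -1)
    (hε : (∏ i, minpoly ℤ (π i)).coeff 0 = ε * q ^ D) (g : R₂) :
    ev π q g ∈ Submodule.span ℤ (Set.range (ev π q ∘ fam D)) := by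
  obtain ⟨y, hy, z, hz, rfl⟩ := Submodule.mem_sup.1 (span_fam_sup (q := q) hf.natDegree_prod hf.monic_prod hε1
    (I := RingHom.ker (ev π q)) (ev_fvq hf)
    (ev_h hf (Ideal.mem_span_singleton.2 (hStd_spec hf.natDegree_prod (IsWeilPoly.prod hf.weil) hf.q0 hε))) g)
  have hz0 : ev π q z = 0 := hz
  rw [map_add, hz0, add_zero]
  obtain ⟨c, rfl⟩ := (Submodule.mem_span_range_iff_exists_fun ℤ).1 hy
  exact (Submodule.mem_span_range_iff_exists_fun ℤ).2 ⟨c, by simp [map_sum]⟩

theorem exists_coeff (hf : Family π q D) (hD : 0 < D) :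
    ∃ lam : (ev π q).range →ₗ[ℤ] ℤ, ∃ b : Module.Basis (Fin D ⊕ Fin D) ℤ (ev π q).range,
      (∀ k, (b k).1 = ev π q (fam D k)) ∧ ∀ k, lam (b k) = if k = Sum.inr ⟨D - 1, by omega⟩ then 1 else 0 := by
  classical
  obtain ⟨ε, hε1, hε⟩ := hf.exists_sign
  let b : Fin D ⊕ Fin D → (ev π q).range := fun k => ⟨ev π q (fam D k), ⟨_, rfl⟩⟩
  have hli : LinearIndependent ℤ b :=
    LinearIndependent.of_comp (ev π q).range.val.toLinearMap hf.linearIndependent_fam
  have hsp : ⊤ ≤ Submodule.span ℤ (Set.range b) := by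
    rintro ⟨_, g, rfl⟩ -
    obtain ⟨c, hc⟩ := (Submodule.mem_span_range_iff_exists_fun ℤ).1 (span_ev hf hε1 hε g)
    exact (Submodule.mem_span_range_iff_exists_fun ℤ).2 ⟨c, Subtype.ext (by simpa [b] using hc)⟩
  refine ⟨(Module.Basis.mk hli hsp).constr ℤ (fun k => if k = Sum.inr ⟨D - 1, by omega⟩ then 1 else 0),
    Module.Basis.mk hli hsp, fun k => ?_, fun k => ?_⟩
  · rw [Module.Basis.mk_apply]
  · rw [Module.Basis.constr_basis]

/-- The pairing `λ (x y)` is unimodular: it detects divisibility. -/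
theorem exists_frobenius (hf : Family π q D) :
    ∃ lam : (ev π q).range →ₗ[ℤ] ℤ, ∀ (n : ℕ) (x : (ev π q).range),
      (∀ y, (n : ℤ) ∣ lam (x * y)) → ∃ z : (ev π q).range, x = n • z := by
  classical
  rcases Nat.eq_zero_or_pos D with hD | hD
  · subst hD
    refine ⟨0, fun n x _ => ⟨0, ?_⟩⟩
    obtain ⟨h1, h2, h3⟩ := hf.free_range
    haveI := h3
    haveI := h1
    haveI : Subsingleton (ev π q).range := Module.finrank_zero_iff.1 h2
    exact Subsingleton.elim _ _
  obtain ⟨lam, b, hb, hlam⟩ := exists_coeff hf hD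
  obtain ⟨ε, hε1, hε⟩ := hf.exists_sign
  let top : Fin D := ⟨D - 1, by omega⟩
  let F : (ev π q).range := ⟨ev π q (X 0), _, rfl⟩
  let V : (ev π q).range := ⟨ev π q (X 1), _, rfl⟩
  have hFV : F * V = algebraMap ℤ (ev π q).range q := Subtype.ext (by simp [F, V, ev_X hf])
  have hbl : ∀ i : Fin D, b (.inl i) = F ^ (i : ℕ) := fun i => Subtype.ext (by simp [hb, fam, F])
  have hbr : ∀ j : Fin D, b (.inr j) = V ^ ((j : ℕ) + 1) := fun j => Subtype.ext (by simp [hb, fam, V])
  have hF : ∀ m, m < D → lam (F ^ m) = 0 := fun m hm => by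
    rw [← hbl ⟨m, hm⟩, hlam, if_neg (by simp)]
  have hV : ∀ m, m ≤ D → lam (V ^ m) = if m = D then 1 else 0 := by
    intro m hm
    rcases Nat.eq_zero_or_pos m with h0 | h0
    · subst h0
      rw [pow_zero, ← pow_zero F, hF 0 hD, if_neg (by omega)]
    · have e : V ^ m = b (.inr ⟨m - 1, by omega⟩) := by
        rw [hbr]; congr 1; show m = m - 1 + 1; omega
      rw [e, hlam]
      refine if_congr ?_ rfl rfl
      simp only [Sum.inr.injEq, Fin.ext_iff]
      omega
  have hred : ∀ m d, F ^ (m + d) * V ^ d = algebraMap ℤ (ev π q).range (q ^ d) * F ^ m ∧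
      F ^ d * V ^ (m + d) = algebraMap ℤ (ev π q).range (q ^ d) * V ^ m := by
    intro m d
    constructor <;> rw [map_pow, ← hFV, mul_pow, pow_add] <;> ring
  have hmix : ∀ a c, a < D → c ≤ D → 0 < a ∨ c < D → lam (F ^ a * V ^ c) = 0 := by
    intro a c ha hc h
    rcases le_total a c with hac | hac
    · obtain ⟨m, rfl⟩ := Nat.exists_eq_add_of_le hac
      rw [add_comm a m, (hred m a).2, ← Algebra.smul_def, map_smul, hV m (by omega), if_neg (by omega),
        smul_zero]
    · obtain ⟨m, rfl⟩ := Nat.exists_eq_add_of_le hac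
      rw [add_comm c m, (hred m c).1, ← Algebra.smul_def, map_smul, hF m (by omega), smul_zero]
  have hFD : lam (F ^ D) = -ε := by
    have h0 := ev_h hf (Ideal.mem_span_singleton.2
      (hStd_spec hf.natDegree_prod (IsWeilPoly.prod hf.weil) hf.q0 hε))
    set P := ∏ i, minpoly ℤ (π i) with hP
    have h1 : algebraMap ℤ (ev π q).range (P.coeff D) + ∑ r ∈ Finset.range D,
        algebraMap ℤ (ev π q).range (P.coeff (D + (r + 1))) *
          (F ^ (r + 1) + algebraMap ℤ (ev π q).range ε * V ^ (r + 1)) = 0 := Subtype.ext (by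
      refine Eq.trans ?_ h0
      simp [hStd, map_sum, F, V])
    have h2 := congrArg lam h1
    rw [map_add, map_sum, map_zero, Algebra.algebraMap_eq_smul_one, map_smul, ← pow_zero F, hF 0 hD,
      smul_zero, zero_add] at h2
    simp only [← Algebra.smul_def, map_smul, map_add, smul_eq_mul] at h2
    obtain ⟨d, rfl⟩ : ∃ d, D = d + 1 := ⟨D - 1, by omega⟩
    rw [Finset.sum_range_succ, Finset.sum_eq_zero fun r hr => ?_, zero_add,
      show P.coeff (d + 1 + (d + 1)) = 1 by
        have := hf.monic_prod.coeff_natDegree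
        rw [← hP, show P.natDegree = d + 1 + (d + 1) by rw [hP, hf.natDegree_prod]; ring] at this
        exact this,
      one_mul, hV (d + 1) le_rfl, if_pos rfl] at h2
    · linarith
    · have := Finset.mem_range.1 hr
      rw [hF _ (by omega), hV _ (by omega), if_neg (by omega)]
      ring
  refine ⟨lam, fun n x hx => ?_⟩
  have hexp : ∀ y, x * y = ∑ k, b.repr x k • (b k * y) := fun y => by
    conv_lhs => rw [← b.sum_repr x, Finset.sum_mul]
    exact Finset.sum_congr rfl fun k _ => smul_mul_assoc _ _ _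
  have hd : ∀ y, (n : ℤ) ∣ (∑ i, b.repr x (.inl i) * lam (F ^ (i : ℕ) * y)) +
      ∑ j, b.repr x (.inr j) * lam (V ^ ((j : ℕ) + 1) * y) := fun y => by
    have := hx y
    rwa [hexp y, map_sum, Fintype.sum_sum_type, Finset.sum_congr rfl fun i _ => (by rw [map_smul, hbl, smul_eq_mul] :
      lam (b.repr x (.inl i) • (b (.inl i) * y)) = b.repr x (.inl i) * lam (F ^ (i : ℕ) * y)),
      Finset.sum_congr rfl fun j _ => (by rw [map_smul, hbr, smul_eq_mul] :
      lam (b.repr x (.inr j) • (b (.inr j) * y)) = b.repr x (.inr j) * lam (V ^ ((j : ℕ) + 1) * y))] at this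
  -- the coefficient of `V ^ D`
  have htop : (n : ℤ) ∣ b.repr x (.inr top) := by
    have := hd (F ^ 0)
    rw [Finset.sum_eq_zero fun i _ => (by rw [← pow_add, hF _ (by omega), mul_zero] :
      b.repr x (.inl i) * lam (F ^ (i : ℕ) * F ^ 0) = 0), zero_add, Finset.sum_eq_single top] at this
    · rwa [pow_zero, mul_one, hV _ (by show D - 1 + 1 ≤ D; omega), if_pos (by show D - 1 + 1 = D; omega),
        mul_one] at this
    · intro j _ hj
      rw [pow_zero, mul_one, hV _ j.2, if_neg, mul_zero]
      intro h; exact hj (Fin.ext (by show (j : ℕ) = D - 1; omega))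
    · simp
  -- the positive powers of `V`
  have hvs : ∀ j : Fin D, (n : ℤ) ∣ b.repr x (.inr j) := by
    suffices h : ∀ c, ∀ j : Fin D, D - ((j : ℕ) + 1) = c → (n : ℤ) ∣ b.repr x (.inr j) from fun j => h _ j rfl
    intro c
    induction c using Nat.strong_induction_on with
    | _ c ih =>
      intro j hj
      rcases Nat.eq_zero_or_pos c with h0 | h0
      · rw [show j = top from Fin.ext (by show (j : ℕ) = D - 1; omega)]; exact htop
      have := hd (V ^ c)
      rw [Finset.sum_eq_zero fun i _ => (by rw [hmix _ _ i.2 (by omega) (Or.inr (by omega)), mul_zero] :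
        b.repr x (.inl i) * lam (F ^ (i : ℕ) * V ^ c) = 0), zero_add,
        ← Finset.add_sum_erase _ _ (Finset.mem_univ j)] at this
      rw [← pow_add, hV _ (by omega), if_pos (by omega), mul_one] at this
      refine (Int.dvd_add_left (Finset.dvd_sum fun j' hj' => ?_)).1 this
      rw [← pow_add]
      have hne := (Finset.mem_erase.1 hj').1
      have hne' : (j' : ℕ) ≠ j := fun h => hne (Fin.ext h)
      have := j'.2
      rcases Nat.lt_or_ge ((j' : ℕ) + 1 + c) D with h | h
      · rw [hV _ h.le, if_neg h.ne, mul_zero]; exact dvd_zero _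
      · exact Dvd.dvd.mul_right (ih (D - ((j' : ℕ) + 1)) (by omega) j' rfl) _
  -- the positive powers of `F`
  have hus : ∀ i : Fin D, 0 < (i : ℕ) → (n : ℤ) ∣ b.repr x (.inl i) := by
    suffices h : ∀ c, ∀ i : Fin D, D - (i : ℕ) = c → 0 < (i : ℕ) → (n : ℤ) ∣ b.repr x (.inl i) from
      fun i => h _ i rfl
    intro c
    induction c using Nat.strong_induction_on with
    | _ c ih =>
      intro i hi hi0
      have := hd (F ^ c)
      rw [Finset.sum_eq_zero (s := Finset.univ) fun j _ => (by
          rw [mul_comm (V ^ _), hmix _ _ (by omega) j.2 (Or.inl (by have := i.2; omega)), mul_zero] :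
        b.repr x (.inr j) * lam (V ^ ((j : ℕ) + 1) * F ^ c) = 0), add_zero,
        ← Finset.add_sum_erase _ _ (Finset.mem_univ i)] at this
      rw [← pow_add, show (i : ℕ) + c = D by have := i.2; omega, hFD] at this
      have h' := (Int.dvd_add_left (Finset.dvd_sum fun i' hi' => ?_)).1 this
      · rcases hε1 with rfl | rfl <;> simpa using h'
      rw [← pow_add]
      have hne := (Finset.mem_erase.1 hi').1
      have hne' : (i' : ℕ) ≠ i := fun h => hne (Fin.ext h)
      have := i'.2
      rcases Nat.lt_or_ge ((i' : ℕ) + c) D with h | h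
      · rw [hF _ h, mul_zero]; exact dvd_zero _
      · exact Dvd.dvd.mul_right (ih (D - (i' : ℕ)) (by omega) i' rfl (by omega)) _
  -- the constant coefficient
  have hu0 : (n : ℤ) ∣ b.repr x (.inl ⟨0, hD⟩) := by
    have := hd (V ^ D)
    rw [← Finset.add_sum_erase _ _ (Finset.mem_univ (⟨0, hD⟩ : Fin D)), pow_zero, one_mul, hV D le_rfl,
      if_pos rfl, mul_one, add_assoc] at this
    refine (Int.dvd_add_left (dvd_add (Finset.dvd_sum fun i hi => ?_)
      (Finset.dvd_sum fun j _ => Dvd.dvd.mul_right (hvs j) _))).1 this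
    refine Dvd.dvd.mul_right (hus i ?_) _
    rcases Nat.eq_zero_or_pos (i : ℕ) with h | h
    · exact absurd (Fin.ext h) (Finset.mem_erase.1 hi).1
    · exact h
  have hall : ∀ k, (n : ℤ) ∣ b.repr x k := by
    rintro (i | j)
    · rcases Nat.eq_zero_or_pos (i : ℕ) with h | h
      · rw [show i = ⟨0, hD⟩ from Fin.ext h]; exact hu0
      · exact hus i h
    · exact hvs j
  choose z hz using hall
  refine ⟨∑ k, z k • b k, ?_⟩
  conv_lhs => rw [← b.sum_repr x]
  rw [Finset.smul_sum]
  exact Finset.sum_congr rfl fun k _ => by rw [hz k, mul_smul, natCast_zsmul]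

end Range

end Groth.Agent.CSEquiv
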