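import Groth.Agent.CSEquiv.Bound
import Groth.Agent.CSEquiv.Frob

/-!
The hypotheses of `Data` from a minimal central order.
-/

noncomputable section

set_option autoImplicit false
set_option linter.style.haveILetI false
set_option linter.unusedSectionVars false
set_option linter.overlappingInstances false
set_option backward.isDefEq.respectTransparency false
set_option backward.isDefEq.respectTransparency.types false
set_option maxHeartbeats 800000
set_option synthInstance.maxHeartbeats 400000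

universe u

open CategoryTheory CategoryTheory.Limits AlgebraicGeometry MonoidalCategory CartesianMonoidalCategory
open scoped MonObj

attribute [-instance] CategoryTheory.catToReflQuiver

namespace Groth.Agent.CSEquiv

open MvPolynomial in
/-- The evaluation map of the minimal central order, with `p` seen as an integer. -/
theorem ev_eq (p : ℕ) {J : Type} {K : J → Type} [∀ j, Field (K j)] [∀ j, CharZero (K j)] (ϖ : ∀ j, K j) :
    WeilNumLib.ev ϖ (p : ℤ) =
      (MvPolynomial.aeval ![fun j => ϖ j, fun j => (p : K j) / ϖ j] : MvPolynomial (Fin 2) ℤ →ₐ[ℤ] ((j : J) → K j)) := by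
  have h : (fun j => (((p : ℤ) : ℤ) : K j) / ϖ j) = fun j => (p : K j) / ϖ j :=
    funext fun j => by rw [Int.cast_natCast]
  rw [WeilNumLib.ev, h]

variable {k : Type u} [Field k] [Finite k]

theorem mem_of {p : ℕ} (hk : Nat.card k = p) {P : Polynomial ℤ}
    {A : Over (Spec (CommRingCat.of k))} [GrpObj A] [IsCommMonObj A]
    (π : A ⟶ A) [IsMonHom π] (hb : π.left.base = 𝟙 _) (hle : ∀ U : A.left.Opens, U ≤ π.left ⁻¹ᵁ U)
    (happ : ∀ (U : A.left.Opens) (s : Γ(A.left, U)), (π.left.appLE U U (hle U)).hom s = s ^ p)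
    (hP : Polynomial.aeval (EndAV.End.of π) P = 0) : Mem P A := by
  rw [Mem, frobE_eq π (AVFin.isPowMap_of π hb hle (by rw [hk]; exact happ))]
  exact hP

theorem frobE_eq_of {p : ℕ} (hk : Nat.card k = p) {A : Over (Spec (CommRingCat.of k))} [GrpObj A] [IsCommMonObj A]
    (π : A ⟶ A) [IsMonHom π] (hb : π.left.base = 𝟙 _) (hle : ∀ U : A.left.Opens, U ≤ π.left ⁻¹ᵁ U)
    (happ : ∀ (U : A.left.Opens) (s : Γ(A.left, U)), (π.left.appLE U U (hle U)).hom s = s ^ p) :
    frobE A = EndAV.End.of π :=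
  frobE_eq π (AVFin.isPowMap_of π hb hle (by rw [hk]; exact happ))

/-- A power map is the identity on points. -/
theorem base_eq_id {Z : Scheme.{u}} {F : Z ⟶ Z} {Q : ℕ} (h : WeilLib.IsPowMap F Q) : F.base = 𝟙 _ := by
  ext x
  exact h.base x

section

variable (p : ℕ) [Fact p.Prime] {J : Type} [Fintype J] {K : J → Type} [∀ j, Field (K j)] [∀ j, CharZero (K j)]
  (ϖ : ∀ j, K j) (hint : ∀ j, IsIntegral ℤ (ϖ j))
  (hweil : ∀ j, ∀ z ∈ (minpoly ℤ (ϖ j)).aroots ℂ, ‖z‖ = Real.sqrt p)
  (hnr : ∀ j, ∀ z ∈ (minpoly ℤ (ϖ j)).aroots ℂ, z.im ≠ 0)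
  (hinj : ∀ i j, minpoly ℤ (ϖ i) = minpoly ℤ (ϖ j) → i = j)

include hint hweil hnr hinj in
theorem exists_family : ∃ D : ℕ, WeilNumLib.Family ϖ (p : ℤ) D := by
  classical
  obtain ⟨D, hD⟩ : Even (∑ j, (minpoly ℤ (ϖ j)).natDegree) := by
    refine Finset.sum_induction _ _ (fun a b => Even.add) Even.zero fun j _ => ?_
    exact even_natDegree (minpoly.monic (hint j)) (hnr j)
  have h := WeilNumLib.family_mk (π := ϖ) p 1 hint
    (fun i z hz => by rw [pow_one]; exact hweil i z hz) hinj (D := D) (by rw [hD]; ring)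
  rw [pow_one] at h
  exact ⟨D, h⟩

variable {p ϖ}
  {Aw : Over (Spec (CommRingCat.of k))} [GrpObj Aw] [IsCommMonObj Aw] [IsProper Aw.hom] [GeometricallyIntegral Aw.hom]
  (ρw : (MvPolynomial.aeval ![fun j => ϖ j, fun j => (p : K j) / ϖ j] : MvPolynomial (Fin 2) ℤ →ₐ[ℤ] ((j : J) → K j)).range ≃+* EndAV.End Aw)
  (hρw : ρw ⟨(MvPolynomial.aeval ![fun j => ϖ j, fun j => (p : K j) / ϖ j] : MvPolynomial (Fin 2) ℤ →ₐ[ℤ] ((j : J) → K j)) (MvPolynomial.X 0), AlgHom.mem_range_self _ _⟩ = frobE Aw)

include hint hweil hnr hinj ρw hρw in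
theorem data_of (hk : Nat.card k = p) : Data Aw p (∏ j, minpoly ℤ (ϖ j)) := by
  classical
  obtain ⟨D, hf⟩ := exists_family p ϖ hint hweil hnr hinj
  let e := (MvPolynomial.aeval ![fun j => ϖ j, fun j => (p : K j) / ϖ j] : MvPolynomial (Fin 2) ℤ →ₐ[ℤ] ((j : J) → K j))
  have he : WeilNumLib.ev ϖ (p : ℤ) = e := ev_eq p ϖ
  refine ⟨Fact.out, hk, fun a b => ρw.symm.injective (by rw [map_mul, map_mul, mul_comm]), ?_, ?_,
    hf.monic_prod, ?_, ?_⟩
  · let V : e.range := ⟨e (MvPolynomial.X 1), AlgHom.mem_range_self _ _⟩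
    refine ⟨ρw V, ?_, ?_⟩
    · rw [← hρw, ← map_mul, ← map_natCast ρw]
      refine congrArg ρw (Subtype.ext ?_)
      have := WeilNumLib.ev_X hf
      rw [he] at this
      push_cast at this
      exact this
    · intro s
      obtain ⟨⟨x, g, hg⟩, rfl⟩ := ρw.surjective s
      suffices h : ∀ g : MvPolynomial (Fin 2) ℤ, ρw ⟨e g, AlgHom.mem_range_self _ _⟩ ∈
          Algebra.adjoin ℤ ({frobE Aw, ρw V} : Set (EndAV.End Aw)) by
        subst hg; exact h g
      intro g
      induction g using MvPolynomial.induction_on with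
      | C c =>
        have : (⟨e (MvPolynomial.C c), AlgHom.mem_range_self _ _⟩ : e.range) = (c : e.range) := Subtype.ext (by simp)
        refine (congrArg ρw this).trans (map_intCast ρw c) ▸ ?_
        exact intCast_mem _ c
      | add g g' hg hg' =>
        have : (⟨e (g + g'), AlgHom.mem_range_self _ _⟩ : e.range) =
            ⟨e g, AlgHom.mem_range_self _ _⟩ + ⟨e g', AlgHom.mem_range_self _ _⟩ := Subtype.ext (map_add e g g')
        exact (congrArg ρw this).trans (map_add ρw _ _) ▸ add_mem hg hg'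
      | mul_X g n hg =>
        have : (⟨e (g * MvPolynomial.X n), AlgHom.mem_range_self _ _⟩ : e.range) =
            ⟨e g, AlgHom.mem_range_self _ _⟩ * ⟨e (MvPolynomial.X n), AlgHom.mem_range_self _ _⟩ :=
          Subtype.ext (map_mul e g _)
        refine (congrArg ρw this).trans (map_mul ρw _ _) ▸ mul_mem hg (Algebra.subset_adjoin ?_)
        fin_cases n
        · exact Or.inl hρw
        · exact Or.inr rfl
  · obtain ⟨lam, hlam⟩ := exists_frobenius hf
    let c : (WeilNumLib.ev ϖ (p : ℤ)).range ≃+* EndAV.End Aw :=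
      (Subalgebra.equivOfEq _ _ (congrArg AlgHom.range he)).toRingEquiv.trans ρw
    refine ⟨lam.toAddMonoidHom.comp c.symm.toAddMonoidHom, fun n x hx => ?_⟩
    obtain ⟨z, hz⟩ := hlam n (c.symm x) fun y => by
      have h1 : (n : ℤ) ∣ lam (c.symm (x * c y)) := hx (c y)
      rwa [map_mul, RingEquiv.symm_apply_apply] at h1
    exact ⟨c z, c.symm.injective (by rw [map_nsmul, RingEquiv.symm_apply_apply]; exact hz)⟩
  · obtain ⟨-, h2, -⟩ := hf.free_range
    rw [hf.natDegree_prod, ← h2]
    exact (((Subalgebra.equivOfEq _ _ (congrArg AlgHom.range he)).toRingEquiv.trans ρw).toAddEquiv.toIntLinearEquiv.finrank_eq).symm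
  · rw [← hρw]
    refine (map_aeval_int ρw.toRingHom _ _).symm.trans ?_
    convert map_zero ρw using 2
    refine congrArg _ (Subtype.ext (funext fun i => ?_))
    refine ((Polynomial.aeval_algHom_apply ((Pi.evalAlgHom ℤ K i).comp e.range.val) _ _).symm).trans ?_
    rw [map_prod]
    refine Finset.prod_eq_zero (Finset.mem_univ i) ?_
    simp [e]

end

/-- A finite flat homomorphism of abelian varieties is an isogeny. -/
theorem isg_of_flat {X Y : Over (Spec (CommRingCat.of k))} [GrpObj X] [IsProper X.hom] [GeometricallyIntegral X.hom]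
    [GrpObj Y] [IsProper Y.hom] [GeometricallyIntegral Y.hom] (f : X ⟶ Y) [IsFinite f.left] [Flat f.left] : Isg f := by
  haveI := lfp_left f
  haveI : IsIntegral Y.left := H23.MaxAbelian.isIntegral_of_geometricallyIntegral
  haveI : IsIntegral X.left := H23.MaxAbelian.isIntegral_of_geometricallyIntegral
  refine ⟨inferInstance, ⟨fun y => ?_⟩⟩
  have hc : IsClosed (Set.range f.left) := f.left.isClosedMap.isClosed_range
  have ho : IsOpen (Set.range f.left) := f.left.isOpenMap.isOpen_range
  have h := IsClopen.eq_univ ⟨hc, ho⟩ (Set.range_nonempty _)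
  exact Set.eq_univ_iff_forall.1 h y

end Groth.Agent.CSEquiv
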