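import Groth.Agent.CSEquiv.Isog
import Groth.Agent.AVTheta.LevelQuot
import Groth.Agent.AssLib.FlatField

/-!
Finite subgroup schemes of an abelian variety cut out by predicates on points, and quotients by them.
-/

noncomputable section

set_option autoImplicit false
set_option linter.style.haveILetI false
set_option linter.unusedSectionVars false
set_option backward.isDefEq.respectTransparency false
set_option backward.isDefEq.respectTransparency.types false
set_option maxHeartbeats 800000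
set_option synthInstance.maxHeartbeats 400000

universe u

open CategoryTheory CategoryTheory.Limits AlgebraicGeometry MonoidalCategory CartesianMonoidalCategory
open scoped MonObj

attribute [-instance] CategoryTheory.catToReflQuiver

namespace Groth.Agent.CSEquiv

variable {k : Type u} [Field k]

local notation "pk" => IsLocalRing.closedPoint k

/-- A homomorphism with trivial kernel is a monomorphism. -/
theorem mono_of_trivial {A B : Over (Spec (CommRingCat.of k))} [GrpObj A] [GrpObj B] (i : A ⟶ B) [IsMonHom i]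
    (h : ∀ (T : Over (Spec (CommRingCat.of k))) (g : T ⟶ A), g ≫ i = 1 → g = 1) : Mono i := by
  refine ⟨fun {T} a b hab => ?_⟩
  rw [← mul_inv_eq_one]
  refine h T _ ?_
  rw [MonObj.mul_comp, GrpObj.inv_comp, hab, mul_inv_cancel]

/-- A monomorphic homomorphism of finite group schemes does not decrease the order, and is an
isomorphism when the orders agree. -/
theorem finrank_mono {A B : Over (Spec (CommRingCat.of k))} [GrpObj A] [GrpObj B] (i : A ⟶ B) [IsMonHom i]
    [Mono i] [IsFinite A.hom] [IsFinite B.hom] (s : ↥(Spec (CommRingCat.of k))) :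
    A.hom.finrank s ≤ B.hom.finrank s ∧ (B.hom.finrank s ≤ A.hom.finrank s → IsIso i) := by
  haveI : IsClosedImmersion i.left := AVTheta.isClosedImmersion_of_mono i
  haveI : IsAffine A.left := isAffine_of_isAffineHom A.hom
  haveI : IsAffine B.left := isAffine_of_isAffineHom B.hom
  haveI : Flat A.hom := AssLib.flat_over_field A.hom
  haveI : Flat B.hom := AssLib.flat_over_field B.hom
  obtain ⟨ψ, hψ⟩ := Spec.map_surjective (B.left.isoSpec.inv ≫ B.hom)
  obtain ⟨φ, hφ⟩ := Spec.map_surjective (A.left.isoSpec.inv ≫ i.left ≫ B.left.isoSpec.hom)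
  haveI : IsClosedImmersion (Spec.map φ) := by rw [hφ]; infer_instance
  have hsur : Function.Surjective φ.hom := (IsClosedImmersion.isAffine_surjective_of_isAffine (Spec.map φ)).2 |> fun h => by
    have e := Scheme.ΓSpecIso_naturality φ
    intro a
    obtain ⟨b, hb⟩ := h ((Scheme.ΓSpecIso _).inv.hom a)
    refine ⟨(Scheme.ΓSpecIso _).hom.hom b, ?_⟩
    have e' := congrArg (fun m => m.hom b) e
    simp only [CommRingCat.comp_apply] at e'
    rw [← e', hb, ← CommRingCat.comp_apply, Iso.inv_hom_id, CommRingCat.id_apply]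
  haveI : IsFinite (Spec.map ψ) := by rw [hψ]; infer_instance
  haveI : Flat (Spec.map ψ) := by rw [hψ]; infer_instance
  letI := ψ.hom.toAlgebra
  letI := (φ.hom.comp ψ.hom).toAlgebra
  haveI : Module.Finite k Γ(B.left, ⊤) := (IsFinite.SpecMap_iff ψ).1 ‹_›
  let l : Γ(B.left, ⊤) →ₐ[k] Γ(A.left, ⊤) := { φ.hom with commutes' := fun _ => rfl }
  haveI : Module.Finite k Γ(A.left, ⊤) := Module.Finite.of_surjective l.toLinearMap hsur
  have eB : B.hom.finrank s = Module.finrank k Γ(B.left, ⊤) := by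
    rw [← Scheme.Hom.finrank_comp_left_of_isIso B.left.isoSpec.inv B.hom, ← hψ]
    refine Eq.trans (Scheme.Hom.finrank_SpecMap_algebraMap k Γ(B.left, ⊤) s) ?_
    exact congrFun Module.rankAtStalk_eq_finrank_of_free s
  have eA : A.hom.finrank s = Module.finrank k Γ(A.left, ⊤) := by
    have h : A.left.isoSpec.inv ≫ A.hom = Spec.map φ ≫ Spec.map ψ := by
      rw [hφ, hψ]; simp
    rw [← Scheme.Hom.finrank_comp_left_of_isIso A.left.isoSpec.inv A.hom, h, ← Spec.map_comp]
    refine Eq.trans (Scheme.Hom.finrank_SpecMap_algebraMap k Γ(A.left, ⊤) s) ?_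
    exact congrFun Module.rankAtStalk_eq_finrank_of_free s
  rw [eA, eB]
  have hle : Module.finrank k Γ(A.left, ⊤) ≤ Module.finrank k Γ(B.left, ⊤) :=
    LinearMap.finrank_le_finrank_of_surjective hsur (f := l.toLinearMap)
  refine ⟨hle, fun hge => ?_⟩
  have hbij : Function.Bijective φ.hom :=
    ⟨(LinearMap.injective_iff_surjective_of_finrank_eq_finrank (f := l.toLinearMap) (le_antisymm hge hle)).2 hsur, hsur⟩
  haveI : IsIso φ := (ConcreteCategory.isIso_iff_bijective φ).2 hbij
  haveI : IsIso (A.left.isoSpec.inv ≫ i.left ≫ B.left.isoSpec.hom) := hφ ▸ inferInstanceAs (IsIso (Spec.map φ))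
  haveI : IsIso (i.left ≫ B.left.isoSpec.hom) := IsIso.of_isIso_comp_left A.left.isoSpec.inv _
  haveI : IsIso i.left := IsIso.of_isIso_comp_right i.left B.left.isoSpec.hom
  haveI : IsIso ((Over.forget _).map i) := inferInstanceAs (IsIso i.left)
  exact isIso_of_reflects_iso i (Over.forget _)

theorem finrank_le_of_mono {A B : Over (Spec (CommRingCat.of k))} [GrpObj A] [GrpObj B] (i : A ⟶ B) [IsMonHom i]
    [Mono i] [IsFinite A.hom] [IsFinite B.hom] (s : ↥(Spec (CommRingCat.of k))) :
    A.hom.finrank s ≤ B.hom.finrank s := (finrank_mono i s).1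

theorem isIso_of_mono_of_finrank_le {A B : Over (Spec (CommRingCat.of k))} [GrpObj A] [GrpObj B] (i : A ⟶ B)
    [IsMonHom i] [Mono i] [IsFinite A.hom] [IsFinite B.hom] (s : ↥(Spec (CommRingCat.of k)))
    (h : B.hom.finrank s ≤ A.hom.finrank s) : IsIso i := (finrank_mono i s).2 h

variable {X Y Z : Over (Spec (CommRingCat.of k))} [GrpObj X] [IsProper X.hom] [GeometricallyIntegral X.hom]
  [GrpObj Y] [IsProper Y.hom] [GeometricallyIntegral Y.hom]
  [GrpObj Z] [IsProper Z.hom] [GeometricallyIntegral Z.hom]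

/-- Points of the target of an isogeny lift locally: a point whose every local lift dies is trivial. -/
theorem eq_of_lifts (q : X ⟶ Y) [IsMonHom q] (hq : Isg q) {T W : Over (Spec (CommRingCat.of k))} (g : T ⟶ Y)
    {a b : T ⟶ W} (h : ∀ (T' : Over (Spec (CommRingCat.of k))) (π : T' ⟶ T) (g' : T' ⟶ X),
      g' ≫ q = π ≫ g → π ≫ a = π ≫ b) : a = b := by
  haveI := hq.1
  haveI := hq.2
  haveI := flat_of_surjective q
  have hs : IsPullback (pullback.fst q g).left (pullback.snd q g).left q.left g.left :=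
    (IsPullback.of_hasPullback q g).map (Over.forget _)
  haveI : Flat (pullback.snd q g).left := MorphismProperty.of_isPullback (P := @Flat) hs inferInstance
  haveI : IsFinite (pullback.snd q g).left := MorphismProperty.of_isPullback (P := @IsFinite) hs inferInstance
  haveI : Surjective (pullback.snd q g).left := MorphismProperty.of_isPullback (P := @Surjective) hs inferInstance
  haveI : EffectiveEpi (pullback.snd q g).left := inferInstance
  exact Over.OverMorphism.ext ((cancel_epi (pullback.snd q g).left).1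
    (congrArg CommaMorphism.left (h _ (pullback.snd q g) (pullback.fst q g) pullback.condition)))

/-- A finite subgroup scheme with prescribed points. -/
def Cut (X : Over (Spec (CommRingCat.of k))) [GrpObj X]
    (Pr : ∀ T : Over (Spec (CommRingCat.of k)), (T ⟶ X) → Prop) : Prop :=
  ∃ (K : Over (Spec (CommRingCat.of k))) (_ : GrpObj K) (i : K ⟶ X), IsMonHom i ∧ IsClosedImmersion i.left ∧
    IsFinite K.hom ∧ ∀ T (g : T ⟶ X), (∃ t : T ⟶ K, t ≫ i = g) ↔ Pr T g

omit [IsProper X.hom] [GeometricallyIntegral X.hom] in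
theorem Cut.congr {Pr Pr' : ∀ T : Over (Spec (CommRingCat.of k)), (T ⟶ X) → Prop} (h : Cut X Pr)
    (he : ∀ T g, Pr T g ↔ Pr' T g) : Cut X Pr' := by
  obtain ⟨K, _, i, h1, h2, h3, h4⟩ := h
  exact ⟨K, inferInstance, i, h1, h2, h3, fun T g => (h4 T g).trans (he T g)⟩

theorem Cut.kernel (f : X ⟶ Y) [IsMonHom f] (hf : Isg f) : Cut X (fun _ g => g ≫ f = 1) := by
  obtain ⟨N, _, i, hi, hic, hN, hNf, -⟩ := exists_ker f hf
  refine ⟨N, inferInstance, i, hi, hic, hNf, fun T g =>
    ⟨?_, fun hg => IsogLib.exists_kernel_lift f hN g hg⟩⟩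
  rintro ⟨t, rfl⟩
  rw [Category.assoc, IsogLib.kernel_comp f hN, MonObj.comp_one]

theorem Cut.inter {Pr : ∀ T : Over (Spec (CommRingCat.of k)), (T ⟶ X) → Prop} (h : Cut X Pr)
    (φ : X ⟶ Z) [IsMonHom φ] : Cut X (fun T g => Pr T g ∧ g ≫ φ = 1) := by
  obtain ⟨K, _, i, hi, hic, hKf, hK⟩ := h
  haveI := hi
  haveI := hic
  haveI := hKf
  obtain ⟨M, _, j, hj, hjc, hM⟩ : ∃ (M : Over (Spec (CommRingCat.of k))) (_ : GrpObj M) (j : M ⟶ K),
      IsMonHom j ∧ IsClosedImmersion j.left ∧ IsPullback j (toUnit M) (i ≫ φ) η[Z] := by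
    have hF : IsPullback (pullback.fst (i ≫ φ) η[Z]) (toUnit (pullback (i ≫ φ) η[Z])) (i ≫ φ) η[Z] := by
      have h := IsPullback.of_hasPullback (i ≫ φ) η[Z]
      rwa [toUnit_unique (pullback.snd (i ≫ φ) η[Z]) (toUnit _)] at h
    generalize pullback.fst (i ≫ φ) η[Z] = incl at hF
    generalize pullback (i ≫ φ) η[Z] = F at incl hF
    obtain ⟨hFG, hincl⟩ := IsogLib.exists_grpObj_kernel (i ≫ φ) hF
    have h : IsPullback incl.left (toUnit F).left (i ≫ φ).left η[Z].left := hF.map (Over.forget _)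
    haveI : IsClosedImmersion η[Z].left := by
      haveI : IsClosedImmersion (η[Z].left ≫ Z.hom) := by
        rw [Over.w]
        exact inferInstanceAs (IsClosedImmersion (𝟙 (Spec (CommRingCat.of k))))
      exact IsClosedImmersion.of_comp η[Z].left Z.hom
    exact ⟨F, hFG, incl, hincl, MorphismProperty.of_isPullback (P := @IsClosedImmersion) h.flip inferInstance, hF⟩
  haveI := hj
  haveI := hjc
  refine ⟨M, inferInstance, j ≫ i, inferInstance, by rw [Over.comp_left]; infer_instance,
    by rw [← Over.w j]; infer_instance, fun T g => ⟨?_, ?_⟩⟩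
  · rintro ⟨t, rfl⟩
    refine ⟨(hK T _).1 ⟨t ≫ j, Category.assoc _ _ _⟩, ?_⟩
    rw [Category.assoc, Category.assoc, IsogLib.kernel_comp (i ≫ φ) hM, MonObj.comp_one]
  · rintro ⟨h1, h2⟩
    obtain ⟨t, rfl⟩ := (hK T g).2 h1
    obtain ⟨t', rfl⟩ := IsogLib.exists_kernel_lift (i ≫ φ) hM t (by rw [← Category.assoc]; exact h2)
    exact ⟨t', by rw [Category.assoc]⟩

theorem Cut.list {Pr : ∀ T : Over (Spec (CommRingCat.of k)), (T ⟶ X) → Prop} (h : Cut X Pr) [IsCommMonObj X]
    [IsCommMonObj Z] (l : List (EndAV.Hom X Z)) :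
    Cut X (fun T g => Pr T g ∧ ∀ φ ∈ l, g ≫ φ.toHom = 1) := by
  induction l with
  | nil => exact h.congr fun T g => by simp
  | cons a l ih =>
    exact (ih.inter a.toHom).congr fun T g => by simp only [List.forall_mem_cons]; tauto

theorem Cut.quot {Pr : ∀ T : Over (Spec (CommRingCat.of k)), (T ⟶ X) → Prop} (h : Cut X Pr) :
    ∃ (Q : Over (Spec (CommRingCat.of k))) (_ : GrpObj Q) (_ : IsCommMonObj Q) (_ : IsProper Q.hom)
      (_ : GeometricallyIntegral Q.hom) (q : X ⟶ Q) (_ : IsMonHom q), Isg q ∧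
        ∀ T (g : T ⟶ X), g ≫ q = 1 ↔ Pr T g := by
  obtain ⟨K, _, i, hi, hic, hKf, hK⟩ := h
  haveI := hi
  haveI := hic
  haveI := hKf
  obtain ⟨Q, _, q, hq, hqf, -, hqs, hQp, hQg, hker⟩ := AVRosati.FinQuot.exists_quotient i
  haveI := hq
  haveI := hQp
  haveI := hQg
  haveI : IsCommMonObj Q := isCommMonObj_of_isProper_of_geometricallyIntegral Q
  refine ⟨Q, inferInstance, inferInstance, hQp, hQg, q, hq, ⟨hqf, hqs⟩, fun T g => ⟨fun hg =>
    (hK T g).1 (IsogLib.exists_kernel_lift q hker g hg), fun hg => ?_⟩⟩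
  obtain ⟨t, rfl⟩ := (hK T g).2 hg
  rw [Category.assoc, IsogLib.kernel_comp q hker, MonObj.comp_one]

/-- The right factor of an isogeny after an isogeny is an isogeny. -/
theorem isg_of_comp (f : X ⟶ Y) (g : Y ⟶ Z) (hf : Isg f) (hfg : Isg (f ≫ g)) : Isg g := by
  haveI := hf.2
  haveI := hfg.2
  haveI := hfg.1
  haveI := isProper_left g
  haveI : Surjective (f.left ≫ g.left) := by rw [← Over.comp_left]; infer_instance
  haveI : IsFinite (f.left ≫ g.left) := by rw [← Over.comp_left]; infer_instance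
  haveI : Surjective g.left := Surjective.of_comp f.left g.left
  haveI : LocallyQuasiFinite g.left := by
    refine LocallyQuasiFinite.of_finite_preimage_singleton g.left fun z => ?_
    refine ((Scheme.Hom.finite_preimage_singleton (f.left ≫ g.left) z).image f.left).subset fun y hy => ?_
    obtain ⟨x, rfl⟩ := f.left.surjective y
    exact ⟨x, hy, rfl⟩
  exact ⟨IsFinite.of_isProper_of_locallyQuasiFinite g.left, inferInstance⟩

/-- Comparing two isogenies out of `X` by their kernels. -/
theorem exists_isg_factor (f : X ⟶ Y) [IsMonHom f] (hf : Isg f) (g : X ⟶ Z) [IsMonHom g] (hg : Isg g)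
    (h : ∀ (T : Over (Spec (CommRingCat.of k))) (x : T ⟶ X), x ≫ f = 1 → x ≫ g = 1) :
    ∃ r : Y ⟶ Z, IsMonHom r ∧ Isg r ∧ f ≫ r = g ∧ deg g = deg f * deg r := by
  obtain ⟨r, hr, rfl⟩ := exists_factor f hf g h
  haveI := hr
  exact ⟨r, hr, isg_of_comp f r hf hg, rfl, deg_comp f r hf (isg_of_comp f r hf hg)⟩

theorem deg_eq_of_kernel_eq (f : X ⟶ Y) [IsMonHom f] (hf : Isg f) (g : X ⟶ Z) [IsMonHom g] (hg : Isg g)
    (h : ∀ (T : Over (Spec (CommRingCat.of k))) (x : T ⟶ X), x ≫ f = 1 ↔ x ≫ g = 1) : deg f = deg g := by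
  obtain ⟨r, -, -, -, h1⟩ := exists_isg_factor f hf g hg fun T x => (h T x).1
  obtain ⟨r', -, -, -, h2⟩ := exists_isg_factor g hg f hf fun T x => (h T x).2
  exact Nat.dvd_antisymm ⟨_, h1⟩ ⟨_, h2⟩

end Groth.Agent.CSEquiv
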