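import Mathlib.Algebra.Module.PID
import Mathlib.Algebra.Polynomial.Module.AEval
import Mathlib.NumberTheory.Padics.RingHoms
import Mathlib.LinearAlgebra.Matrix.ToLin
import Mathlib.LinearAlgebra.FreeModule.StrongRankCondition
import Mathlib.RingTheory.Nakayama
import Mathlib.LinearAlgebra.FiniteDimensional.Lemmas
import Mathlib.RingTheory.FiniteType

/-!
Cyclic vectors, and generators of a lattice with a commuting action, read modulo a prime.
-/

set_option autoImplicit false

namespace Groth.Agent.CSEquiv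

open Polynomial

/-- An endomorphism with independent powers below the dimension has a cyclic vector. -/
theorem exists_cyclic {K V : Type*} [Field K] [AddCommGroup V] [Module K V] [Module.Finite K V] (f : Module.End K V)
    {n : ℕ} (hn : Module.finrank K V = n) (hli : ∀ c : Fin n → K, ∑ i, c i • f ^ (i : ℕ) = 0 → c = 0) :
    ∃ v : V, ∀ y, ∃ c : Fin n → K, ∑ i, c i • (f ^ (i : ℕ)) v = y := by
  classical
  obtain ⟨m, hm⟩ := Module.exists_ker_toSpanSingleton_eq_annihilator K[X] (Module.AEval' f)
  obtain ⟨v, rfl⟩ := (Module.AEval'.of f).surjective m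
  let L : (Fin n → K) →ₗ[K] V := Fintype.linearCombination K fun i : Fin n => (f ^ (i : ℕ)) v
  have hL : ∀ c, L c = ∑ i, c i • (f ^ (i : ℕ)) v := fun c => rfl
  have hinj : Function.Injective L := (injective_iff_map_eq_zero L).2 fun c hc => hli c (by
    let Q : K[X] := ∑ i : Fin n, C (c i) * X ^ (i : ℕ)
    have hQ : Polynomial.aeval f Q = ∑ i, c i • f ^ (i : ℕ) := by
      simp [Q, Algebra.smul_def]
    have hker : Q ∈ LinearMap.ker (LinearMap.toSpanSingleton K[X] _ (Module.AEval'.of f v)) := by
      rw [LinearMap.mem_ker, LinearMap.toSpanSingleton_apply]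
      refine (Module.AEval.of_aeval_smul f Q v).symm.trans ?_
      rw [hQ, Module.End.smul_def, LinearMap.sum_apply]
      refine (congrArg _ ?_).trans (map_zero _)
      simpa [LinearMap.smul_apply, hL] using hc
    rw [hm] at hker
    rw [← hQ]
    refine LinearMap.ext fun w => ?_
    have h1 := Module.mem_annihilator.1 hker (Module.AEval'.of f w)
    have h2 := congrArg (Module.AEval'.of f).symm h1
    rw [Module.AEval.of_symm_smul, LinearEquiv.symm_apply_apply, map_zero] at h2
    exact h2)
  have hfr : Module.finrank K (Fin n → K) = Module.finrank K V := by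
    rw [Module.finrank_fin_fun, hn]
  exact ⟨v, fun y => (LinearMap.injective_iff_surjective_of_finrank_eq_finrank hfr).1 hinj y⟩

/-- A lattice over `ℤ_l` with an action of an order generated, modulo `l`, by the powers of one element, is cyclic
as soon as the action is faithful modulo `l`. -/
theorem exists_generator {l : ℕ} [Fact l.Prime] {E T : Type*} [Ring E] [Module.Free ℤ E] [Module.Finite ℤ E]
    [AddCommGroup T] [Module ℤ_[l] T] [Module.Free ℤ_[l] T] [Module.Finite ℤ_[l] T]
    (R : E →+* Module.End ℤ_[l] T) (π : E) {n : ℕ} (hE : Module.finrank ℤ E = n) (hT : Module.finrank ℤ_[l] T = n)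
    (hgen : ∀ s : E, ∃ (c : Fin n → ℤ) (t : E), s = ∑ i, c i • π ^ (i : ℕ) + l • t)
    (hfaith : ∀ s : E, (∀ x, ∃ w, R s x = l • w) → ∃ t, s = l • t) :
    ∃ x : T, ∀ (m : ℕ) (b : Module.Basis (Fin m) ℤ E),
      LinearIndependent ℤ_[l] (fun i => R (b i) x) ∧ Submodule.span ℤ_[l] (Set.range fun i => R (b i) x) = ⊤ := by
  classical
  let b₀ : Module.Basis (Fin n) ℤ_[l] T := Module.finBasisOfFinrankEq ℤ_[l] T hT
  let eE : Module.Basis (Fin n) ℤ E := Module.finBasisOfFinrankEq ℤ E hE
  let ρ : E →+ (Fin n → ZMod l) :=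
    { toFun := fun s i => ((eE.repr s i : ℤ) : ZMod l)
      map_zero' := by ext i; simp
      map_add' := fun a b => by ext i; simp }
  let red : T →+ (Fin n → ZMod l) :=
    { toFun := fun x i => PadicInt.toZMod (b₀.repr x i)
      map_zero' := by ext i; simp
      map_add' := fun a b => by ext i; simp }
  have hred_surj : Function.Surjective red := fun c => by
    choose a ha using fun i => ZMod.intCast_surjective (c i)
    refine ⟨b₀.equivFun.symm fun i => (a i : ℤ_[l]), funext fun i => ?_⟩
    show PadicInt.toZMod (b₀.repr _ i) = _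
    rw [← b₀.equivFun_apply, LinearEquiv.apply_symm_apply, map_intCast, ha]
  have hred_ker : ∀ x, red x = 0 → ∃ w, x = l • w := fun x hx => by
    have h : ∀ i, (l : ℤ_[l]) ∣ b₀.repr x i := fun i => by
      have h1 : PadicInt.toZMod (b₀.repr x i) = 0 := congrFun hx i
      rw [← Ideal.mem_span_singleton, ← PadicInt.maximalIdeal_eq_span_p, ← PadicInt.ker_toZMod]
      exact h1
    choose d hd using h
    refine ⟨∑ i, d i • b₀ i, ?_⟩
    conv_lhs => rw [← b₀.sum_repr x]
    rw [Finset.smul_sum]
    exact Finset.sum_congr rfl fun i _ => by rw [hd i, mul_smul, Nat.cast_smul_eq_nsmul]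
  let χ : E →+* Module.End (ZMod l) (Fin n → ZMod l) :=
    (Matrix.toLinAlgEquiv' (R := ZMod l)).toRingEquiv.toRingHom.comp
      ((PadicInt.toZMod (p := l)).mapMatrix.comp
        ((LinearMap.toMatrixAlgEquiv b₀).toRingEquiv.toRingHom.comp R))
  have hχ : ∀ s x, χ s (red x) = red (R s x) := fun s x => by
    funext i
    show ((LinearMap.toMatrixAlgEquiv b₀ (R s)).map PadicInt.toZMod).mulVec (red x) i = _
    refine (RingHom.map_mulVec _ (LinearMap.toMatrixAlgEquiv b₀ (R s)) (fun j => b₀.repr x j) i).symm.trans ?_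
    exact congrArg PadicInt.toZMod (congrFun (LinearMap.toMatrix_mulVec_repr b₀ b₀ (R s) x) i)
  have hspan : ∀ c : Fin n → ℤ, ρ (∑ i, c i • π ^ (i : ℕ)) = ∑ i, (c i : ZMod l) • ρ (π ^ (i : ℕ)) := fun c => by
    rw [map_sum]
    exact Finset.sum_congr rfl fun i _ => by rw [map_zsmul, Int.cast_smul_eq_zsmul]
  let Lρ : (Fin n → ZMod l) →ₗ[ZMod l] (Fin n → ZMod l) :=
    Fintype.linearCombination (ZMod l) fun i : Fin n => ρ (π ^ (i : ℕ))
  have hLρ : Function.Surjective Lρ := fun c => by
    choose a ha using fun i => ZMod.intCast_surjective (c i)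
    obtain ⟨d, t, hdt⟩ := hgen (eE.equivFun.symm a)
    refine ⟨fun i => (d i : ZMod l), ?_⟩
    show ∑ i, (d i : ZMod l) • ρ (π ^ (i : ℕ)) = c
    rw [← hspan]
    have h1 : ρ (eE.equivFun.symm a) = c := funext fun i => by
      show ((eE.repr _ i : ℤ) : ZMod l) = _
      rw [← eE.equivFun_apply, LinearEquiv.apply_symm_apply, ha]
    have h2 : ρ (l • t) = 0 := funext fun i => by
      show ((eE.repr (l • t) i : ℤ) : ZMod l) = 0
      rw [map_nsmul]
      simp
    rw [← h1, hdt, map_add, h2, add_zero]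
  have hLinj : Function.Injective Lρ := LinearMap.injective_iff_surjective.2 hLρ
  obtain ⟨v, hv⟩ := exists_cyclic (χ π) (n := n) (Module.finrank_fin_fun (ZMod l)) fun c hc => by
    choose a ha using fun i => ZMod.intCast_surjective (c i)
    have hs : χ (∑ i, a i • π ^ (i : ℕ)) = 0 := by
      rw [map_sum, ← hc]
      exact Finset.sum_congr rfl fun i _ => by rw [map_zsmul, map_pow, ← Int.cast_smul_eq_zsmul (ZMod l), ha]
    obtain ⟨t, ht⟩ := hfaith _ fun x => hred_ker _ (by rw [← hχ, hs]; rfl)
    refine hLinj ?_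
    rw [map_zero]
    show ∑ i, c i • ρ (π ^ (i : ℕ)) = 0
    rw [Finset.sum_congr rfl fun i _ => (by rw [ha] : c i • ρ (π ^ (i : ℕ)) = (a i : ZMod l) • ρ (π ^ (i : ℕ))),
      ← hspan, ht]
    exact funext fun i => by
      show ((eE.repr (l • t) i : ℤ) : ZMod l) = 0
      rw [map_nsmul]
      simp
  obtain ⟨x, rfl⟩ := hred_surj v
  refine ⟨x, fun m b => ?_⟩
  have hm : m = n := by rw [← hE, Module.finrank_eq_card_basis b, Fintype.card_fin]
  subst hm
  let W := Submodule.span ℤ_[l] (Set.range fun i => R (b i) x)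
  have hW : ∀ s, R s x ∈ W := fun s => by
    rw [← b.sum_repr s, map_sum, LinearMap.sum_apply]
    refine sum_mem fun i _ => ?_
    rw [map_zsmul, LinearMap.smul_apply, ← Int.cast_smul_eq_zsmul ℤ_[l]]
    exact W.smul_mem _ (Submodule.subset_span ⟨i, rfl⟩)
  have htop : W = ⊤ := by
    refine eq_top_iff.2 (Submodule.le_of_le_smul_of_le_jacobson_bot Module.Finite.fg_top
      (I := Ideal.span {(l : ℤ_[l])}) ?_ fun y _ => ?_)
    · rw [IsLocalRing.jacobson_eq_maximalIdeal ⊥ bot_ne_top, PadicInt.maximalIdeal_eq_span_p]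
    · obtain ⟨c, hc⟩ := hv (red y)
      choose a ha using fun i => ZMod.intCast_surjective (c i)
      have h : red (y - R (∑ i, a i • π ^ (i : ℕ)) x) = 0 := by
        rw [map_sub, ← hχ, ← hc, sub_eq_zero, map_sum, LinearMap.sum_apply]
        refine Finset.sum_congr rfl fun i _ => ?_
        rw [map_zsmul, LinearMap.smul_apply, map_pow, ← Int.cast_smul_eq_zsmul (ZMod l), ha]
      obtain ⟨w, hw⟩ := hred_ker _ h
      refine Submodule.mem_sup.2 ⟨R (∑ i, a i • π ^ (i : ℕ)) x, hW _, (l : ℤ_[l]) • w,
        Submodule.smul_mem_smul (Ideal.mem_span_singleton_self _) trivial, ?_⟩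
      rw [Nat.cast_smul_eq_nsmul, ← hw, add_sub_cancel]
  refine ⟨?_, htop⟩
  let F : (Fin m → ℤ_[l]) →ₗ[ℤ_[l]] T := Fintype.linearCombination ℤ_[l] fun i => R (b i) x
  have hFs : Function.Surjective F := LinearMap.range_eq_top.1 (by rw [Fintype.range_linearCombination]; exact htop)
  have hFi : Function.Injective (b₀.equivFun.toLinearMap.comp F) :=
    OrzechProperty.injective_of_surjective_endomorphism _ (b₀.equivFun.surjective.comp hFs)
  exact Fintype.linearIndependent_iff.2 fun g hg => congrFun (hFi (a₂ := 0) (by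
    rw [map_zero, LinearMap.comp_apply, show F g = 0 from hg, map_zero]))

end Groth.Agent.CSEquiv
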