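import Mathlib.LinearAlgebra.FreeModule.PID
import Mathlib.LinearAlgebra.FreeModule.Finite.Basic
import Mathlib.RingTheory.Finiteness.Basic
import Mathlib.Data.ZMod.Basic
import Mathlib.GroupTheory.IndexNSmul

/-!
Double annihilators in an order with a unimodular pairing.
-/

set_option autoImplicit false

namespace Groth.Agent.CSEquiv

open Module

variable {M : Type*} [AddCommGroup M] [Module.Free ℤ M] [Module.Finite ℤ M]

/-- Outside a subgroup containing `n • M` some functional is nonzero modulo `n` while vanishing on the subgroup. -/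
theorem exists_functional {n : ℕ} (hn : 0 < n) (L : Submodule ℤ M) (hnL : ∀ x : M, (n : ℤ) • x ∈ L) {x : M}
    (hx : x ∉ L) : ∃ ψ : M →ₗ[ℤ] ℤ, (∀ l ∈ L, (n : ℤ) ∣ ψ l) ∧ ¬ (n : ℤ) ∣ ψ x := by
  classical
  have hn0 : (n : ℤ) ≠ 0 := by exact_mod_cast hn.ne'
  have hrank : finrank ℤ L = finrank ℤ M := by
    refine le_antisymm (Submodule.finrank_le _) ?_
    refine LinearMap.finrank_le_finrank_of_injective (f := ((n : ℤ) • LinearMap.id : M →ₗ[ℤ] M).codRestrict L
      fun y => hnL y) fun a b hab => smul_right_injective M hn0 ?_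
    exact congrArg Subtype.val hab
  obtain ⟨b, a, ab, hab⟩ := Submodule.exists_smith_normal_form_of_rank_eq (Free.chooseBasis ℤ M) hrank
  have hL : ∀ l ∈ L, ∀ i, a i ∣ b.repr l i := by
    intro l hl i
    have e : l = ∑ j, (ab.repr ⟨l, hl⟩ j * a j) • b j := by
      have h := congrArg Subtype.val (ab.sum_repr ⟨l, hl⟩)
      simp only [Submodule.coe_sum, Submodule.coe_smul, hab, smul_smul] at h
      exact h.symm
    refine ⟨ab.repr ⟨l, hl⟩ i, ?_⟩
    conv_lhs => rw [e, b.repr_sum_self]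
    ring
  obtain ⟨i, hi⟩ : ∃ i, ¬ a i ∣ b.repr x i := by
    by_contra h
    push Not at h
    choose c hc using h
    refine hx ?_
    rw [show x = ∑ j, c j • (ab j : M) by
      conv_lhs => rw [← b.sum_repr x]
      exact Finset.sum_congr rfl fun j _ => by rw [hab, smul_smul, hc, mul_comm]]
    exact sum_mem fun j _ => L.smul_mem _ (ab j).2
  obtain ⟨q, hq⟩ : a i ∣ (n : ℤ) := by
    have h := hL _ (hnL (b i)) i
    simpa [map_smul] using h
  refine ⟨q • b.coord i, fun l hl => ?_, fun h => hi ?_⟩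
  · obtain ⟨c, hc⟩ := hL l hl i
    refine ⟨c, ?_⟩
    show q * b.repr l i = _
    rw [hc, hq]; ring
  · obtain ⟨c, hc⟩ := h
    refine ⟨c, ?_⟩
    change q * b.repr x i = _ at hc
    have hq0 : q ≠ 0 := fun e => hn0 (by rw [hq, e, mul_zero])
    exact mul_left_cancel₀ hq0 (by rw [hc, hq]; ring)

variable {E : Type*} [Ring E] [Module.Free ℤ E] [Module.Finite ℤ E]

/-- With a unimodular pairing, a left ideal containing `n` is its own double annihilator modulo `n`. -/
theorem exists_separator (hcomm : ∀ a b : E, a * b = b * a) (lam : E →+ ℤ)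
    (hlam : ∀ (n : ℕ) (x : E), (∀ y, (n : ℤ) ∣ lam (x * y)) → ∃ z, x = n • z) {n : ℕ} (hn : 0 < n)
    (L : AddSubgroup E) (hmul : ∀ t, ∀ l ∈ L, t * l ∈ L) (hnL : ∀ x : E, n • x ∈ L) {x : E} (hx : x ∉ L) :
    ∃ y : E, (∀ l ∈ L, ∃ z, l * y = n • z) ∧ ¬ ∃ z, x * y = n • z := by
  obtain ⟨ψ, hψL, hψx⟩ := exists_functional hn L.toIntSubmodule (fun z => by
    rw [natCast_zsmul]; exact hnL z) (x := x) hx
  -- the pairing modulo `n`
  classical
  haveI : NeZero n := ⟨hn.ne'⟩
  let b := Free.chooseBasis ℤ E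
  let Φ : E →+ (Free.ChooseBasisIndex ℤ E → ZMod n) :=
    { toFun := fun y i => ((lam (b i * y) : ℤ) : ZMod n)
      map_zero' := by ext i; simp
      map_add' := fun u v => by ext i; simp [mul_add] }
  have hlin : ∀ y : E, ∀ g : E →ₗ[ℤ] ℤ, (∀ i, (n : ℤ) ∣ lam (b i * y) - g (b i)) →
      ∀ e, (n : ℤ) ∣ lam (e * y) - g e := by
    intro y g hg e
    let F : E →ₗ[ℤ] ℤ := (lam.comp (AddMonoidHom.mulRight y)).toIntLinearMap - g
    have hF : ∀ e', F e' = lam (e' * y) - g e' := fun _ => rfl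
    rw [← hF, ← b.sum_repr e, map_sum]
    exact Finset.dvd_sum fun i _ => by
      rw [map_smul, smul_eq_mul, hF]
      exact Dvd.dvd.mul_left (hg i) _
  have hker : Φ.ker = (nsmulAddMonoidHom (α := E) n).range := by
    ext y
    constructor
    · intro hy
      obtain ⟨z, hz⟩ := hlam n y fun e => by
        have h := hlin y 0 (fun i => by
          simpa using (ZMod.intCast_zmod_eq_zero_iff_dvd _ n).1 (congrFun hy i)) e
        rw [hcomm]
        simpa using h
      exact ⟨z, hz.symm⟩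
    · rintro ⟨z, rfl⟩
      refine funext fun i => (ZMod.intCast_zmod_eq_zero_iff_dvd _ n).2 ?_
      show (n : ℤ) ∣ lam (b i * (n • z))
      rw [mul_smul_comm, map_nsmul, nsmul_eq_mul]
      exact dvd_mul_right _ _
  have hsurj : Function.Surjective Φ := by
    rw [← AddMonoidHom.range_eq_top, ← AddSubgroup.card_eq_iff_eq_top, ← AddSubgroup.index_ker, hker,
      AddSubgroup.index_range_nsmul, Nat.card_fun, Nat.card_zmod, Nat.card_eq_fintype_card,
      finrank_eq_card_chooseBasisIndex]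
  obtain ⟨y, hy⟩ := hsurj fun i => ((ψ (b i) : ℤ) : ZMod n)
  have hyψ := hlin y ψ fun i => (ZMod.intCast_eq_intCast_iff_dvd_sub _ _ n).1 (congrFun hy i).symm
  refine ⟨y, fun l hl => hlam n (l * y) fun e => ?_, ?_⟩
  · have h := dvd_add (hyψ (e * l)) (hψL (e * l) (hmul e l hl))
    rw [sub_add_cancel] at h
    rwa [hcomm (l * y) e, ← mul_assoc]
  · rintro ⟨z, hz⟩
    refine hψx ?_
    have h := hyψ x
    rw [hz, map_nsmul, nsmul_eq_mul] at h
    exact (dvd_sub_right (dvd_mul_right _ _)).1 h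

end Groth.Agent.CSEquiv
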