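import Groth.Agent.CSEquiv.Realize

/-!
Every order containing `End A_w` is an endomorphism ring.
-/

noncomputable section

set_option autoImplicit false
set_option linter.style.haveILetI false
set_option linter.unusedSectionVars false
set_option linter.overlappingInstances false
set_option backward.isDefEq.respectTransparency false
set_option backward.isDefEq.respectTransparency.types false
set_option maxHeartbeats 800000
set_option synthInstance.maxHeartbeats 400000

universe u

open CategoryTheory CategoryTheory.Limits AlgebraicGeometry MonoidalCategory CartesianMonoidalCategory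
open scoped MonObj

attribute [-instance] CategoryTheory.catToReflQuiver

namespace Groth.Agent.CSEquiv

variable {k : Type u} [Field k] [Finite k]
  {Aw : Over (Spec (CommRingCat.of k))} [GrpObj Aw] [IsCommMonObj Aw] [IsProper Aw.hom] [GeometricallyIntegral Aw.hom]
  {p : ℕ} {P : Polynomial ℤ}

/-- An order containing `End A_w` is the endomorphism ring of some variety. -/
theorem Data.exists_endEquiv (h : Data Aw p P) (S : Type*) [CommRing S] [Module.Free ℤ S] [Module.Finite ℤ S]
    (ψ : EndAV.End Aw →+* S) (hQ : ∀ x : S, ∃ n : ℤ, n ≠ 0 ∧ ∃ e, ψ e = n • x) :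
    ∃ (B : Over (Spec (CommRingCat.of k))) (_ : GrpObj B) (_ : IsCommMonObj B) (_ : IsProper B.hom)
      (_ : GeometricallyIntegral B.hom), Mem P B ∧ ∃ σ : S ≃+* EndAV.End B, σ (ψ (frobE Aw)) = frobE B := by
  classical
  letI : Module (EndAV.End Aw) S := Module.compHom S ψ
  have hsmul : ∀ (e : EndAV.End Aw) (x : S), e • x = ψ e * x := fun _ _ => rfl
  obtain ⟨B, i1, i2, i3, i4, hB, ⟨L⟩⟩ := h.exists_realization S
  let mk : S → (EndAV.Hom B Aw →ₗ[EndAV.End Aw] EndAV.Hom B Aw) := fun s =>
    { toFun := fun φ => L (s * L.symm φ)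
      map_add' := fun a b => by rw [map_add, mul_add, map_add]
      map_smul' := fun e a => by
        rw [RingHom.id_apply, ← map_smul, map_smul L.symm, hsmul, hsmul, mul_left_comm] }
  choose b hb using fun s => h.exists_hom hB (mk s)
  have hb' : ∀ (s : S) (φ : EndAV.Hom B Aw), b s ≫ φ = L (s * L.symm φ) := fun s φ => (hb s φ).symm
  have hadd : ∀ s t, b (s + t) = b s + b t := fun s t => h.hom_ext hB fun φ => by
    rw [Preadditive.add_comp, hb', hb', hb', add_mul, map_add]
  have hmul : ∀ s t, b (s * t) = b t ≫ b s := fun s t => h.hom_ext hB fun φ => by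
    rw [Category.assoc, hb', hb', hb', LinearEquiv.symm_apply_apply]
    congr 1
    ring
  have hone : b 1 = 𝟙 _ := h.hom_ext hB fun φ => by
    rw [hb', one_mul, LinearEquiv.apply_symm_apply, Category.id_comp]
  let σ : S →+* EndAV.End B :=
    { toFun := b
      map_one' := hone
      map_mul' := hmul
      map_zero' := add_left_cancel (a := b 0) (by rw [← hadd, add_zero]; exact (add_zero (b 0)).symm)
      map_add' := hadd }
  have hinj : Function.Injective σ := fun s t hst => by
    have e := congrArg (fun f : EndAV.Hom B B => f ≫ L 1) (hst : b s = b t)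
    have e' := (hb' s (L 1)).symm.trans (e.trans (hb' t (L 1)))
    rw [LinearEquiv.symm_apply_apply, mul_one, mul_one] at e'
    exact L.injective e'
  have hsurj : Function.Surjective σ := fun f => by
    let g : S →ₗ[EndAV.End Aw] S :=
      { toFun := fun x => L.symm ((show EndAV.Hom B B from f) ≫ L x)
        map_add' := fun x y => by rw [map_add, Preadditive.comp_add, map_add]
        map_smul' := fun e x => by
          rw [RingHom.id_apply, ← map_smul L.symm, map_smul L]
          exact congrArg L.symm (Category.assoc _ _ _).symm }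
    refine ⟨g 1, h.hom_ext hB fun φ => ?_⟩
    show b (g 1) ≫ φ = (show EndAV.Hom B B from f) ≫ φ
    have hg : g 1 * L.symm φ = g (L.symm φ) := by
      obtain ⟨n, hn, e, he⟩ := hQ (L.symm φ)
      refine smul_right_injective S (r := n) hn ?_
      show n • (g 1 * L.symm φ) = n • g (L.symm φ)
      have h1 : e • (1 : S) = n • L.symm φ := by rw [hsmul, mul_one, he]
      rw [← map_zsmul, ← h1, map_smul, hsmul, mul_comm, ← smul_mul_assoc, ← he]
    rw [hb', hg]
    show L (L.symm ((show EndAV.Hom B B from f) ≫ L (L.symm φ))) = _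
    rw [LinearEquiv.apply_symm_apply, LinearEquiv.apply_symm_apply]
  refine ⟨B, i1, i2, i3, i4, hB, RingEquiv.ofBijective σ ⟨hinj, hsurj⟩, h.hom_ext hB fun φ => ?_⟩
  show b (ψ (frobE Aw)) ≫ φ = (show EndAV.Hom B B from frobE B) ≫ φ
  rw [hb', frobE_natural φ, ← hsmul, map_smul, LinearEquiv.apply_symm_apply]
  rfl

end Groth.Agent.CSEquiv
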