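import Groth.Agent.CSEquiv.Bound
import Groth.Agent.IsogLib.Product
import Groth.Agent.AVRosati.QuasiSection
import Groth.Agent.AVFin.IsogClass

/-!
`Hom(-, A_w)` detects points and is fully faithful.
-/

noncomputable section

set_option autoImplicit false
set_option linter.style.haveILetI false
set_option linter.unusedSectionVars false
set_option linter.overlappingInstances false
set_option backward.isDefEq.respectTransparency false
set_option backward.isDefEq.respectTransparency.types false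
set_option maxHeartbeats 800000
set_option synthInstance.maxHeartbeats 400000

universe u

open CategoryTheory CategoryTheory.Limits AlgebraicGeometry MonoidalCategory CartesianMonoidalCategory
open scoped MonObj

attribute [-instance] CategoryTheory.catToReflQuiver

namespace Groth.Agent.CSEquiv

variable {k : Type u} [Field k]
  {X : Over (Spec (CommRingCat.of k))} [GrpObj X] [IsCommMonObj X] [IsProper X.hom] [GeometricallyIntegral X.hom]
  {Y : Over (Spec (CommRingCat.of k))} [GrpObj Y] [IsCommMonObj Y] [IsProper Y.hom] [GeometricallyIntegral Y.hom]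
  {W : Over (Spec (CommRingCat.of k))} [GrpObj W] [IsCommMonObj W] [IsProper W.hom] [GeometricallyIntegral W.hom]
  {Aw : Over (Spec (CommRingCat.of k))} [GrpObj Aw] [IsCommMonObj Aw] [IsProper Aw.hom] [GeometricallyIntegral Aw.hom]
  {p : ℕ} {P : Polynomial ℤ}

theorem nsmul_left_cancel {N : ℕ} (hN : 0 < N) {a b : EndAV.Hom X Y} (h : N • a = N • b) : a = b := by
  haveI : Module.Free ℤ (EndAV.Hom X Y) := (AVHomLib.hom_free (A := X) (B := Y)).2
  refine smul_right_injective (EndAV.Hom X Y) (r := (N : ℤ)) (by exact_mod_cast hN.ne') ?_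
  show (N : ℤ) • a = (N : ℤ) • b
  rw [natCast_zsmul, natCast_zsmul, h]

/-- A homomorphism to a power of `A_w`, as a decomposition of the identity. -/
theorem exists_power (m : ℕ) (Aw : Over (Spec (CommRingCat.of k))) [GrpObj Aw] [IsCommMonObj Aw] [IsProper Aw.hom]
    [GeometricallyIntegral Aw.hom] :
    ∃ (Q : Over (Spec (CommRingCat.of k))) (_ : GrpObj Q) (_ : IsCommMonObj Q) (_ : IsProper Q.hom)
      (_ : GeometricallyIntegral Q.hom) (pr : Fin m → EndAV.Hom Q Aw) (inc : Fin m → EndAV.Hom Aw Q),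
      (∀ s t, inc s ≫ pr t = if s = t then 𝟙 (CommGrp.mk Aw) else 0) ∧
      ∑ t, pr t ≫ inc t = 𝟙 (CommGrp.mk Q) := by
  classical
  obtain ⟨g, hg⟩ := AVDegPoly.exists_dim (A := Aw)
  obtain ⟨Q, _, _, pm, hQp, hQi, -, hpm, hext, hlift⟩ :=
    IsogLib.exists_product m (fun _ => Aw) (fun _ => g) (fun _ => hg)
  haveI := hQp
  haveI := hQi
  haveI := hpm
  have hl : ∀ s, ∃ i : EndAV.Hom Aw Q, ∀ t,
      i ≫ EndAV.Hom.of (pm t) = if s = t then 𝟙 (CommGrp.mk Aw) else 0 := fun s => by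
    obtain ⟨i, hi, hit⟩ := hlift (fun t => EndAV.Hom.toHom (if s = t then 𝟙 (CommGrp.mk Aw) else 0))
    haveI := hi
    exact ⟨EndAV.Hom.of i, fun t => EndAV.Hom.ext (hit t)⟩
  choose inc hinc using hl
  refine ⟨Q, inferInstance, inferInstance, inferInstance, inferInstance, fun t => EndAV.Hom.of (pm t), inc, hinc,
    EndAV.Hom.ext (hext _ _ fun t => ?_)⟩
  refine congrArg EndAV.Hom.toHom (?_ : (∑ s, EndAV.Hom.of (pm s) ≫ inc s) ≫ EndAV.Hom.of (pm t) =
    𝟙 (CommGrp.mk Q) ≫ EndAV.Hom.of (pm t))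
  rw [Preadditive.sum_comp, Category.id_comp, Finset.sum_eq_single t]
  · rw [Category.assoc, hinc, if_pos rfl, Category.comp_id]
  · intro s _ hs
    rw [Category.assoc, hinc, if_neg hs, Limits.comp_zero]
  · simp

/-- A point killed by a generating family is killed by its span. -/
theorem comp_eq_one_of_span {T : Over (Spec (CommRingCat.of k))} (g : T ⟶ X) {s : Set (EndAV.Hom X Aw)}
    (hs : Submodule.span ℤ s = ⊤) (h : ∀ φ ∈ s, g ≫ φ.toHom = 1) (φ : EndAV.Hom X Aw) : g ≫ φ.toHom = 1 :=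
  (Submodule.span_le.2 (fun ψ hψ => h ψ hψ) : Submodule.span ℤ s ≤ killers g) (hs ▸ Submodule.mem_top)

variable [Finite k]

/-- A homomorphism killed by all homomorphisms to `A_w` is zero. -/
theorem Data.eq_zero_of_comp (h : Data Aw p P) (hY : Mem P Y) (f : EndAV.Hom W Y)
    (hf : ∀ φ : EndAV.Hom Y Aw, f ≫ φ = 0) : f = 0 := by
  obtain ⟨Z, _, j, hj, hjc, hZp, hZi, hjr⟩ := IsogLib.exists_image f.toHom
  haveI := hj
  haveI := hjc
  haveI := hZp
  haveI := hZi
  haveI : IsCommMonObj Z := isCommMonObj_of_isProper_of_geometricallyIntegral Z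
  haveI : IsIntegral W.left := H23.MaxAbelian.isIntegral_of_geometricallyIntegral
  haveI : Mono j := AVRosati.SubAV.mono_of_closed j
  obtain ⟨τ, hτ⟩ := AVRosati.SubAV.exists_lift_over f.toHom j hjr.ge
  haveI : Surjective τ.left := AVRosati.SubAV.surjective_of_range τ j (by rw [hτ, hjr])
  haveI : IsMonHom (τ ≫ j) := hτ ▸ inferInstance
  haveI : IsMonHom τ := AVRosati.SubAV.isMonHom_of_comp_mono τ j
  obtain ⟨d, hd⟩ := AVDegPoly.exists_dim (A := Z)
  rcases Nat.eq_zero_or_pos d with hd0 | hd0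
  · subst hd0
    obtain ⟨e⟩ := AVFin.iso_unit_of_dim_zero (B := Z) hd
    refine EndAV.Hom.ext ?_
    rw [← hτ, EndAV.Hom.toHom_zero, show τ = 1 from (cancel_mono e.hom).1 (toUnit_unique _ _), MonObj.one_comp]
  exfalso
  have hZ : Mem P Z := by
    haveI : Mono (EndAV.Hom.of j).toHom := ‹Mono j›
    exact Mem.of_mono (f := EndAV.Hom.of j) hY
  obtain ⟨y, N, hN, hy, hjy⟩ := AVRosati.QuasiSection.exists_regular j
  haveI := hy
  haveI : IsIntegral Z.left := H23.MaxAbelian.isIntegral_of_geometricallyIntegral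
  haveI : Module.Finite ℤ (EndAV.Hom Z Aw) := (AVHomLib.hom_free (A := Z) (B := Aw)).1
  haveI : Module.Free ℤ (EndAV.Hom Z Aw) := (AVHomLib.hom_free (A := Z) (B := Aw)).2
  have hjN : EndAV.Hom.of j ≫ EndAV.Hom.of y = N • 𝟙 (CommGrp.mk Z) := EndAV.Hom.ext (by
    rw [EndAV.Hom.toHom_nsmul, EndAV.Hom.toHom_id]
    refine (cancel_mono j).1 ?_
    rw [MonObj.pow_comp, Category.id_comp, ← hjy, EndAV.Hom.toHom_comp, EndAV.Hom.toHom_of, EndAV.Hom.toHom_of,
      Category.assoc])
  have hall : ∀ ψ : EndAV.Hom Z Aw, ψ = 0 := fun ψ => nsmul_left_cancel hN (by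
    rw [smul_zero]
    refine EndAV.Hom.ext (AVRosati.Factor.cancel_surjective τ ?_)
    refine congrArg EndAV.Hom.toHom (?_ : EndAV.Hom.of τ ≫ (N • ψ) = EndAV.Hom.of τ ≫ 0)
    have hτj : EndAV.Hom.of τ ≫ EndAV.Hom.of j = f := EndAV.Hom.ext hτ
    rw [show N • ψ = EndAV.Hom.of j ≫ EndAV.Hom.of y ≫ ψ by
        rw [← Category.assoc, hjN, Preadditive.nsmul_comp, Category.id_comp],
      ← Category.assoc, hτj, hf, Limits.comp_zero])
  haveI : Subsingleton (EndAV.Hom Z Aw) := ⟨fun a b => (hall a).trans (hall b).symm⟩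
  have := h.finrank_hom hZ hd
  rw [Module.finrank_zero_of_subsingleton] at this
  omega

/-- Homomorphisms to `A_w` generate a multiple of the identity. -/
theorem Data.exists_decomp (h : Data Aw p P) (hY : Mem P Y) :
    ∃ (N : ℕ) (_ : 0 < N) (m : ℕ) (φ : Fin m → EndAV.Hom Y Aw) (r : Fin m → EndAV.Hom Aw Y),
      Submodule.span ℤ (Set.range φ) = ⊤ ∧ ∑ t, φ t ≫ r t = N • 𝟙 (CommGrp.mk Y) := by
  classical
  haveI : Module.Finite ℤ (EndAV.Hom Y Aw) := (AVHomLib.hom_free (A := Y) (B := Aw)).1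
  obtain ⟨m, φ, hφ⟩ := Module.Finite.exists_fin (R := ℤ) (M := EndAV.Hom Y Aw)
  obtain ⟨Q, _, _, _, _, pr, inc, hip, hid⟩ := exists_power m Aw
  let Φ : EndAV.Hom Y Q := ∑ t, φ t ≫ inc t
  have hΦ : ∀ t, Φ ≫ pr t = φ t := fun t => by
    rw [Preadditive.sum_comp, Finset.sum_eq_single t]
    · rw [Category.assoc, hip, if_pos rfl, Category.comp_id]
    · intro s _ hs
      rw [Category.assoc, hip, if_neg hs, Limits.comp_zero]
    · simp
  obtain ⟨y, N, hN, hy, hΦy⟩ := AVRosati.QuasiSection.exists_regular Φ.toHom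
  haveI := hy
  have hyΦ : Φ ≫ EndAV.Hom.of y ≫ Φ = N • Φ := EndAV.Hom.ext (by
    rw [EndAV.Hom.toHom_nsmul]; exact hΦy)
  have hδ : Φ ≫ EndAV.Hom.of y - N • 𝟙 (CommGrp.mk Y) = 0 := h.eq_zero_of_comp hY _ fun ψ => by
    have hψ : ψ ∈ Submodule.span ℤ (Set.range φ) := hφ ▸ Submodule.mem_top
    induction hψ using Submodule.span_induction with
    | zero => exact Limits.comp_zero
    | add a b _ _ ha hb => rw [Preadditive.comp_add, ha, hb, add_zero]
    | smul c a _ ha => rw [Preadditive.comp_zsmul, ha, smul_zero]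
    | mem a ha =>
      obtain ⟨t, rfl⟩ := ha
      rw [← hΦ t, ← Category.assoc, Preadditive.sub_comp, Category.assoc, hyΦ, Preadditive.nsmul_comp,
        Category.id_comp, sub_self, Limits.zero_comp]
  refine ⟨N, hN, m, φ, fun t => inc t ≫ EndAV.Hom.of y, hφ, ?_⟩
  rw [← sub_eq_zero.1 hδ, Preadditive.sum_comp]
  exact Finset.sum_congr rfl fun t _ => (Category.assoc _ _ _).symm

/-- Homomorphisms to `A_w` detect points. -/
theorem Data.eq_one_of_killed (h : Data Aw p P) (hY : Mem P Y) {T : Over (Spec (CommRingCat.of k))} (g : T ⟶ Y)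
    (hg : ∀ φ : EndAV.Hom Y Aw, g ≫ φ.toHom = 1) : g = 1 := by
  obtain ⟨N, hN, m, φ, r, -, hsum⟩ := h.exists_decomp hY
  have hgN : g ^ N = 1 := by
    have e := congrArg (fun ψ : EndAV.Hom Y Y =>
      ((EndAV.Hom.ptsMap (A := Y) (B := Y) T).flip (Additive.ofMul g)) ψ) hsum
    simp only [map_sum] at e
    rw [Finset.sum_eq_zero fun t _ => ?_] at e
    · have e' : 1 = g ≫ EndAV.Hom.toHom (N • 𝟙 (CommGrp.mk Y)) := congrArg Additive.toMul e
      rw [EndAV.Hom.toHom_nsmul, MonObj.comp_pow, EndAV.Hom.toHom_id, Category.comp_id] at e'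
      exact e'.symm
    · show Additive.ofMul (g ≫ EndAV.Hom.toHom (φ t ≫ r t)) = 0
      rw [EndAV.Hom.toHom_comp, ← Category.assoc, hg, MonObj.one_comp]
      rfl
  obtain ⟨Q, _, _, _, _, q, hq, hqi, hqk⟩ :=
    (cut_kill (X := Y) N hN (⊤ : Submodule (EndAV.End Aw) (EndAV.Hom Y Aw))).quot
  haveI := hq
  have hQ : Mem P Q := Mem.of_surjective (f := EndAV.Hom.of q) hY hqi.2
  have hdeg : deg q = 1 := by
    refine (h.hidx_eq_deg hY hQ (EndAV.Hom.of q) hqi).symm.trans ?_
    refine AddSubgroup.index_eq_one.2 ((AddMonoidHom.range_eq_top).2 fun (ψ : EndAV.Hom Y Aw) => ?_)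
    obtain ⟨v, hv, hqv⟩ := exists_factor q hqi ψ.toHom fun T' g' hg' => ((hqk T' g').1 hg').2 ψ trivial
    exact ⟨EndAV.Hom.of v, EndAV.Hom.ext hqv⟩
  haveI := isIso_of_deg_eq_one q hqi hdeg
  exact (cancel_mono q).1 (((hqk T g).2 ⟨hgN, fun ψ _ => hg ψ⟩).trans (MonObj.one_comp q).symm)

/-- A homomorphism through which every homomorphism to `A_w` factors is a closed immersion. -/
theorem Data.isClosedImmersion_of_surjective (h : Data Aw p P) (hY : Mem P Y) (f : EndAV.Hom Y X)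
    (hf : Function.Surjective (Preadditive.leftComp (CommGrp.mk Aw) f)) : IsClosedImmersion f.toHom.left := by
  haveI : Mono f.toHom := mono_of_trivial f.toHom fun T g hg => h.eq_one_of_killed hY g fun φ => by
    obtain ⟨(ψ : EndAV.Hom X Aw), rfl⟩ := hf φ
    show g ≫ EndAV.Hom.toHom (f ≫ ψ) = 1
    rw [EndAV.Hom.toHom_comp, ← Category.assoc, hg, MonObj.one_comp]
  exact AVTheta.isClosedImmersion_of_mono f.toHom

/-- Faithfulness. -/
theorem Data.hom_ext (h : Data Aw p P) (hY : Mem P Y) {f g : EndAV.Hom X Y}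
    (hfg : ∀ φ : EndAV.Hom Y Aw, f ≫ φ = g ≫ φ) : f = g :=
  sub_eq_zero.1 (h.eq_zero_of_comp hY (f - g) fun φ => by rw [Preadditive.sub_comp, hfg, sub_self])

/-- Fullness. -/
theorem Data.exists_hom (h : Data Aw p P) (hY : Mem P Y)
    (g : EndAV.Hom Y Aw →ₗ[EndAV.End Aw] EndAV.Hom X Aw) :
    ∃ f : EndAV.Hom X Y, ∀ φ : EndAV.Hom Y Aw, g φ = f ≫ φ := by
  classical
  obtain ⟨N, hN, m, φ, r, -, hsum⟩ := h.exists_decomp hY
  let F : EndAV.Hom X Y := ∑ t, g (φ t) ≫ r t
  have hF : ∀ ψ, F ≫ ψ = N • g ψ := fun ψ => by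
    have e : ∀ t, (g (φ t) ≫ r t) ≫ ψ = g (φ t ≫ r t ≫ ψ) := fun t => by
      rw [Category.assoc]
      exact (map_smul g (show EndAV.End Aw from r t ≫ ψ) (φ t)).symm
    rw [Preadditive.sum_comp, Finset.sum_congr rfl fun t _ => e t, ← map_sum, ← map_nsmul]
    refine congrArg g ?_
    rw [Finset.sum_congr rfl fun t _ => (Category.assoc (φ t) (r t) ψ).symm, ← Preadditive.sum_comp, hsum,
      Preadditive.nsmul_comp, Category.id_comp]
  obtain ⟨u, hu, hNu⟩ := exists_factor (EndAV.End.toHom (N : EndAV.End X)) (isg_natCast N hN) F.toHom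
    fun T x hx => by
      rw [pts_pow] at hx
      refine h.eq_one_of_killed hY _ fun ψ => ?_
      rw [Category.assoc]
      refine (congrArg (fun t => x ≫ t) (congrArg EndAV.Hom.toHom (hF ψ))).trans ?_
      rw [EndAV.Hom.toHom_nsmul, MonObj.comp_pow, ← MonObj.pow_comp, hx, MonObj.one_comp]
  haveI := hu
  have hNu' : N • EndAV.Hom.of u = F := EndAV.Hom.ext (by
    rw [EndAV.Hom.toHom_nsmul, ← hNu, EndAV.End.toHom_natCast, MonObj.pow_comp, Category.id_comp, EndAV.Hom.toHom_of])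
  refine ⟨EndAV.Hom.of u, fun ψ => nsmul_left_cancel hN ?_⟩
  rw [← Preadditive.nsmul_comp, hNu', hF]

/-- Precomposition with an isogeny has finite cokernel, and conversely. -/
theorem Data.isg_iff (h : Data Aw p P) (hX : Mem P X) (hY : Mem P Y) (f : EndAV.Hom X Y) :
    Isg f.toHom ↔ (Function.Injective (Preadditive.leftComp (CommGrp.mk Aw) f) ∧
      Finite (EndAV.Hom X Aw ⧸ (Preadditive.leftComp (CommGrp.mk Aw) f).range)) := by
  constructor
  · intro hf
    refine ⟨leftComp_injective f hf, Nat.finite_of_card_ne_zero ?_⟩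
    rw [show Nat.card _ = hidx Aw f from rfl, h.hidx_eq_deg hX hY f hf]
    exact (deg_pos _ hf).ne'
  · rintro ⟨hinj, hfin⟩
    let Rg := (Preadditive.leftComp (CommGrp.mk Aw) f).range
    let N := Rg.index
    have hN : 0 < N := Nat.pos_of_ne_zero (by
      haveI : Rg.FiniteIndex := AddSubgroup.finiteIndex_of_finite_quotient
      exact AddSubgroup.FiniteIndex.index_ne_zero)
    have hex : ∀ φ : EndAV.Hom X Aw, ∃ ψ : EndAV.Hom Y Aw, f ≫ ψ = N • φ := fun φ =>
      Rg.nsmul_index_mem φ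
    choose g hg using hex
    have hinj' : ∀ a b : EndAV.Hom Y Aw, f ≫ a = f ≫ b → a = b := fun a b hab => hinj hab
    obtain ⟨u, hu⟩ := h.exists_hom (X := Y) hX
      { toFun := g
        map_add' := fun a b => hinj' _ _ (by rw [Preadditive.comp_add, hg, hg, hg, smul_add])
        map_smul' := fun s a => hinj' _ _ (by
          show f ≫ g (a ≫ s) = f ≫ (g a ≫ s)
          rw [hg, ← Category.assoc, hg, Preadditive.nsmul_comp]) }
    have hu' : ∀ φ : EndAV.Hom X Aw, u ≫ φ = g φ := fun φ => (hu φ).symm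
    have e1 : f ≫ u = N • 𝟙 (CommGrp.mk X) := h.hom_ext hX fun φ => by
      rw [Category.assoc, hu', hg, Preadditive.nsmul_comp, Category.id_comp]
    have e2 : u ≫ f = N • 𝟙 (CommGrp.mk Y) := h.hom_ext hY fun ψ => hinj' _ _ (by
      show f ≫ ((u ≫ f) ≫ ψ) = f ≫ ((N • 𝟙 (CommGrp.mk Y)) ≫ ψ)
      rw [Category.assoc, ← Category.assoc, e1]
      simp only [Preadditive.nsmul_comp, Preadditive.comp_nsmul, Category.id_comp])
    haveI := isProper_left f.toHom
    haveI := isProper_left u.toHom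
    refine ⟨?_, ⟨fun y => ?_⟩⟩
    · haveI : IsFinite (f.toHom.left ≫ u.toHom.left) := by
        have e := congrArg (fun φ : EndAV.Hom X X => φ.toHom.left) e1
        simp only [EndAV.Hom.toHom_nsmul, EndAV.Hom.toHom_id, EndAV.Hom.toHom_comp, Over.comp_left] at e
        rw [e]
        exact (isg_pow N hN).1
      exact IsFinite.of_comp f.toHom.left u.toHom.left
    · obtain ⟨x, hx⟩ := (isg_pow (X := Y) N hN).2.surj y
      have e := congrArg (fun φ : EndAV.Hom Y Y => φ.toHom.left) e2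
      simp only [EndAV.Hom.toHom_nsmul, EndAV.Hom.toHom_id, EndAV.Hom.toHom_comp, Over.comp_left] at e
      refine ⟨u.toHom.left x, ?_⟩
      rw [← hx, ← e]
      rfl

end Groth.Agent.CSEquiv
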