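import Groth.Agent.FinGrpLib.Order
import Groth.Agent.GrpSchLib.AffineHopf
import Groth.Agent.AssLib.FlatField
import Mathlib.FieldTheory.Fixed
import Mathlib.RingTheory.DualNumber
import Mathlib.FieldTheory.IsAlgClosed.AlgebraicClosure
import Mathlib.AlgebraicGeometry.Morphisms.FlatRank

/-!
A nontrivial finite group scheme over a prime field has a test scheme on which it has at least two and at most
order-many points.
-/

noncomputable section

set_option autoImplicit false
set_option linter.style.haveILetI false
set_option backward.isDefEq.respectTransparency false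
set_option backward.isDefEq.respectTransparency.types false

universe u

open CategoryTheory CategoryTheory.Limits AlgebraicGeometry MonoidalCategory CartesianMonoidalCategory
open scoped MonObj TensorProduct
open WithConv

attribute [-instance] CategoryTheory.catToReflQuiver

namespace Groth.Agent.CSEquiv

variable {k : Type u} [Field k] [Finite k]

/-- The algebraic core. -/
theorem exists_test_alg (p : ℕ) [Fact p.Prime] (hk : Nat.card k = p) (A : Type u) [CommRing A] [HopfAlgebra k A]
    [Module.Finite k A] (h2 : 2 ≤ Module.finrank k A) :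
    ∃ (C : Type u) (_ : CommRing C) (_ : Algebra k C), Finite (A →ₐ[k] C) ∧
      Nat.card (A →ₐ[k] C) ≤ Module.finrank k A ∧ ∃ f g : A →ₐ[k] C, f ≠ g := by
  classical
  haveI : Fintype k := Fintype.ofFinite k
  haveI : CharP k p := by
    obtain ⟨q, hq⟩ := CharP.exists k
    obtain ⟨n, hqp, hn⟩ := FiniteField.card k q
    rw [Nat.card_eq_fintype_card, hn] at hk
    have hqe : q = p := (Nat.prime_dvd_prime_iff_eq hqp Fact.out).1 (hk ▸ dvd_pow_self q n.ne_zero)
    exact hqe ▸ hq
  let Ω := AlgebraicClosure k
  let e0 : A →ₐ[k] Ω := (Algebra.ofId k Ω).comp (Bialgebra.counitAlgHom k A)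
  by_cases hΩ : ∃ f : A →ₐ[k] Ω, f ≠ e0
  · obtain ⟨f, hf⟩ := hΩ
    refine ⟨Ω, inferInstance, inferInstance, inferInstance, ?_, f, e0, hf⟩
    rw [Nat.card_eq_fintype_card]
    refine ((linearIndependent_toLinearMap k A Ω).fintype_card_le_finrank).trans ?_
    exact le_of_eq (Module.finrank_linearMap_self k Ω A)
  push Not at hΩ
  haveI : IsArtinianRing A := isArtinian_of_tower k inferInstance
  have hmax : ∀ P : Ideal A, P.IsMaximal → P = RingHom.ker (Bialgebra.counitAlgHom k A) := by
    intro P hP
    letI := Ideal.Quotient.field P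
    haveI : Algebra.IsAlgebraic k (A ⧸ P) := Algebra.IsAlgebraic.of_finite k _
    let i : (A ⧸ P) →ₐ[k] Ω := IsAlgClosed.lift
    have h := hΩ (i.comp (Ideal.Quotient.mkₐ k P))
    refine hP.eq_of_le (RingHom.ker_ne_top _) fun a ha => ?_
    have h' := AlgHom.congr_fun h a
    rw [AlgHom.comp_apply, Ideal.Quotient.mkₐ_eq_mk, Ideal.Quotient.eq_zero_iff_mem.2 ha, map_zero] at h'
    exact RingHom.mem_ker.2 ((algebraMap k Ω).injective (h'.symm.trans (map_zero _).symm))
  haveI : Nontrivial A := Module.nontrivial_of_finrank_pos (R := k) (by omega)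
  haveI : IsLocalRing A := by
    obtain ⟨P, hP⟩ := Ideal.exists_maximal A
    exact IsLocalRing.of_unique_max_ideal ⟨P, hP, fun Q hQ => (hmax Q hQ).trans (hmax P hP).symm⟩
  let c : FinGrpLib.CounitalComul k A :=
    ⟨Bialgebra.counitAlgHom k A, Bialgebra.comulAlgHom k A,
      fun b => FinGrpLib.lift_counit_left b, fun b => FinGrpLib.lift_counit_right b⟩
  obtain ⟨n, x, D, hD, hgen⟩ := FinGrpLib.exists_generators_dual c
  have hpn : p ^ n ≤ Module.finrank k A := by
    have hli := FinGrpLib.linearIndependent_monomials (R := k) x D hD (algebraMap k A).injective p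
      fun i h0 hi => isUnit_iff_ne_zero.2 fun h => by
        rw [CharP.cast_eq_zero_iff k p] at h
        exact absurd (Nat.le_of_dvd h0 h) (by omega)
    simpa using hli.fintype_card_le_finrank
  have hn : 0 < n := by
    rcases Nat.eq_zero_or_pos n with rfl | h
    · exfalso
      have hs : Function.Surjective (algebraMap k A) := fun b => by
        obtain ⟨P, rfl⟩ := hgen b
        exact ⟨MvPolynomial.coeff 0 P, by
          conv_rhs => rw [MvPolynomial.eq_C_of_isEmpty P]
          simp⟩
      have : Module.finrank k A ≤ 1 := finrank_le_one (1 : A) fun b => by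
        obtain ⟨a, rfl⟩ := hs b; exact ⟨a, (Algebra.algebraMap_eq_smul_one a).symm⟩
      omega
    · exact h
  let ev : (A →ₐ[k] DualNumber k) → (Fin n → k) := fun f i => (f (x i)).snd
  have hfst : ∀ f : A →ₐ[k] DualNumber k, ∀ a, (f a).fst = Bialgebra.counitAlgHom k A a := fun f a => by
    have h := AlgHom.congr_fun (hΩ ((Algebra.ofId k Ω).comp ((TrivSqZeroExt.fstHom k k k).comp f))) a
    exact (algebraMap k Ω).injective h
  have hev : Function.Injective ev := fun f g h => AlgHom.ext fun a => by
    obtain ⟨P, rfl⟩ := hgen a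
    have : f.comp (MvPolynomial.aeval x) = g.comp (MvPolynomial.aeval x) := MvPolynomial.algHom_ext fun i => by
      simp only [AlgHom.comp_apply, MvPolynomial.aeval_X]
      exact TrivSqZeroExt.ext ((hfst f _).trans (hfst g _).symm) (congrFun h i)
    exact AlgHom.congr_fun this P
  refine ⟨DualNumber k, inferInstance, inferInstance, Finite.of_injective ev hev, ?_, ?_⟩
  · refine (Nat.card_le_card_of_injective ev hev).trans ?_
    rwa [Nat.card_fun, hk, Nat.card_eq_fintype_card, Fintype.card_fin]
  · let i : Fin n := ⟨0, hn⟩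
    let ε := Bialgebra.counitAlgHom k A
    let pt : A →ₐ[k] DualNumber k :=
      { toFun := fun a => TrivSqZeroExt.inl (ε a) + TrivSqZeroExt.inr (ε (D i a))
        map_one' := by simp
        map_zero' := by simp
        map_mul' := fun a b => by
          refine TrivSqZeroExt.ext ?_ ?_
          · simp
          · simp [Derivation.leibniz, mul_comm, add_comm]
        map_add' := fun a b => by
          refine TrivSqZeroExt.ext ?_ ?_ <;> simp
        commutes' := fun r => by
          refine TrivSqZeroExt.ext ?_ ?_ <;> simp [TrivSqZeroExt.algebraMap_eq_inl] }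
    refine ⟨pt, (Algebra.ofId k (DualNumber k)).comp ε, fun h => ?_⟩
    have h' := congrArg TrivSqZeroExt.snd (AlgHom.congr_fun h (x i))
    simp [pt, hD, TrivSqZeroExt.algebraMap_eq_inl] at h'

open GrpSchLib.AffineHopf in
/-- A nontrivial finite group scheme over `𝔽_p` has a test scheme with at least two and at most order-many
points. -/
theorem exists_test (p : ℕ) [Fact p.Prime] (hk : Nat.card k = p) {G : Over (Spec (CommRingCat.of k))} [GrpObj G]
    [IsFinite G.hom] {s : ↥(Spec (CommRingCat.of k))} (h2 : 2 ≤ G.hom.finrank s) :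
    ∃ T : Over (Spec (CommRingCat.of k)), Finite (T ⟶ G) ∧ Nat.card (T ⟶ G) ≤ G.hom.finrank s ∧
      ∃ g : T ⟶ G, g ≠ 1 := by
  haveI : IsAffine G.left := isAffine_of_isAffineHom G.hom
  obtain ⟨A, _, _, ⟨e⟩⟩ := exists_hopf (R := k) G
  let e' : sp k A ≅ G := (Grp.forget _).mapIso e
  haveI : IsIso e'.hom.left := inferInstanceAs (IsIso ((Over.forget _).map e'.hom))
  haveI : IsFinite (sp k A).hom := by rw [← Over.w e'.hom]; infer_instance
  haveI : Module.Finite k A := by
    rw [← RingHom.finite_algebraMap]
    exact (IsFinite.SpecMap_iff (f := CommRingCat.ofHom (algebraMap k A))).mp ‹IsFinite (sp k A).hom›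
  have hr : G.hom.finrank s = Module.finrank k A := by
    haveI : Flat G.hom := AssLib.flat_over_field G.hom
    rw [← Scheme.Hom.finrank_comp_left_of_isIso e'.hom.left G.hom, Over.w e'.hom]
    refine Eq.trans (Scheme.Hom.finrank_SpecMap_algebraMap k A s) ?_
    exact congrFun Module.rankAtStalk_eq_finrank_of_free s
  obtain ⟨C, _, _, hfin, hcard, f, g, hfg⟩ := exists_test_alg p hk A (hr ▸ h2)
  let Φ : (A →ₐ[k] C) ≃ (sp k C ⟶ G) :=
    (Equiv.ofBijective (fun f => spMap f) ⟨fun _ _ h => spMap_injective h, fun g => by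
      obtain ⟨f, hf⟩ := exists_eq_spMap g; exact ⟨f, hf.symm⟩⟩).trans (e'.homToEquiv (Z := sp k C))
  refine ⟨sp k C, Finite.of_equiv _ Φ, by rw [hr, ← Nat.card_congr Φ]; exact hcard, ?_⟩
  by_contra h
  push Not at h
  exact hfg (Φ.injective ((h _).trans (h _).symm))

end Groth.Agent.CSEquiv
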