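import Groth.Agent.CSEquiv.RankHom
import Groth.Agent.CSEquiv.Cut
import Groth.Agent.CSEquiv.TestPts
import Mathlib.GroupTheory.IndexNSmul

/-!
The index of the image of `Hom(-, A_w)` is bounded by the degree of an isogeny.
-/

noncomputable section

set_option autoImplicit false
set_option linter.style.haveILetI false
set_option linter.unusedSectionVars false
set_option linter.overlappingInstances false
set_option backward.isDefEq.respectTransparency false
set_option backward.isDefEq.respectTransparency.types false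
set_option maxHeartbeats 800000
set_option synthInstance.maxHeartbeats 400000

universe u

open CategoryTheory CategoryTheory.Limits AlgebraicGeometry MonoidalCategory CartesianMonoidalCategory
open scoped MonObj

attribute [-instance] CategoryTheory.catToReflQuiver

namespace Groth.Agent.CSEquiv

variable {k : Type u} [Field k] [Finite k]
  {X : Over (Spec (CommRingCat.of k))} [GrpObj X] [IsCommMonObj X] [IsProper X.hom] [GeometricallyIntegral X.hom]
  {Y : Over (Spec (CommRingCat.of k))} [GrpObj Y] [IsCommMonObj Y] [IsProper Y.hom] [GeometricallyIntegral Y.hom]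
  {Aw : Over (Spec (CommRingCat.of k))} [GrpObj Aw] [IsCommMonObj Aw] [IsProper Aw.hom] [GeometricallyIntegral Aw.hom]
  {p : ℕ} {P : Polynomial ℤ}

theorem pts_pow {T : Over (Spec (CommRingCat.of k))} (g : T ⟶ X) (n : ℕ) :
    g ≫ EndAV.End.toHom (n : EndAV.End X) = g ^ n := by
  rw [EndAV.End.toHom_natCast, MonObj.comp_pow, Category.comp_id]

theorem isg_natCast (n : ℕ) (hn : 0 < n) : Isg (EndAV.End.toHom (n : EndAV.End X)) := by
  rw [EndAV.End.toHom_natCast]
  exact isg_pow n hn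

/-- The points killed by `n` and by a set of homomorphisms. -/
def Kill (n : ℕ) (S : Set (EndAV.Hom X Aw)) (T : Over (Spec (CommRingCat.of k))) (g : T ⟶ X) : Prop :=
  g ^ n = 1 ∧ ∀ φ ∈ S, g ≫ φ.toHom = 1

/-- The homomorphisms killing a point. -/
def killers {T : Over (Spec (CommRingCat.of k))} (g : T ⟶ X) : Submodule ℤ (EndAV.Hom X Aw) :=
  AddSubgroup.toIntSubmodule
    { carrier := {φ | g ≫ φ.toHom = 1}
      zero_mem' := MonObj.comp_one g
      add_mem' := fun {a b} ha hb => by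
        show g ≫ (a + b).toHom = 1
        rw [EndAV.Hom.toHom_add, MonObj.comp_mul, show g ≫ a.toHom = 1 from ha, show g ≫ b.toHom = 1 from hb,
          _root_.one_mul]
      neg_mem' := fun {a} ha => by
        show g ≫ (-a).toHom = 1
        rw [EndAV.Hom.toHom_neg, GrpObj.comp_inv, show g ≫ a.toHom = 1 from ha, inv_one] }

theorem cut_kill (n : ℕ) (hn : 0 < n) (S : Submodule (EndAV.End Aw) (EndAV.Hom X Aw)) :
    Cut X (Kill n (S : Set (EndAV.Hom X Aw))) := by
  haveI : Module.Finite ℤ (EndAV.Hom X Aw) := (AVHomLib.hom_free (A := X) (B := Aw)).1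
  haveI : IsNoetherian ℤ (EndAV.Hom X Aw) := isNoetherian_of_isNoetherianRing_of_finite ℤ _
  obtain ⟨s, hs⟩ := IsNoetherian.noetherian (AddSubgroup.toIntSubmodule S.toAddSubgroup)
  refine ((Cut.kernel (EndAV.End.toHom (n : EndAV.End X)) (isg_natCast n hn)).list s.toList).congr
    fun T g => ?_
  rw [pts_pow]
  refine and_congr Iff.rfl ⟨fun h φ hφ => ?_, fun h φ hφ => h φ ?_⟩
  · have hle : Submodule.span ℤ (s : Set (EndAV.Hom X Aw)) ≤ killers g :=
      Submodule.span_le.2 fun ψ hψ => h ψ (Finset.mem_toList.2 hψ)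
    exact hle (hs.symm ▸ hφ : φ ∈ Submodule.span ℤ (s : Set (EndAV.Hom X Aw)))
  · have : φ ∈ Submodule.span ℤ (s : Set (EndAV.Hom X Aw)) := Submodule.subset_span (Finset.mem_toList.1 hφ)
    rwa [hs] at this

/-- Being the order of the subgroup cut out. -/
def IsOrd (n : ℕ) (S : Submodule (EndAV.End Aw) (EndAV.Hom X Aw)) (d : ℕ) : Prop :=
  ∃ (Q : Over (Spec (CommRingCat.of k))) (_ : GrpObj Q) (_ : IsCommMonObj Q) (_ : IsProper Q.hom)
    (_ : GeometricallyIntegral Q.hom) (q : X ⟶ Q) (_ : IsMonHom q), Isg q ∧ deg q = d ∧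
      ∀ T (g : T ⟶ X), g ≫ q = 1 ↔ Kill n (S : Set (EndAV.Hom X Aw)) T g

theorem exists_isOrd (n : ℕ) (hn : 0 < n) (S : Submodule (EndAV.End Aw) (EndAV.Hom X Aw)) : ∃ d, IsOrd n S d := by
  obtain ⟨Q, i1, i2, i3, i4, q, hq, hi, hk⟩ := (cut_kill n hn S).quot
  exact ⟨deg q, Q, i1, i2, i3, i4, q, hq, hi, rfl, hk⟩

theorem IsOrd.eq_of_equiv {n m : ℕ} {S S' : Submodule (EndAV.End Aw) (EndAV.Hom X Aw)} {d d' : ℕ}
    (h : IsOrd n S d) (h' : IsOrd m S' d') (he : ∀ (T : Over (Spec (CommRingCat.of k))) (g : T ⟶ X),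
      Kill n (S : Set (EndAV.Hom X Aw)) T g ↔ Kill m (S' : Set (EndAV.Hom X Aw)) T g) : d = d' := by
  obtain ⟨Q, _, _, _, _, q, hq, hi, rfl, hk⟩ := h
  obtain ⟨Q', _, _, _, _, q', hq', hi', rfl, hk'⟩ := h'
  exact deg_eq_of_kernel_eq q hi q' hi' fun T x => (hk T x).trans ((he T x).trans (hk' T x).symm)

theorem IsOrd.unique {n : ℕ} {S : Submodule (EndAV.End Aw) (EndAV.Hom X Aw)} {d d' : ℕ}
    (h : IsOrd n S d) (h' : IsOrd n S d') : d = d' := h.eq_of_equiv h' fun _ _ => Iff.rfl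

/-! ### Group-theoretic index -/

/-- The index of the image of `Hom(Y, A_w) → Hom(X, A_w)`. -/
def hidx (Aw : Over (Spec (CommRingCat.of k))) [GrpObj Aw] [IsCommMonObj Aw] (f : EndAV.Hom X Y) : ℕ :=
  (Preadditive.leftComp (CommGrp.mk Aw) f).range.index

theorem leftComp_injective (f : EndAV.Hom X Y) (hf : Isg f.toHom) :
    Function.Injective (Preadditive.leftComp (CommGrp.mk Aw) f) := fun a b hab =>
  EndAV.Hom.ext (cancel_isg f.toHom hf (congrArg EndAV.Hom.toHom hab))

theorem hidx_comp {Z : Over (Spec (CommRingCat.of k))} [GrpObj Z] [IsCommMonObj Z] [IsProper Z.hom]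
    [GeometricallyIntegral Z.hom] (f : EndAV.Hom X Y) (g : EndAV.Hom Y Z) (hf : Isg f.toHom) :
    hidx Aw (f ≫ g) = hidx Aw f * hidx Aw g := by
  have e : (Preadditive.leftComp (CommGrp.mk Aw) (f ≫ g)).range =
      (Preadditive.leftComp (CommGrp.mk Aw) g).range.map (Preadditive.leftComp (CommGrp.mk Aw) f) := by
    rw [← AddMonoidHom.range_comp]
    congr 1
  rw [hidx, e, AddSubgroup.index_map_of_injective _ (leftComp_injective f hf), mul_comm]
  rfl

theorem hidx_of_isIso (f : EndAV.Hom X Y) [IsIso f] : hidx Aw f = 1 :=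
  AddSubgroup.index_eq_one.2 ((AddMonoidHom.range_eq_top).2 fun φ => ⟨inv f ≫ φ, IsIso.hom_inv_id_assoc f φ⟩)

theorem isIso_hom (f : EndAV.Hom X Y) [IsIso f.toHom] : IsIso f := by
  haveI : IsMonHom (inv f.toHom) := (inferInstance : IsMonHom (asIso f.toHom).inv)
  refine ⟨EndAV.Hom.of (inv f.toHom), EndAV.Hom.ext ?_, EndAV.Hom.ext ?_⟩
  · exact IsIso.hom_inv_id f.toHom
  · exact IsIso.inv_hom_id f.toHom

theorem Data.hidx_natCast (h : Data Aw p P) (hX : Mem P X) {g : ℕ} (hg : topologicalKrullDim X.left = g) (n : ℕ) :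
    hidx Aw (show EndAV.Hom X X from (n : EndAV.End X)) = n ^ (2 * g) := by
  haveI : Module.Finite ℤ (EndAV.Hom X Aw) := (AVHomLib.hom_free (A := X) (B := Aw)).1
  haveI : Module.Free ℤ (EndAV.Hom X Aw) := (AVHomLib.hom_free (A := X) (B := Aw)).2
  rw [← h.finrank_hom hX hg, ← AddSubgroup.index_range_nsmul (EndAV.Hom X Aw) n, hidx]
  congr 2
  refine AddMonoidHom.ext fun φ => ?_
  show (show EndAV.Hom X X from (n : EndAV.End X)) ≫ φ = n • φ
  rw [show (show EndAV.Hom X X from (n : EndAV.End X)) = n • 𝟙 (CommGrp.mk X) from EndAV.Hom.ext (by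
    rw [EndAV.Hom.toHom_nsmul]; exact EndAV.End.toHom_natCast n), Preadditive.nsmul_comp, Category.id_comp]

/-! ### The bound on a minimal isogeny -/

/-- A maximal ideal killing the nontrivial kernel of an isogeny has index at most the degree. -/
theorem Data.index_le_of_killed (h : Data Aw p P) (hX : Mem P X) (hY : Mem P Y) (r : EndAV.Hom X Y)
    (hr : Isg r.toHom) (h1 : deg r.toHom ≠ 1) {m : Ideal (EndAV.End Aw)} (hm : m.IsMaximal)
    (hkill : ∀ s ∈ m, ∀ (T : Over (Spec (CommRingCat.of k))) (g : T ⟶ X), g ≫ r.toHom = 1 →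
      g ≫ EndAV.End.toHom (h.act hX s) = 1) :
    ∃ (T : Over (Spec (CommRingCat.of k))) (g₀ : T ⟶ X), g₀ ≫ r.toHom = 1 ∧ g₀ ≠ 1 ∧
      Finite {g : T ⟶ X // g ≫ r.toHom = 1} ∧ Nat.card {g : T ⟶ X // g ≫ r.toHom = 1} ≤ deg r.toHom ∧
      (Submodule.toAddSubgroup m).index ≤ deg r.toHom := by
  obtain ⟨N, _, i, hi, hic, hN, hNf, hNd⟩ := exists_ker r.toHom hr
  haveI := hi
  haveI := hNf
  haveI : Mono i := IsogLib.mono_kernel r.toHom hN
  haveI : Fact p.Prime := ⟨h.prime⟩
  have hpos := deg_pos r.toHom hr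
  obtain ⟨T, hfin, hcard, g₁, hg₁⟩ := exists_test p h.card (G := N) (s := IsLocalRing.closedPoint k) (by omega)
  let e : (T ⟶ N) ≃ {g : T ⟶ X // g ≫ r.toHom = 1} :=
    Equiv.ofBijective (fun t => ⟨t ≫ i, by rw [Category.assoc, IsogLib.kernel_comp _ hN, MonObj.comp_one]⟩)
      ⟨fun a b hab => (cancel_mono i).1 (congrArg Subtype.val hab), fun g => by
        obtain ⟨t, ht⟩ := IsogLib.exists_kernel_lift r.toHom hN g.1 g.2
        exact ⟨t, Subtype.ext ht⟩⟩
  haveI : Finite {g : T ⟶ X // g ≫ r.toHom = 1} := Finite.of_equiv _ e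
  have hcard' : Nat.card {g : T ⟶ X // g ≫ r.toHom = 1} ≤ deg r.toHom := by
    rw [← Nat.card_congr e, ← hNd]; exact hcard
  have hg₀ : g₁ ≫ i ≫ r.toHom = 1 := by rw [IsogLib.kernel_comp _ hN, MonObj.comp_one]
  have hne : g₁ ≫ i ≠ 1 := fun h0 => hg₁ ((cancel_mono i).1 (h0.trans (MonObj.one_comp i).symm))
  refine ⟨T, g₁ ≫ i, by rw [Category.assoc]; exact hg₀, hne, inferInstance, hcard', le_trans ?_ hcard'⟩
  let orb : EndAV.End Aw →+ Additive (T ⟶ X) :=
    ((EndAV.Hom.ptsMap (A := X) (B := X) T).flip (Additive.ofMul (g₁ ≫ i))).comp (h.act hX).toAddMonoidHom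
  have horb : ∀ s, orb s = Additive.ofMul ((g₁ ≫ i) ≫ EndAV.End.toHom (h.act hX s)) := fun _ => rfl
  let I : Ideal (EndAV.End Aw) :=
    { carrier := {s | orb s = 0}
      zero_mem' := map_zero orb
      add_mem' := fun {a b} ha hb => by
        show orb (a + b) = 0
        rw [map_add, show orb a = 0 from ha, show orb b = 0 from hb, add_zero]
      smul_mem' := fun t s hs => by
        show orb (t * s) = 0
        rw [horb, map_mul, EndAV.End.toHom_mul, ← Category.assoc]
        have hs' : (g₁ ≫ i) ≫ EndAV.End.toHom (h.act hX s) = 1 := congrArg Additive.toMul hs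
        rw [hs', MonObj.one_comp]
        rfl }
  have hI : I = m := (hm.eq_of_le (fun htop => hne (by
    have := (Ideal.eq_top_iff_one I).1 htop
    have h' : (g₁ ≫ i) ≫ EndAV.End.toHom (h.act hX 1) = 1 := congrArg Additive.toMul (show orb 1 = 0 from this)
    rwa [map_one, EndAV.End.toHom_one, Category.comp_id] at h')) fun s hs => by
      show orb s = 0
      rw [horb, hkill s hs T _ (by rw [Category.assoc]; exact hg₀)]
      rfl).symm
  have hker : (Submodule.toAddSubgroup m) = orb.ker := by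
    rw [← hI]; ext s; exact Iff.rfl
  rw [hker, AddSubgroup.index_ker]
  have hr' : ∀ z : orb.range, (z : Additive (T ⟶ X)).toMul ≫ r.toHom = 1 := by
    rintro ⟨_, s, rfl⟩
    have hn := congrArg EndAV.Hom.toHom (h.act_natural hX hY r s)
    rw [EndAV.Hom.toHom_comp, EndAV.Hom.toHom_comp] at hn
    show (orb s).toMul ≫ r.toHom = 1
    rw [horb, toMul_ofMul, Category.assoc]
    refine (congrArg (fun t => (g₁ ≫ i) ≫ t) hn).trans ?_
    rw [← Category.assoc, Category.assoc g₁, hg₀, MonObj.one_comp]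
  exact Nat.card_le_card_of_injective (fun z : orb.range => (⟨_, hr' z⟩ : {g : T ⟶ X // g ≫ r.toHom = 1}))
    fun a b hab => Subtype.ext (Additive.toMul.injective (congrArg (fun z : {g : T ⟶ X // g ≫ r.toHom = 1} => z.1) hab))

/-- A prime ideal of finite index is maximal. -/
theorem isMaximal_of_prime (hcomm : ∀ a b : EndAV.End Aw, a * b = b * a) {n : ℕ} (hn : 0 < n)
    (I : Ideal (EndAV.End Aw)) (hnI : (n : EndAV.End Aw) ∈ I) (hne : (1 : EndAV.End Aw) ∉ I)
    (hp : ∀ s t, t * s ∈ I → s ∈ I ∨ t ∈ I) : I.IsMaximal := by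
  haveI : Module.Finite ℤ (EndAV.End Aw) := (AVHomLib.hom_free (A := Aw) (B := Aw)).1
  refine Ideal.isMaximal_iff.2 ⟨hne, fun J s hIJ hs hsJ => ?_⟩
  let mul : (EndAV.End Aw ⧸ Submodule.toAddSubgroup I) →+ (EndAV.End Aw ⧸ Submodule.toAddSubgroup I) :=
    QuotientAddGroup.map _ _ (AddMonoidHom.mulRight s) fun x hx => by
      show x * s ∈ I
      rw [hcomm]
      exact I.mul_mem_left s hx
  have hinj : Function.Injective mul := by
    rw [injective_iff_map_eq_zero]
    intro z hz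
    obtain ⟨x, rfl⟩ := QuotientAddGroup.mk_surjective z
    rw [QuotientAddGroup.map_mk, QuotientAddGroup.eq_zero_iff] at hz
    rcases hp s x hz with h | h
    · exact absurd h hs
    · exact (QuotientAddGroup.eq_zero_iff _).2 h
  haveI : Module.Finite ℤ (EndAV.End Aw ⧸ Submodule.toAddSubgroup I) :=
    Module.Finite.of_surjective (QuotientAddGroup.mk' (Submodule.toAddSubgroup I)).toIntLinearMap
      (QuotientAddGroup.mk'_surjective _)
  haveI : Finite (EndAV.End Aw ⧸ Submodule.toAddSubgroup I) :=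
    Module.finite_of_fg_torsion _ fun z => by
      obtain ⟨x, rfl⟩ := QuotientAddGroup.mk_surjective z
      refine ⟨⟨(n : ℤ), mem_nonZeroDivisors_of_ne_zero (by exact_mod_cast hn.ne')⟩, ?_⟩
      show ((n : ℤ) • QuotientAddGroup.mk' (Submodule.toAddSubgroup I) x) = 0
      rw [natCast_zsmul, ← map_nsmul, QuotientAddGroup.mk'_apply, QuotientAddGroup.eq_zero_iff, nsmul_eq_mul]
      show (n : EndAV.End Aw) * x ∈ I
      rw [hcomm]
      exact I.mul_mem_left x hnI
  obtain ⟨z, hz⟩ := (Finite.injective_iff_surjective.1 hinj) (QuotientAddGroup.mk 1)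
  obtain ⟨x, rfl⟩ := QuotientAddGroup.mk_surjective z
  rw [QuotientAddGroup.map_mk, QuotientAddGroup.eq] at hz
  have h1 : -(x * s) + 1 ∈ J := hIJ hz
  simpa using J.add_mem (J.mul_mem_left x hsJ) h1

end Groth.Agent.CSEquiv
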