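import Groth.Agent.CSEquiv.RankComp
import Groth.Agent.AVRosati.FinQuot
import Groth.Agent.AVRosati.Factor
import Groth.Agent.AVDegLib.MulN
import Groth.Agent.S7790
import Groth.Agent.AVFin.Mult
import Groth.Prelude.Def_EndRing

/-!
Isogenies of abelian varieties over a field, their degrees and kernels.
-/

noncomputable section

set_option autoImplicit false
set_option linter.style.haveILetI false
set_option linter.unusedSectionVars false
set_option backward.isDefEq.respectTransparency false
set_option backward.isDefEq.respectTransparency.types false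
set_option maxHeartbeats 800000
set_option synthInstance.maxHeartbeats 400000

universe u

open CategoryTheory CategoryTheory.Limits AlgebraicGeometry MonoidalCategory CartesianMonoidalCategory
open scoped MonObj

attribute [-instance] CategoryTheory.catToReflQuiver

namespace Groth.Agent.CSEquiv

variable {k : Type u} [Field k]

local notation "pk" => IsLocalRing.closedPoint k

variable {X Y Z : Over (Spec (CommRingCat.of k))} [GrpObj X] [IsProper X.hom] [GeometricallyIntegral X.hom]
  [GrpObj Y] [IsProper Y.hom] [GeometricallyIntegral Y.hom] [GrpObj Z] [IsProper Z.hom]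
  [GeometricallyIntegral Z.hom]

/-- An isogeny. -/
def Isg (f : X ⟶ Y) : Prop := IsFinite f.left ∧ Surjective f.left

/-- The degree of a morphism, read off at the unit. -/
def deg (f : X ⟶ Y) : ℕ := f.left.finrank (η[Y].left pk)

omit [GeometricallyIntegral X.hom] [GrpObj X] in
theorem isProper_left {X Y : Over (Spec (CommRingCat.of k))} [IsProper X.hom] [IsSeparated Y.hom] (f : X ⟶ Y) :
    IsProper f.left := by
  haveI : IsProper (f.left ≫ Y.hom) := by rw [Over.w]; infer_instance
  exact IsProper.of_comp f.left Y.hom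

theorem flat_of_surjective (f : X ⟶ Y) [IsMonHom f] [Surjective f.left] : Flat f.left := by
  haveI : IsIntegral Y.left := H23.MaxAbelian.isIntegral_of_geometricallyIntegral
  haveI := isProper_left f
  haveI : IsSchemeTheoreticallyDominant f.left := IsSchemeTheoreticallyDominant.of_isDominant _
  exact (GrpSchLib.ImageFlat.flat_surjective_of_dominant f).1

omit [GrpObj X] [GeometricallyIntegral X.hom] in
theorem lfp_left (f : X ⟶ Y) : LocallyOfFinitePresentation f.left := by
  haveI : IsLocallyNoetherian Y.left := LocallyOfFiniteType.isLocallyNoetherian Y.hom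
  haveI := isProper_left f
  infer_instance

/-- The rank of an isogeny is constant. -/
theorem finrank_eq_deg (f : X ⟶ Y) [IsMonHom f] (hf : Isg f) (y : Y.left) : f.left.finrank y = deg f := by
  haveI := hf.1
  haveI := hf.2
  haveI := flat_of_surjective f
  haveI := lfp_left f
  haveI : IsIntegral Y.left := H23.MaxAbelian.isIntegral_of_geometricallyIntegral
  exact (Scheme.Hom.isLocallyConstant_finrank f.left).apply_eq_of_preconnectedSpace y _

theorem deg_pos (f : X ⟶ Y) [IsMonHom f] (hf : Isg f) : 0 < deg f := by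
  haveI := hf.1
  haveI := hf.2
  haveI := flat_of_surjective f
  haveI := lfp_left f
  exact (Scheme.Hom.one_le_finrank_iff_surjective f.left).2 inferInstance _

/-- The kernel of an isogeny. -/
theorem exists_ker (f : X ⟶ Y) [IsMonHom f] (hf : Isg f) :
    ∃ (N : Over (Spec (CommRingCat.of k))) (_ : GrpObj N) (i : N ⟶ X), IsMonHom i ∧ IsClosedImmersion i.left ∧
      IsPullback i (toUnit N) f η[Y] ∧ IsFinite N.hom ∧ N.hom.finrank pk = deg f := by
  obtain ⟨N, _, i, hi, hic, hN⟩ := AVRosati.QuasiSection.exists_kernel f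
  haveI := hf.1
  haveI := hf.2
  haveI := flat_of_surjective f
  have hs : IsPullback i.left N.hom f.left η[Y].left := hN.map (Over.forget _)
  exact ⟨N, inferInstance, i, hi, hic, hN,
    MorphismProperty.of_isPullback (P := @IsFinite) hs inferInstance,
    Scheme.Hom.finrank_of_isPullback _ _ _ _ hs _⟩

theorem isg_comp (f : X ⟶ Y) (g : Y ⟶ Z) (hf : Isg f) (hg : Isg g) : Isg (f ≫ g) := by
  haveI := hf.1
  haveI := hf.2
  haveI := hg.1
  haveI := hg.2
  exact ⟨by rw [Over.comp_left]; infer_instance, by rw [Over.comp_left]; infer_instance⟩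

theorem deg_comp (f : X ⟶ Y) (g : Y ⟶ Z) [IsMonHom f] [IsMonHom g] (hf : Isg f) (hg : Isg g) :
    deg (f ≫ g) = deg f * deg g := by
  haveI := hf.1
  haveI := hf.2
  haveI := flat_of_surjective f
  haveI := (isg_comp f g hf hg).1
  haveI := (isg_comp f g hf hg).2
  haveI := flat_of_surjective (f ≫ g)
  obtain ⟨N, _, i, -, -, hN, hNf, hNd⟩ := exists_ker g hg
  have hs : IsPullback i.left N.hom g.left η[Z].left := hN.map (Over.forget _)
  have h1 : IsPullback (pullback.fst f.left i.left) (pullback.snd f.left i.left) f.left i.left :=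
    IsPullback.of_hasPullback _ _
  have h2 := h1.paste_vert hs
  haveI : IsFinite (pullback.snd f.left i.left) := MorphismProperty.of_isPullback (P := @IsFinite) h1 inferInstance
  haveI : Flat (pullback.snd f.left i.left) := MorphismProperty.of_isPullback (P := @Flat) h1 inferInstance
  haveI := hNf
  show (f ≫ g).left.finrank (η[Z].left pk) = _
  haveI : IsFinite (f.left ≫ g.left) := by rw [← Over.comp_left]; infer_instance
  haveI : Flat (f.left ≫ g.left) := by rw [← Over.comp_left]; infer_instance
  refine (Scheme.Hom.finrank_of_isPullback _ _ _ _ h2 (pk)).symm.trans ?_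
  rw [finrank_comp (pullback.snd f.left i.left) N.hom (deg f) (fun y => by
      rw [Scheme.Hom.finrank_of_isPullback _ _ _ _ h1 y, finrank_eq_deg f hf]) pk, hNd]

theorem isIso_of_deg_eq_one (f : X ⟶ Y) [IsMonHom f] (hf : Isg f) (h : deg f = 1) : IsIso f := by
  haveI := hf.1
  haveI := hf.2
  haveI := flat_of_surjective f
  haveI := lfp_left f
  haveI : IsIso f.left := (Scheme.Hom.isIso_iff_finrank_eq f.left).2 (funext fun y => by
    rw [finrank_eq_deg f hf y, h]; rfl)
  haveI : IsIso ((Over.forget _).map f) := inferInstanceAs (IsIso f.left)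
  exact isIso_of_reflects_iso f (Over.forget _)

theorem isg_of_isIso (f : X ⟶ Y) [IsIso f] : Isg f := by
  haveI : IsIso f.left := inferInstanceAs (IsIso ((Over.forget _).map f))
  exact ⟨inferInstance, inferInstance⟩

theorem deg_of_isIso (f : X ⟶ Y) [IsMonHom f] [IsIso f] : deg f = 1 := by
  haveI : IsIso f.left := inferInstanceAs (IsIso ((Over.forget _).map f))
  show f.left.finrank _ = 1
  rw [Scheme.Hom.finrank_eq_one_of_isIso]
  rfl

theorem isg_pow (n : ℕ) (hn : 0 < n) : Isg (𝟙 X ^ n) := by
  obtain ⟨h1, -, h3⟩ := AVDegLib.zpow_props (A := X) (n : ℤ) (by omega)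
  rw [zpow_natCast] at h1 h3
  exact ⟨h1, h3⟩

theorem deg_pow {g : ℕ} (hg : topologicalKrullDim X.left = g) (n : ℕ) (hn : 0 < n) :
    deg (𝟙 X ^ n : X ⟶ X) = n ^ (2 * g) := by
  have h := AVDegLib.finrank_zpow (A := X) hg (n : ℤ) (by omega) (η[X].left pk)
  rw [zpow_natCast, Int.natAbs_natCast] at h
  exact h

omit [IsProper X.hom] [GeometricallyIntegral X.hom] in
theorem isMonHom_pow [IsCommMonObj X] (n : ℕ) : IsMonHom (𝟙 X ^ n : X ⟶ X) := by
  rw [← EndAV.End.toHom_natCast]
  infer_instance

/-- A homomorphism killing the kernel of an isogeny factors through it. -/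
theorem exists_factor (f : X ⟶ Y) [IsMonHom f] (hf : Isg f) (h : X ⟶ Z) [IsMonHom h]
    (hk : ∀ (T : Over (Spec (CommRingCat.of k))) (g : T ⟶ X), g ≫ f = 1 → g ≫ h = 1) :
    ∃ u : Y ⟶ Z, IsMonHom u ∧ f ≫ u = h := by
  haveI := hf.2
  exact AVRosati.Factor.exists_factor f h hk

theorem cancel_isg (f : X ⟶ Y) (hf : Isg f) {a b : Y ⟶ Z} (h : f ≫ a = f ≫ b) : a = b := by
  haveI := hf.2
  haveI : IsIntegral Y.left := H23.MaxAbelian.isIntegral_of_geometricallyIntegral
  exact AVRosati.Factor.cancel_surjective f h

/-- An isogeny divides multiplication by its degree, on both sides. -/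
theorem exists_inverse (f : X ⟶ Y) [IsMonHom f] (hf : Isg f) :
    ∃ g : Y ⟶ X, IsMonHom g ∧ Isg g ∧ f ≫ g = 𝟙 X ^ deg f ∧ g ≫ f = 𝟙 Y ^ deg f := by
  haveI := hf.1
  haveI := hf.2
  haveI := flat_of_surjective f
  haveI : IsIntegral Y.left := H23.MaxAbelian.isIntegral_of_geometricallyIntegral
  haveI : GeometricallyConnected X.hom := AVTorsLib.geometricallyConnected_of_geometricallyIntegral X.hom
  haveI : GeometricallyConnected Y.hom := AVTorsLib.geometricallyConnected_of_geometricallyIntegral Y.hom
  obtain ⟨⟨g, ⟨hg, hfg⟩, -⟩, hall⟩ := S7790.result X Y f (deg f) (deg_pos f hf) fun s => by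
    rw [Subsingleton.elim (α := PrimeSpectrum k) s pk]; rfl
  obtain ⟨h1, h2, -, h4⟩ := hall g hg hfg
  exact ⟨g, hg, ⟨h2, h4⟩, hfg, h1⟩

end Groth.Agent.CSEquiv
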