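import Groth.Agent.CSEquiv.Index
import Groth.Agent.CSEquiv.Dual

/-!
The subgroup of `A_w` cut out by an ideal has the index of the ideal as its order.
-/

noncomputable section

set_option autoImplicit false
set_option linter.style.haveILetI false
set_option linter.unusedSectionVars false
set_option linter.overlappingInstances false
set_option backward.isDefEq.respectTransparency false
set_option backward.isDefEq.respectTransparency.types false
set_option maxHeartbeats 800000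
set_option synthInstance.maxHeartbeats 400000

universe u

open CategoryTheory CategoryTheory.Limits AlgebraicGeometry MonoidalCategory CartesianMonoidalCategory
open scoped MonObj

attribute [-instance] CategoryTheory.catToReflQuiver

namespace Groth.Agent.CSEquiv

section Mod

variable {E M : Type*} [Ring E] [AddCommGroup M] [Module E M] [Module.Free ℤ M] [Module.Finite ℤ M]

theorem index_ne_zero {n : ℕ} (hn : 0 < n) {S : Submodule E M} (hnS : ∀ φ : M, n • φ ∈ S) :
    S.toAddSubgroup.index ≠ 0 := by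
  have h : (nsmulAddMonoidHom (α := M) n).range ≤ S.toAddSubgroup := by
    rintro _ ⟨φ, rfl⟩; exact hnS φ
  intro h0
  have := AddSubgroup.index_dvd_of_le h
  rw [h0, zero_dvd_iff, AddSubgroup.index_range_nsmul] at this
  exact hn.ne' (pow_eq_zero_iff'.1 this).1

theorem relIndex_ne_zero {n : ℕ} (hn : 0 < n) {S T : Submodule E M} (hnS : ∀ φ : M, n • φ ∈ S) (h : S ≤ T) :
    S.toAddSubgroup.relIndex T.toAddSubgroup ≠ 0 := fun h0 =>
  index_ne_zero hn hnS (by
    rw [← AddSubgroup.relIndex_mul_index (Submodule.toAddSubgroup_le _ _ |>.2 h), h0, zero_mul])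

/-- Between two submodules of finite index lies a simple step with maximal colon ideal. -/
theorem exists_step {n : ℕ} (hn : 0 < n) {S T : Submodule E M} (hnS : ∀ φ : M, n • φ ∈ S) (hlt : S < T) :
    ∃ (U : Submodule E M) (x : M), S < U ∧ U ≤ T ∧ x ∉ S ∧ U = S ⊔ Submodule.span E {x} ∧
      Ideal.IsMaximal (S.comap (LinearMap.toSpanSingleton E M x)) ∧
      S.toAddSubgroup.relIndex U.toAddSubgroup =
        (Submodule.toAddSubgroup (S.comap (LinearMap.toSpanSingleton E M x))).index := by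
  classical
  have hex : ∃ c, ∃ U : Submodule E M, S < U ∧ U ≤ T ∧ S.toAddSubgroup.relIndex U.toAddSubgroup = c :=
    ⟨_, T, hlt, le_rfl, rfl⟩
  obtain ⟨U, hSU, hUT, hU⟩ := Nat.find_spec hex
  have hgen : ∀ y ∈ U, y ∉ S → U = S ⊔ Submodule.span E {y} := by
    intro y hy hyS
    have hle : S ⊔ Submodule.span E {y} ≤ U := sup_le hSU.le ((Submodule.span_singleton_le_iff_mem y U).2 hy)
    have hlt' : S < S ⊔ Submodule.span E {y} := lt_of_le_of_ne le_sup_left fun e =>
      hyS (e ▸ Submodule.mem_sup_right (Submodule.mem_span_singleton_self y))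
    have hmin := Nat.find_min' hex ⟨_, hlt', hle.trans hUT, rfl⟩
    rw [← hU] at hmin
    have hmul := AddSubgroup.relIndex_mul_relIndex S.toAddSubgroup (S ⊔ Submodule.span E {y}).toAddSubgroup
      U.toAddSubgroup ((Submodule.toAddSubgroup_le _ _).2 le_sup_left) ((Submodule.toAddSubgroup_le _ _).2 hle)
    have h1 := relIndex_ne_zero hn hnS (le_sup_left : S ≤ S ⊔ Submodule.span E {y})
    have h2 : (S ⊔ Submodule.span E {y}).toAddSubgroup.relIndex U.toAddSubgroup ≠ 0 :=
      relIndex_ne_zero hn (fun φ => Submodule.mem_sup_left (hnS φ)) hle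
    have h3 : (S ⊔ Submodule.span E {y}).toAddSubgroup.relIndex U.toAddSubgroup = 1 := by
      rw [← hmul] at hmin
      by_contra h4
      have : 2 ≤ (S ⊔ Submodule.span E {y}).toAddSubgroup.relIndex U.toAddSubgroup := by omega
      have h5 := Nat.mul_le_mul_left (S.toAddSubgroup.relIndex (S ⊔ Submodule.span E {y}).toAddSubgroup) this
      omega
    exact le_antisymm ((Submodule.toAddSubgroup_le _ _).1 (AddSubgroup.relIndex_eq_one.1 h3)) hle
  obtain ⟨x, hxU, hxS⟩ := SetLike.exists_of_lt hSU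
  have hUx := hgen x hxU hxS
  refine ⟨U, x, hSU, hUT, hxS, hUx, Ideal.isMaximal_iff.2 ⟨?_, fun J s hle hs hsJ => ?_⟩, ?_⟩
  · simpa using hxS
  · have hsx : s • x ∉ S := by simpa using hs
    have hx : x ∈ S ⊔ Submodule.span E {s • x} := hgen _ (U.smul_mem s hxU) hsx ▸ hxU
    obtain ⟨a, ha, b, hb, hab⟩ := Submodule.mem_sup.1 hx
    obtain ⟨t, rfl⟩ := Submodule.mem_span_singleton.1 hb
    have h1 : 1 - t * s ∈ J := hle (by
      show (1 - t * s) • x ∈ S
      rw [sub_smul, one_smul, mul_smul]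
      convert ha using 1
      rw [sub_eq_iff_eq_add]; exact hab.symm)
    simpa using J.add_mem h1 (J.mul_mem_left t hsJ)
  · let f : E →+ M := (LinearMap.toSpanSingleton E M x).toAddMonoidHom
    have e1 : (Submodule.toAddSubgroup (S.comap (LinearMap.toSpanSingleton E M x))) = S.toAddSubgroup.comap f := rfl
    have e2 : U.toAddSubgroup = f.range ⊔ S.toAddSubgroup := by
      rw [hUx, Submodule.sup_toAddSubgroup, sup_comm]
      congr 1
      ext z
      simp only [Submodule.mem_toAddSubgroup, Submodule.mem_span_singleton, AddMonoidHom.mem_range]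
      rfl
    rw [e1, AddSubgroup.index_comap, e2, AddSubgroup.relIndex_sup_right]

end Mod

variable {k : Type u} [Field k] [Finite k]
  {X : Over (Spec (CommRingCat.of k))} [GrpObj X] [IsCommMonObj X] [IsProper X.hom] [GeometricallyIntegral X.hom]
  {Aw : Over (Spec (CommRingCat.of k))} [GrpObj Aw] [IsCommMonObj Aw] [IsProper Aw.hom] [GeometricallyIntegral Aw.hom]
  {p : ℕ} {P : Polynomial ℤ}

/-- The multiples of `n`. -/
def nTop (n : ℕ) (X : Over (Spec (CommRingCat.of k))) [GrpObj X] [IsCommMonObj X]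
    (Aw : Over (Spec (CommRingCat.of k))) [GrpObj Aw] [IsCommMonObj Aw] :
    Submodule (EndAV.End Aw) (EndAV.Hom X Aw) where
  carrier := {φ | ∃ ψ : EndAV.Hom X Aw, φ = n • ψ}
  zero_mem' := ⟨0, (smul_zero n).symm⟩
  add_mem' := fun {a b} ⟨c, hc⟩ ⟨d, hd⟩ => ⟨c + d, by rw [hc, hd, smul_add]⟩
  smul_mem' := fun t a ⟨c, hc⟩ => ⟨t • c, by rw [hc, smul_comm]⟩

theorem index_nTop (n : ℕ) [Module.Free ℤ (EndAV.Hom X Aw)] [Module.Finite ℤ (EndAV.Hom X Aw)] :
    (nTop n X Aw).toAddSubgroup.index = n ^ Module.finrank ℤ (EndAV.Hom X Aw) := by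
  rw [← AddSubgroup.index_range_nsmul (EndAV.Hom X Aw) n]
  congr 1
  ext φ
  exact ⟨fun ⟨ψ, hψ⟩ => ⟨ψ, hψ.symm⟩, fun ⟨ψ, hψ⟩ => ⟨ψ, hψ.symm⟩⟩

theorem kill_nTop {n : ℕ} {T : Over (Spec (CommRingCat.of k))} (g : T ⟶ X) :
    Kill n (nTop n X Aw : Set (EndAV.Hom X Aw)) T g ↔ g ^ n = 1 := by
  refine ⟨fun h => h.1, fun h => ⟨h, ?_⟩⟩
  rintro _ ⟨ψ, rfl⟩
  rw [EndAV.Hom.toHom_nsmul, MonObj.comp_pow, ← MonObj.pow_comp, h, MonObj.one_comp]

theorem IsOrd.eq_nTop {n : ℕ} (hn : 0 < n) {g : ℕ} (hg : topologicalKrullDim X.left = g) {d : ℕ}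
    (h : IsOrd n (nTop n X Aw) d) : d = n ^ (2 * g) := by
  obtain ⟨Q, _, _, _, _, q, hq, hi, rfl, hk⟩ := h
  haveI := isMonHom_pow (X := X) n
  rw [← deg_pow hg n hn]
  refine deg_eq_of_kernel_eq q hi _ (isg_pow n hn) fun T x => (hk T x).trans ?_
  rw [kill_nTop, MonObj.comp_pow, Category.comp_id]

theorem IsOrd.eq_top_self {n : ℕ} {d : ℕ}
    (h : IsOrd n (⊤ : Submodule (EndAV.End Aw) (EndAV.Hom Aw Aw)) d) : d = 1 := by
  obtain ⟨Q, _, _, _, _, q, hq, hi, rfl, hk⟩ := h
  rw [← deg_of_isIso (𝟙 Aw)]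
  refine deg_eq_of_kernel_eq q hi (𝟙 Aw) (isg_of_isIso _) fun T x => ⟨fun hx => ?_, fun hx => ?_⟩
  · have h2 := ((hk T x).1 hx).2 (𝟙 (CommGrp.mk Aw)) trivial
    rwa [EndAV.Hom.toHom_id] at h2
  · rw [Category.comp_id] at hx
    rw [hx, MonObj.one_comp]

theorem Data.exists_separator' (h : Data Aw p P) {n : ℕ} (hn : 0 < n)
    (S : Submodule (EndAV.End Aw) (EndAV.Hom Aw Aw)) (hnS : ∀ φ, n • φ ∈ S) {x : EndAV.Hom Aw Aw} (hx : x ∉ S) :
    ∃ y : EndAV.End Aw, (∀ φ ∈ S, ∃ z, (show EndAV.End Aw from φ) * y = n • z) ∧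
      ¬ ∃ z, (show EndAV.End Aw from x) * y = n • z := by
  haveI : Module.Finite ℤ (EndAV.End Aw) := (AVHomLib.hom_free (A := Aw) (B := Aw)).1
  haveI : Module.Free ℤ (EndAV.End Aw) := (AVHomLib.hom_free (A := Aw) (B := Aw)).2
  obtain ⟨lam, hlam⟩ := h.frobenius
  let L : AddSubgroup (EndAV.End Aw) :=
    { carrier := {φ | (show EndAV.Hom Aw Aw from φ) ∈ S}
      zero_mem' := S.zero_mem
      add_mem' := fun ha hb => S.add_mem ha hb
      neg_mem' := fun ha => S.neg_mem ha }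
  exact exists_separator h.comm lam hlam hn L (fun t l hl => S.smul_mem t hl) (fun z => hnS z)
    (x := (show EndAV.End Aw from x)) hx

/-- Enlarging the submodule by a simple step divides out at least the index of the colon ideal. -/
theorem Data.step_lower (h : Data Aw p P) {n : ℕ} (hn : 0 < n)
    {S U : Submodule (EndAV.End Aw) (EndAV.Hom Aw Aw)} (hnS : ∀ φ, n • φ ∈ S) {x : EndAV.Hom Aw Aw} (hx : x ∉ S)
    (hU : U = S ⊔ Submodule.span (EndAV.End Aw) {x})
    (hm : Ideal.IsMaximal (S.comap (LinearMap.toSpanSingleton (EndAV.End Aw) (EndAV.Hom Aw Aw) x)))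
    {d d' : ℕ} (hd : IsOrd n S d) (hd' : IsOrd n U d') :
    d' * (Submodule.toAddSubgroup (S.comap (LinearMap.toSpanSingleton (EndAV.End Aw) (EndAV.Hom Aw Aw) x))).index ≤ d := by
  obtain ⟨Q, _, _, _, _, q, hq, hi, rfl, hk⟩ := hd
  obtain ⟨Q', _, _, _, _, q', hq', hi', rfl, hk'⟩ := hd'
  obtain ⟨r, hr, hri, hqr, hdeg⟩ := exists_isg_factor q' hi' q hi fun T g hg => (hk T g).2
    ⟨((hk' T g).1 hg).1, fun φ hφ => ((hk' T g).1 hg).2 φ (hU ▸ Submodule.mem_sup_left hφ)⟩
  haveI := hr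
  have hQ' : Mem P Q' := Mem.of_surjective (f := EndAV.Hom.of q') h.mem_self hi'.2
  have hQ : Mem P Q := Mem.of_surjective (f := EndAV.Hom.of q) h.mem_self hi.2
  rw [hdeg]
  refine Nat.mul_le_mul_left _ ?_
  refine (h.index_le_of_killed hQ' hQ (EndAV.Hom.of r) hri ?_ hm fun s hs T g hg => ?_).choose_spec.choose_spec.2.2.2.2
  · -- the step is nontrivial
    intro h1
    haveI : IsIso r := isIso_of_deg_eq_one r hri h1
    obtain ⟨y, hyS, hyx⟩ := h.exists_separator' hn S hnS hx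
    refine hyx ?_
    obtain ⟨z, hz, hzy⟩ := exists_factor (EndAV.End.toHom (n : EndAV.End Aw)) (isg_natCast n hn)
      (EndAV.End.toHom ((show EndAV.End Aw from x) * y)) fun T g hg => by
      rw [pts_pow] at hg
      have hkill : Kill n (S : Set (EndAV.Hom Aw Aw)) T (g ≫ EndAV.End.toHom y) := by
        refine ⟨by rw [← MonObj.pow_comp, hg, MonObj.one_comp], fun φ hφ => ?_⟩
        obtain ⟨w, hw⟩ := hyS φ hφ
        have h2 := congrArg EndAV.End.toHom hw
        rw [EndAV.End.toHom_mul, EndAV.End.toHom_nsmul] at h2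
        rw [Category.assoc]
        refine (congrArg (fun t => g ≫ t) h2).trans ?_
        rw [MonObj.comp_pow, ← MonObj.pow_comp, hg, MonObj.one_comp]
      have hq'0 : (g ≫ EndAV.End.toHom y) ≫ q' = 1 := by
        refine (cancel_mono r).1 ?_
        rw [MonObj.one_comp, Category.assoc, hqr]
        exact (hk T _).2 hkill
      have h3 := ((hk' T _).1 hq'0).2 x (hU ▸ Submodule.mem_sup_right (Submodule.mem_span_singleton_self x))
      rw [EndAV.End.toHom_mul, ← Category.assoc]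
      exact h3
    haveI := hz
    refine ⟨EndAV.End.of z, EndAV.End.ext ?_⟩
    rw [← hzy, EndAV.End.toHom_nsmul, EndAV.End.toHom_of, EndAV.End.toHom_natCast, MonObj.pow_comp, Category.id_comp]
  · -- the colon ideal kills the kernel
    refine eq_of_lifts q' hi' g fun T' π g' hg' => ?_
    have hgq : g' ≫ q = 1 := by
      rw [← hqr, ← Category.assoc, hg', Category.assoc]
      exact (congrArg (fun t => π ≫ t) hg).trans (MonObj.comp_one π)
    obtain ⟨hgn, hgS⟩ := (hk T' g').1 hgq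
    have hn0 := congrArg EndAV.Hom.toHom (h.act_natural h.mem_self hQ' (EndAV.Hom.of q') s)
    rw [EndAV.Hom.toHom_comp, EndAV.Hom.toHom_comp, h.act_self, EndAV.Hom.toHom_of] at hn0
    rw [MonObj.comp_one, ← Category.assoc, ← hg', Category.assoc]
    refine (congrArg (fun t => g' ≫ t) hn0.symm).trans ?_
    rw [← Category.assoc]
    refine (hk' T' _).2 ⟨by rw [← MonObj.pow_comp, hgn, MonObj.one_comp], fun φ hφ => ?_⟩
    have hsφ : s • φ ∈ S := by
      rw [hU] at hφ
      obtain ⟨a, ha, b, hb, rfl⟩ := Submodule.mem_sup.1 hφ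
      obtain ⟨t, rfl⟩ := Submodule.mem_span_singleton.1 hb
      rw [smul_add, smul_smul, h.comm, mul_smul]
      exact S.add_mem (S.smul_mem s ha) (S.smul_mem t hs)
    have h4 := hgS _ hsφ
    rw [Category.assoc]
    refine Eq.trans (congrArg (fun t => g' ≫ t) ?_) h4
    have hc := h.comm s (show EndAV.End Aw from φ)
    exact (congrArg EndAV.Hom.toHom hc).symm

theorem Data.lower (h : Data Aw p P) {n : ℕ} (hn : 0 < n) :
    ∀ {S T : Submodule (EndAV.End Aw) (EndAV.Hom Aw Aw)}, (∀ φ, n • φ ∈ S) → S ≤ T → ∀ {d d' : ℕ},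
      IsOrd n S d → IsOrd n T d' → d' * S.toAddSubgroup.relIndex T.toAddSubgroup ≤ d := by
  haveI : Module.Finite ℤ (EndAV.Hom Aw Aw) := (AVHomLib.hom_free (A := Aw) (B := Aw)).1
  haveI : Module.Free ℤ (EndAV.Hom Aw Aw) := (AVHomLib.hom_free (A := Aw) (B := Aw)).2
  suffices hind : ∀ c, ∀ {S T : Submodule (EndAV.End Aw) (EndAV.Hom Aw Aw)}, (∀ φ, n • φ ∈ S) → S ≤ T →
      S.toAddSubgroup.relIndex T.toAddSubgroup = c → ∀ {d d' : ℕ}, IsOrd n S d → IsOrd n T d' → d' * c ≤ d by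
    intro S T hnS hle d d' hd hd'
    exact hind _ hnS hle rfl hd hd'
  intro c
  induction c using Nat.strong_induction_on with
  | _ c ih =>
    intro S T hnS hle hc d d' hd hd'
    rcases hle.eq_or_lt with rfl | hlt
    · rw [AddSubgroup.relIndex_self] at hc
      rw [← hc, mul_one, hd.unique hd']
    obtain ⟨U, x, hSU, hUT, hx, hU, hm, hidx⟩ := exists_step hn hnS hlt
    obtain ⟨e, he⟩ := exists_isOrd n hn U
    have hmul := AddSubgroup.relIndex_mul_relIndex S.toAddSubgroup U.toAddSubgroup T.toAddSubgroup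
      ((Submodule.toAddSubgroup_le _ _).2 hSU.le) ((Submodule.toAddSubgroup_le _ _).2 hUT)
    rw [hc] at hmul
    have h1 : 1 < S.toAddSubgroup.relIndex U.toAddSubgroup := by
      have h0 := relIndex_ne_zero hn hnS hSU.le
      have h1 : S.toAddSubgroup.relIndex U.toAddSubgroup ≠ 1 := fun e1 =>
        hSU.not_ge ((Submodule.toAddSubgroup_le _ _).1 (AddSubgroup.relIndex_eq_one.1 e1))
      omega
    have h2 := relIndex_ne_zero hn (fun φ => hSU.le (hnS φ)) hUT
    have hlt' : U.toAddSubgroup.relIndex T.toAddSubgroup < c := by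
      rw [← hmul]
      exact lt_mul_of_one_lt_left (Nat.pos_of_ne_zero h2) h1
    have h3 := ih _ hlt' (fun φ => hSU.le (hnS φ)) hUT rfl he hd'
    have h4 := h.step_lower hn hnS hx hU hm hd he
    rw [← hidx] at h4
    calc d' * c = d' * U.toAddSubgroup.relIndex T.toAddSubgroup * S.toAddSubgroup.relIndex U.toAddSubgroup := by
          rw [← hmul]; ring
      _ ≤ e * S.toAddSubgroup.relIndex U.toAddSubgroup := Nat.mul_le_mul_right _ h3
      _ ≤ d := h4

/-- In `A_w` the subgroup cut out by an ideal containing `n` has the index of the ideal as its order. -/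
theorem Data.ord_eq_index (h : Data Aw p P) {n : ℕ} (hn : 0 < n) {S : Submodule (EndAV.End Aw) (EndAV.Hom Aw Aw)}
    (hnS : ∀ φ, n • φ ∈ S) {d : ℕ} (hd : IsOrd n S d) : d = S.toAddSubgroup.index := by
  haveI : Module.Finite ℤ (EndAV.Hom Aw Aw) := (AVHomLib.hom_free (A := Aw) (B := Aw)).1
  haveI : Module.Free ℤ (EndAV.Hom Aw Aw) := (AVHomLib.hom_free (A := Aw) (B := Aw)).2
  obtain ⟨gw, hgw⟩ := AVDegPoly.exists_dim (A := Aw)
  have hnn : ∀ φ, n • φ ∈ nTop n Aw Aw := fun φ => ⟨φ, rfl⟩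
  have hle : nTop n Aw Aw ≤ S := by rintro _ ⟨ψ, rfl⟩; exact hnS ψ
  obtain ⟨d0, hd0⟩ := exists_isOrd (X := Aw) n hn (nTop n Aw Aw)
  obtain ⟨d1, hd1⟩ := exists_isOrd (X := Aw) n hn (⊤ : Submodule (EndAV.End Aw) (EndAV.Hom Aw Aw))
  have e0 := hd0.eq_nTop hn hgw
  have e1 := hd1.eq_top_self
  have h1 := h.lower hn hnn hle hd0 hd
  have h2 := h.lower hn hnS le_top hd hd1
  rw [e1, one_mul, show (⊤ : Submodule (EndAV.End Aw) (EndAV.Hom Aw Aw)).toAddSubgroup = ⊤ from rfl,
    AddSubgroup.relIndex_top_right] at h2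
  have htot := AddSubgroup.relIndex_mul_index ((Submodule.toAddSubgroup_le _ _).2 hle)
  rw [index_nTop, show Module.finrank ℤ (EndAV.Hom Aw Aw) = 2 * gw from h.finrank_hom h.mem_self hgw, ← e0] at htot
  have hpos : 0 < (nTop n Aw Aw).toAddSubgroup.relIndex S.toAddSubgroup :=
    Nat.pos_of_ne_zero (relIndex_ne_zero hn hnn hle)
  rw [← htot, mul_comm _ S.toAddSubgroup.index] at h1
  exact le_antisymm (Nat.le_of_mul_le_mul_right h1 hpos) h2

end Groth.Agent.CSEquiv
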