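import Groth.Agent.GrpSchLib.HopfQuotRank
import Mathlib.AlgebraicGeometry.Morphisms.FlatRank
import Groth.Agent.AssLib.FlatField

/-!
The rank of a composite of a finite flat morphism of constant rank and a finite scheme over a field.
-/

noncomputable section

set_option autoImplicit false
set_option linter.style.haveILetI false
set_option backward.isDefEq.respectTransparency false
set_option backward.isDefEq.respectTransparency.types false

universe u

open CategoryTheory CategoryTheory.Limits AlgebraicGeometry

namespace Groth.Agent.CSEquiv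

variable {k : Type u} [Field k]

theorem finrank_comp_spec {A B : Type u} [CommRing A] [CommRing B] [Algebra A B] [Algebra k A]
    [Module.Finite A B] [Module.Flat A B] [Module.Finite k A] (d : ℕ)
    (hd : ∀ q : PrimeSpectrum A, Module.rankAtStalk B q = d) :
    letI : Algebra k B := ((algebraMap A B).comp (algebraMap k A)).toAlgebra
    Module.finrank k B = d * Module.finrank k A := by
  letI : Algebra k B := ((algebraMap A B).comp (algebraMap k A)).toAlgebra
  haveI : IsScalarTower k A B := IsScalarTower.of_algebraMap_eq' rfl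
  haveI : IsArtinianRing A := isArtinian_of_tower k inferInstance
  rcases subsingleton_or_nontrivial A with h | h
  · haveI : Subsingleton B := Module.subsingleton A B
    rw [Module.finrank_zero_of_subsingleton, Module.finrank_zero_of_subsingleton (R := k) (M := A), mul_zero]
  obtain ⟨b⟩ := GrpSchLib.HopfQuot.nonempty_basis_of_rank (B := A) (M := B) d hd
  haveI := Module.Free.of_basis b
  rw [← Module.finrank_mul_finrank k A B, Module.finrank_eq_card_basis b, Fintype.card_fin, mul_comm]

/-- Composing with a finite flat morphism of constant rank `d` multiplies the rank over a field by `d`. -/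
theorem finrank_comp {P Q : Scheme.{u}} (f : P ⟶ Q) (g : Q ⟶ Spec (CommRingCat.of k)) [IsFinite f] [Flat f]
    [IsFinite g] (d : ℕ) (hd : ∀ y, f.finrank y = d) (s : ↥(Spec (CommRingCat.of k))) :
    (f ≫ g).finrank s = d * g.finrank s := by
  haveI : IsAffine Q := isAffine_of_isAffineHom g
  haveI : IsAffine P := isAffine_of_isAffineHom f
  haveI : Flat g := AssLib.flat_over_field g
  wlog hQ : ∃ R, Q = Spec R generalizing P Q
  · have h := this (P := P) (f ≫ Q.isoSpec.hom) (Q.isoSpec.inv ≫ g) (fun y => ?_) inferInstance inferInstance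
      inferInstance ⟨_, rfl⟩
    · rwa [Category.assoc, Iso.hom_inv_id_assoc, Scheme.Hom.finrank_comp_left_of_isIso Q.isoSpec.inv g] at h
    · rw [Scheme.Hom.finrank_of_isPullback (𝟙 P) (f ≫ Q.isoSpec.hom) f Q.isoSpec.inv
        (IsPullback.of_horiz_isIso ⟨by simp⟩) y]
      exact hd _
  obtain ⟨A, rfl⟩ := hQ
  wlog hP : ∃ R, P = Spec R generalizing P
  · have h := this (P := Spec Γ(P, ⊤)) inferInstance (P.isoSpec.inv ≫ f) (fun y => ?_) ⟨_, rfl⟩
    · rwa [Category.assoc, Scheme.Hom.finrank_comp_left_of_isIso P.isoSpec.inv] at h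
    · rw [Scheme.Hom.finrank_comp_left_of_isIso]
      exact hd _
  obtain ⟨B, rfl⟩ := hP
  obtain ⟨φ, rfl⟩ := Spec.map_surjective f
  obtain ⟨ψ, rfl⟩ := Spec.map_surjective g
  have hφ := (IsFinite.SpecMap_iff φ).1 ‹_›
  have hφ' := (Flat.SpecMap_iff).1 ‹Flat (Spec.map φ)›
  have hψ := (IsFinite.SpecMap_iff ψ).1 ‹_›
  letI := φ.hom.toAlgebra
  letI := ψ.hom.toAlgebra
  haveI : Module.Finite A B := hφ
  haveI : Module.Flat A B := hφ'
  haveI : Module.Finite k A := hψ
  letI : Algebra k B := ((algebraMap A B).comp (algebraMap k A)).toAlgebra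
  haveI : IsScalarTower k A B := IsScalarTower.of_algebraMap_eq' rfl
  haveI : Module.Finite k B := Module.Finite.trans A B
  have h1 : Spec.map φ ≫ Spec.map ψ = Spec.map (CommRingCat.ofHom (algebraMap k B)) := by
    rw [← Spec.map_comp]; rfl
  have hd' : ∀ q : PrimeSpectrum A, Module.rankAtStalk B q = d := fun q => by
    rw [← Scheme.Hom.finrank_SpecMap_algebraMap (A : Type u) (B : Type u) q]
    exact hd q
  have e1 : (Spec.map φ ≫ Spec.map ψ).finrank s = Module.finrank k B := by
    rw [h1]
    refine (Scheme.Hom.finrank_SpecMap_algebraMap k (B : Type u) s).trans ?_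
    exact congrFun Module.rankAtStalk_eq_finrank_of_free s
  have e2 : (Spec.map ψ).finrank s = Module.finrank k A := by
    refine Eq.trans (Scheme.Hom.finrank_SpecMap_algebraMap k (A : Type u) s) ?_
    exact congrFun Module.rankAtStalk_eq_finrank_of_free s
  rw [e1, e2]
  exact finrank_comp_spec d hd'

end Groth.Agent.CSEquiv
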