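import Groth.Agent.CSEquiv.Basic

/-!
`Hom(X, A_w)` has rank `2 dim X`.
-/

noncomputable section

set_option autoImplicit false
set_option linter.style.haveILetI false
set_option linter.unusedSectionVars false
set_option linter.overlappingInstances false
set_option backward.isDefEq.respectTransparency false
set_option backward.isDefEq.respectTransparency.types false
set_option maxHeartbeats 800000
set_option synthInstance.maxHeartbeats 400000

universe u

open CategoryTheory CategoryTheory.Limits AlgebraicGeometry MonoidalCategory CartesianMonoidalCategory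
open scoped MonObj
open UniqueFactorizationMonoid

attribute [-instance] CategoryTheory.catToReflQuiver

namespace Groth.Agent.CSEquiv

open Groth.Agent.AVFin

variable {k : Type u} [Field k] [Finite k]
  {X : Over (Spec (CommRingCat.of k))} [GrpObj X] [IsCommMonObj X] [IsProper X.hom] [GeometricallyIntegral X.hom]
  {Aw : Over (Spec (CommRingCat.of k))} [GrpObj Aw] [IsCommMonObj Aw] [IsProper Aw.hom] [GeometricallyIntegral Aw.hom]
  {p : ℕ} {P : Polynomial ℤ}

theorem frobE_of_toHom (Y : Over (Spec (CommRingCat.of k))) [GrpObj Y] [IsCommMonObj Y] :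
    EndAV.End.of (EndAV.End.toHom (frobE Y)) = frobE Y := rfl

/-- Facts on the Frobenius polynomial of `A_w`. -/
theorem Data.self_facts (h : Data Aw p P) {gw : ℕ} (hgw : topologicalKrullDim Aw.left = gw) :
    Module.finrank ℤ (EndAV.End Aw) = 2 * gw ∧ Squarefree (P.map (Int.castRingHom ℚ)) ∧
      ∀ (Ω : Type u) [Field Ω] [Algebra k Ω] [IsAlgClosed Ω] (l : ℕ) [Fact l.Prime], (l : k) ≠ 0 →
      ∀ [Module.Free ℤ_[l] (AbDual.TateMod Aw l (SGA7.pt (K := k) Ω))]
        [Module.Finite ℤ_[l] (AbDual.TateMod Aw l (SGA7.pt (K := k) Ω))],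
        (AbDual.tateMapₗ (l := l) (T := SGA7.pt (K := k) Ω) (EndAV.End.toHom (frobE Aw))).charpoly =
          P.map (Int.castRingHom ℤ_[l]) := by
  obtain ⟨PB, hBm, hBd, hBcp, -, hBdvd, -, -⟩ :=
    exists_data (πA := EndAV.End.toHom (frobE Aw)) (isPowMap_frobE Aw) hgw
  let Ω := AlgebraicClosure k
  obtain ⟨l, hl, hlk⟩ : ∃ l : ℕ, l.Prime ∧ (l : k) ≠ 0 := by
    by_cases h2 : ((2 : ℕ) : k) = 0
    · refine ⟨3, Nat.prime_three, fun h3 => one_ne_zero (α := k) ?_⟩
      calc (1 : k) = ((3 : ℕ) : k) - ((2 : ℕ) : k) := by norm_num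
        _ = 0 := by rw [h3, h2, sub_zero]
    · exact ⟨2, Nat.prime_two, h2⟩
  haveI : Fact l.Prime := ⟨hl⟩
  haveI := (finite_tate (Ω := Ω) Aw hlk).1
  haveI := (finite_tate (Ω := Ω) Aw hlk).2
  obtain ⟨hc1, hc2⟩ := comm_iff_squarefree (πA := EndAV.End.toHom (frobE Aw)) (isPowMap_frobE Aw) hgw PB hlk Ω
    (hBcp Ω l hlk)
  have hsq := hc1.1 h.comm
  have hrank : Module.finrank ℤ (EndAV.End Aw) = 2 * gw := by rw [← finrank_End0, hc2.1 hsq]
  have hPB : PB = P := by
    have h0 : Polynomial.aeval (frobE Aw) PB = 0 := by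
      rw [← frobE_of_toHom Aw]
      exact AVRosati.aeval_charpoly_eq_zero hgw _ Ω l hlk PB (hBcp Ω l hlk)
    refine Polynomial.eq_of_monic_of_dvd_of_natDegree_le h.monic hBm (h.dvd_of_aeval h0) ?_
    rw [hBd, ← hrank, h.rank]
  subst hPB
  exact ⟨hrank, hsq, fun Ω' _ _ _ l' _ hl' _ _ => hBcp Ω' l' hl'⟩

/-- The rank of `Hom(X, A_w)` is twice the dimension of `X`. -/
theorem Data.finrank_hom (h : Data Aw p P) (hX : Mem P X) {g : ℕ} (hg : topologicalKrullDim X.left = g) :
    Module.finrank ℤ (EndAV.Hom X Aw) = 2 * g := by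
  classical
  obtain ⟨gw, hgw⟩ := AVDegPoly.exists_dim (A := Aw)
  obtain ⟨-, hsq, hwcp⟩ := h.self_facts hgw
  obtain ⟨PX, hXm, hXd, hXcp, -, hmin, hpow, -⟩ :=
    exists_data (πA := EndAV.End.toHom (frobE X)) (isPowMap_frobE X) hg
  let Ω := AlgebraicClosure k
  haveI : Normal k Ω := IsAlgClosure.normal k Ω
  obtain ⟨l, hl, hlk⟩ : ∃ l : ℕ, l.Prime ∧ (l : k) ≠ 0 := by
    by_cases h2 : ((2 : ℕ) : k) = 0
    · refine ⟨3, Nat.prime_three, fun h3 => one_ne_zero (α := k) ?_⟩
      calc (1 : k) = ((3 : ℕ) : k) - ((2 : ℕ) : k) := by norm_num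
        _ = 0 := by rw [h3, h2, sub_zero]
    · exact ⟨2, Nat.prime_two, h2⟩
  haveI : Fact l.Prime := ⟨hl⟩
  haveI := (finite_tate (Ω := Ω) X hlk).1
  haveI := (finite_tate (Ω := Ω) X hlk).2
  haveI := (finite_tate (Ω := Ω) Aw hlk).1
  haveI := (finite_tate (Ω := Ω) Aw hlk).2
  rw [finrank_hom_rat (Ω := Ω) (πA := EndAV.End.toHom (frobE X)) (πB := EndAV.End.toHom (frobE Aw))
    (isPowMap_frobE X) (isPowMap_frobE Aw) hlk PX (hXcp Ω l hlk) P (hwcp Ω l hlk)]
  refine Eq.trans ?_ ((hXm.natDegree_map (Int.castRingHom ℚ)).trans hXd)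
  rw [← sum_count_mul_natDegree (hXm.map _)]
  refine Finset.sum_congr rfl fun Q hQ => ?_
  rw [Multiset.mem_toFinset] at hQ
  have hQp : Prime Q := (irreducible_of_normalized_factor Q hQ).prime
  have hQP : Q ∣ P.map (Int.castRingHom ℚ) := by
    refine (hQp.dvd_of_dvd_pow ((dvd_of_mem_normalizedFactors hQ).trans hpow)).trans (minpoly.dvd _ _ ?_)
    rw [← algebraMap_int_eq, Polynomial.aeval_map_algebraMap, frobE_of_toHom, Polynomial.aeval_algHom_apply,
      show Polynomial.aeval (frobE X) P = 0 from hX, map_zero]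
  have h1 : (normalizedFactors (P.map (Int.castRingHom ℚ))).count Q = 1 := by
    obtain ⟨Q', hQ', hass⟩ := exists_mem_normalizedFactors_of_dvd (h.monic.map _).ne_zero hQp.irreducible hQP
    obtain rfl : Q = Q' := Associated.eq_of_normalized hass (normalize_normalized_factor Q hQ)
      (normalize_normalized_factor Q' hQ')
    exact le_antisymm (Multiset.nodup_iff_count_le_one.1
      ((squarefree_iff_nodup_normalizedFactors (h.monic.map _).ne_zero).1 hsq) Q) (Multiset.one_le_count_iff_mem.2 hQ')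
  rw [h1, mul_one]

end Groth.Agent.CSEquiv
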