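import Mathlib.LinearAlgebra.FreeModule.Finite.Quotient
import Mathlib.LinearAlgebra.FreeModule.Finite.Matrix
import Mathlib.LinearAlgebra.Dimension.Finrank

/-!
An order with a unimodular pairing is self-dual; lattices over it embed into free modules.
-/

set_option autoImplicit false

namespace Groth.Agent.CSEquiv

open Module

variable {E : Type*} [Ring E] [Module.Free ℤ E] [Module.Finite ℤ E] (lam : E →+ ℤ)
  (hlam : ∀ (n : ℕ) (x : E), (∀ y, (n : ℤ) ∣ lam (x * y)) → ∃ z, x = n • z)

include hlam

theorem eq_zero_of_pairing {x : E} (h : ∀ y, lam (x * y) = 0) : x = 0 := by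
  let b := Free.chooseBasis ℤ E
  refine b.repr.injective (Finsupp.ext fun i => ?_)
  rw [map_zero, Finsupp.zero_apply]
  obtain ⟨z, hz⟩ := hlam ((b.repr x i).natAbs + 1) x fun y => by rw [h]; exact dvd_zero _
  refine Int.eq_zero_of_dvd_of_natAbs_lt_natAbs (d := (((b.repr x i).natAbs + 1 : ℕ) : ℤ)) ⟨b.repr z i, ?_⟩ ?_
  · conv_lhs => rw [hz, map_nsmul, Finsupp.smul_apply, nsmul_eq_mul]
  · rw [Int.natAbs_natCast]; omega

/-- Every functional is a pairing. -/
theorem exists_repr (ψ : E →ₗ[ℤ] ℤ) : ∃ e, ∀ y, lam (e * y) = ψ y := by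
  classical
  let Θ : E →ₗ[ℤ] (E →ₗ[ℤ] ℤ) := AddMonoidHom.toIntLinearMap
    { toFun := fun e => (lam.comp (AddMonoidHom.mulLeft e)).toIntLinearMap
      map_zero' := by ext y; simp
      map_add' := fun a b => by ext y; simp [add_mul] }
  have hΘ : ∀ e y, Θ e y = lam (e * y) := fun _ _ => rfl
  have hinj : Function.Injective Θ := (injective_iff_map_eq_zero Θ).2 fun e he =>
    eq_zero_of_pairing lam hlam fun y => by rw [← hΘ, he]; rfl
  have hrk : finrank ℤ (LinearMap.range Θ) = finrank ℤ (E →ₗ[ℤ] ℤ) := by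
    rw [LinearMap.finrank_range_of_inj hinj, Module.finrank_linearMap, Module.finrank_self, mul_one]
  haveI := Submodule.finiteQuotientOfFreeOfRankEq (LinearMap.range Θ) hrk
  let n := Nat.card ((E →ₗ[ℤ] ℤ) ⧸ LinearMap.range Θ)
  have hn : 0 < n := Nat.card_pos
  obtain ⟨e, he⟩ : n • ψ ∈ LinearMap.range Θ := by
    rw [← Submodule.Quotient.mk_eq_zero, Submodule.Quotient.mk_smul]
    exact card_nsmul_eq_zero'
  obtain ⟨z, hz⟩ := hlam n e fun y => by
    rw [← hΘ, he, LinearMap.smul_apply, nsmul_eq_mul]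
    exact dvd_mul_right _ _
  refine ⟨z, fun y => ?_⟩
  have h := LinearMap.congr_fun he y
  rw [hz, map_nsmul, LinearMap.smul_apply, LinearMap.smul_apply, hΘ, nsmul_eq_mul, nsmul_eq_mul] at h
  exact mul_left_cancel₀ (by exact_mod_cast hn.ne') h

/-- A lattice over the order embeds into a free module. -/
theorem exists_embedding (hcomm : ∀ a b : E, a * b = b * a) (M : Type*) [AddCommGroup M] [Module E M]
    [Module.Free ℤ M] [Module.Finite ℤ M] :
    ∃ (s : ℕ) (Φ : M →ₗ[E] (Fin s → E)), Function.Injective Φ := by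
  classical
  let c := Module.finBasis ℤ M
  have hex : ∀ (x : M) i, ∃ e, ∀ y : E, lam (e * y) = c.coord i (y • x) := fun x i =>
    exists_repr lam hlam ((c.coord i).comp
      (AddMonoidHom.toIntLinearMap ((smulAddHom E M).flip x)))
  choose e he using hex
  have huniq : ∀ a b : E, (∀ y, lam (a * y) = lam (b * y)) → a = b := fun a b h =>
    sub_eq_zero.1 (eq_zero_of_pairing lam hlam fun y => by rw [sub_mul, map_sub, h, sub_self])
  refine ⟨Module.finrank ℤ M,
    { toFun := fun x i => e x i
      map_add' := fun x x' => funext fun i => huniq _ _ fun y => by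
        rw [Pi.add_apply, add_mul, map_add, he, he, he, smul_add, map_add]
      map_smul' := fun t x => funext fun i => huniq _ _ fun y => by
        rw [RingHom.id_apply, Pi.smul_apply, smul_eq_mul, he, hcomm t (e x i), mul_assoc, he, hcomm t y, mul_smul] },
    (injective_iff_map_eq_zero _).2 fun x hx => c.repr.injective (Finsupp.ext fun i => ?_)⟩
  have h := he x i 1
  rw [show e x i = 0 from congrFun hx i, zero_mul, map_zero, one_smul] at h
  rw [map_zero]
  exact h.symm

end Groth.Agent.CSEquiv
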