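import Groth.Agent.CSEquiv.Upper
import Groth.Agent.CSEquiv.Repr

/-!
Every lattice over `End A_w` is `Hom(B, A_w)` for some `B`.
-/

noncomputable section

set_option autoImplicit false
set_option linter.style.haveILetI false
set_option linter.unusedSectionVars false
set_option linter.overlappingInstances false
set_option backward.isDefEq.respectTransparency false
set_option backward.isDefEq.respectTransparency.types false
set_option maxHeartbeats 800000
set_option synthInstance.maxHeartbeats 400000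

universe u

open CategoryTheory CategoryTheory.Limits AlgebraicGeometry MonoidalCategory CartesianMonoidalCategory
open scoped MonObj

attribute [-instance] CategoryTheory.catToReflQuiver

namespace Groth.Agent.CSEquiv

variable {k : Type u} [Field k] [Finite k]
  {Aw : Over (Spec (CommRingCat.of k))} [GrpObj Aw] [IsCommMonObj Aw] [IsProper Aw.hom] [GeometricallyIntegral Aw.hom]
  {p : ℕ} {P : Polynomial ℤ}

/-- A variety whose identity factors through `A_w` lies in the class of `A_w`. -/
theorem Data.mem_of_decomp (h : Data Aw p P) {Q : Over (Spec (CommRingCat.of k))} [GrpObj Q] [IsCommMonObj Q]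
    [IsProper Q.hom] [GeometricallyIntegral Q.hom] {m : ℕ} (pr : Fin m → EndAV.Hom Q Aw)
    (inc : Fin m → EndAV.Hom Aw Q) (hid : ∑ t, pr t ≫ inc t = 𝟙 (CommGrp.mk Q)) : Mem P Q := by
  let e : EndAV.Hom Q Q := Polynomial.aeval (frobE Q) P
  have he : e ≫ 𝟙 (CommGrp.mk Q) = 0 := by
    rw [← hid, Preadditive.comp_sum]
    refine Finset.sum_eq_zero fun t _ => ?_
    rw [← Category.assoc, show e ≫ pr t = 0 from (aeval_natural (pr t) P).trans (by
      rw [h.root]; exact Limits.comp_zero), Limits.zero_comp]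
  rw [Category.comp_id] at he
  exact he

/-- Every lattice over `End A_w` is realised. -/
theorem Data.exists_realization (h : Data Aw p P) (M : Type*) [AddCommGroup M] [Module (EndAV.End Aw) M]
    [Module.Free ℤ M] [Module.Finite ℤ M] :
    ∃ (B : Over (Spec (CommRingCat.of k))) (_ : GrpObj B) (_ : IsCommMonObj B) (_ : IsProper B.hom)
      (_ : GeometricallyIntegral B.hom), Mem P B ∧ Nonempty (M ≃ₗ[EndAV.End Aw] EndAV.Hom B Aw) := by
  classical
  haveI : Module.Finite ℤ (EndAV.End Aw) := (AVHomLib.hom_free (A := Aw) (B := Aw)).1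
  haveI : Module.Free ℤ (EndAV.End Aw) := (AVHomLib.hom_free (A := Aw) (B := Aw)).2
  obtain ⟨lam, hlam⟩ := h.frobenius
  obtain ⟨s, Φ, hΦ⟩ := exists_embedding lam hlam h.comm M
  obtain ⟨m, x, hx⟩ := Module.Finite.exists_fin (R := ℤ) (M := M)
  let π : (Fin m → EndAV.End Aw) →ₗ[EndAV.End Aw] M :=
    ∑ t, (LinearMap.toSpanSingleton (EndAV.End Aw) M (x t)).comp (LinearMap.proj t)
  have hπapp : ∀ c, π c = ∑ t, c t • x t := fun c => by
    rw [LinearMap.sum_apply]; rfl
  have hπ : Function.Surjective π := fun z => by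
    obtain ⟨c, hc⟩ := (Submodule.mem_span_range_iff_exists_fun ℤ).1 (hx ▸ Submodule.mem_top : z ∈ _)
    refine ⟨fun t => (c t : EndAV.End Aw), ?_⟩
    rw [hπapp, ← hc]
    exact Finset.sum_congr rfl fun t _ => Int.cast_smul_eq_zsmul _ _ _
  obtain ⟨Q, _, _, _, _, pr, inc, hip, hid⟩ := exists_power s Aw
  obtain ⟨R, _, _, _, _, pr', inc', hip', hid'⟩ := exists_power m Aw
  let row : Fin m → EndAV.Hom Q Aw := fun t => ∑ i, Φ (x t) i • pr i
  let u : EndAV.Hom Q R := ∑ t, row t ≫ inc' t
  have hu : ∀ t, u ≫ pr' t = row t := fun t => by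
    rw [Preadditive.sum_comp, Finset.sum_eq_single t]
    · rw [Category.assoc, hip', if_pos rfl, Category.comp_id]
    · intro s' _ hs
      rw [Category.assoc, hip', if_neg hs, Limits.comp_zero]
    · simp
  obtain ⟨B, _, j, hj, hjc, hBp, hBi, hjr⟩ := IsogLib.exists_image u.toHom
  haveI := hj
  haveI := hjc
  haveI := hBp
  haveI := hBi
  haveI : IsCommMonObj B := isCommMonObj_of_isProper_of_geometricallyIntegral B
  haveI : IsIntegral Q.left := H23.MaxAbelian.isIntegral_of_geometricallyIntegral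
  haveI : IsIntegral B.left := H23.MaxAbelian.isIntegral_of_geometricallyIntegral
  haveI : Mono j := AVRosati.SubAV.mono_of_closed j
  haveI : Mono (EndAV.Hom.of j).toHom := ‹Mono j›
  obtain ⟨τ, hτ⟩ := AVRosati.SubAV.exists_lift_over u.toHom j hjr.ge
  haveI : Surjective τ.left := AVRosati.SubAV.surjective_of_range τ j (by rw [hτ, hjr])
  haveI : IsMonHom (τ ≫ j) := hτ ▸ inferInstance
  haveI : IsMonHom τ := AVRosati.SubAV.isMonHom_of_comp_mono τ j
  have hR : Mem P R := h.mem_of_decomp pr' inc' hid'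
  have hB : Mem P B := Mem.of_mono (f := EndAV.Hom.of j) hR
  let v : Fin m → EndAV.Hom B Aw := fun t => EndAV.Hom.of j ≫ pr' t
  let Λ : (Fin m → EndAV.End Aw) →ₗ[EndAV.End Aw] EndAV.Hom B Aw :=
    ∑ t, (LinearMap.toSpanSingleton (EndAV.End Aw) _ (v t)).comp (LinearMap.proj t)
  have hΛapp : ∀ c, Λ c = ∑ t, c t • v t := fun c => by
    rw [LinearMap.sum_apply]; rfl
  have hΛ : Function.Surjective Λ := fun φ => by
    obtain ⟨(ψ : EndAV.Hom R Aw), rfl⟩ := h.surjective_of_mono hB hR (EndAV.Hom.of j) φ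
    refine ⟨fun t => (show EndAV.End Aw from inc' t ≫ ψ), ?_⟩
    rw [hΛapp]
    show ∑ t, (EndAV.Hom.of j ≫ pr' t) ≫ inc' t ≫ ψ = EndAV.Hom.of j ≫ ψ
    rw [Finset.sum_congr rfl fun t _ => (by simp only [Category.assoc] :
      (EndAV.Hom.of j ≫ pr' t) ≫ inc' t ≫ ψ = EndAV.Hom.of j ≫ (pr' t ≫ inc' t) ≫ ψ),
      ← Preadditive.comp_sum, ← Preadditive.sum_comp, hid', Category.id_comp]
  have hker : LinearMap.ker Λ = LinearMap.ker π := by
    ext c
    rw [LinearMap.mem_ker, LinearMap.mem_ker]
    have hτv : ∀ t, EndAV.Hom.of τ ≫ v t = row t := fun t => by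
      rw [← hu t]
      show EndAV.Hom.of τ ≫ EndAV.Hom.of j ≫ pr' t = u ≫ pr' t
      rw [← Category.assoc]
      exact congrArg (· ≫ pr' t) (EndAV.Hom.ext hτ)
    have e : EndAV.Hom.of τ ≫ Λ c = ∑ i, Φ (π c) i • pr i := by
      rw [hΛapp, Preadditive.comp_sum, Finset.sum_congr rfl fun t _ => (?_ : EndAV.Hom.of τ ≫ (c t • v t) =
        c t • row t), hπapp, map_sum]
      · simp only [row, Finset.smul_sum, smul_smul, Finset.sum_apply, Finset.sum_smul, map_smul, Pi.smul_apply,
          smul_eq_mul]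
        exact Finset.sum_comm
      · show EndAV.Hom.of τ ≫ (v t ≫ c t) = row t ≫ c t
        rw [← Category.assoc, hτv]
    constructor
    · intro hc
      rw [hc, Limits.comp_zero] at e
      refine hΦ (funext fun i => ?_)
      rw [map_zero]
      have e2 := congrArg (fun φ : EndAV.Hom Q Aw => inc i ≫ φ) e
      simp only [Limits.comp_zero, Preadditive.comp_sum] at e2
      rw [Finset.sum_eq_single i (fun l _ hl => ?_) (by simp)] at e2
      · rw [show inc i ≫ (Φ (π c) i • pr i) = (inc i ≫ pr i) ≫ Φ (π c) i from (Category.assoc _ _ _).symm,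
          hip, if_pos rfl] at e2
        exact (e2.trans (Category.id_comp _)).symm
      · show inc i ≫ pr l ≫ Φ (π c) l = 0
        rw [← Category.assoc, hip, if_neg (Ne.symm hl)]
        exact Limits.zero_comp
    · intro hc
      rw [hc, map_zero] at e
      simp only [Pi.zero_apply, zero_smul, Finset.sum_const_zero] at e
      refine EndAV.Hom.ext (AVRosati.Factor.cancel_surjective τ ?_)
      exact (congrArg EndAV.Hom.toHom e).trans (MonObj.comp_one τ).symm
  exact ⟨B, inferInstance, inferInstance, inferInstance, inferInstance, hB,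
    ⟨((π.quotKerEquivOfSurjective hπ).symm.trans (Submodule.quotEquivOfEq _ _ hker.symm)).trans
      (Λ.quotKerEquivOfSurjective hΛ)⟩⟩

end Groth.Agent.CSEquiv
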