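import Groth.Agent.CSEquiv.Upper
import Mathlib.RingTheory.Localization.Integral
import Mathlib.RingTheory.Polynomial.GaussLemma

/-!
The abelian subvariety of `A_w` belonging to a factor of the Frobenius polynomial.
-/

noncomputable section

set_option autoImplicit false
set_option linter.style.haveILetI false
set_option linter.unusedSectionVars false
set_option linter.overlappingInstances false
set_option backward.isDefEq.respectTransparency false
set_option backward.isDefEq.respectTransparency.types false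
set_option maxHeartbeats 800000
set_option synthInstance.maxHeartbeats 400000

universe u

open CategoryTheory CategoryTheory.Limits AlgebraicGeometry MonoidalCategory CartesianMonoidalCategory
open scoped MonObj

attribute [-instance] CategoryTheory.catToReflQuiver

namespace Groth.Agent.CSEquiv

open Polynomial in
/-- Coprime over `ℚ` gives a Bezout relation with a nonzero integer. -/
theorem exists_bezout {F G : Polynomial ℤ} (h : IsCoprime (F.map (Int.castRingHom ℚ)) (G.map (Int.castRingHom ℚ))) :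
    ∃ (a b : Polynomial ℤ) (c : ℕ), c ≠ 0 ∧ a * F + b * G = C (c : ℤ) := by
  obtain ⟨a, b, hab⟩ := h
  obtain ⟨⟨d, hd⟩, hA⟩ := IsLocalization.integerNormalization_map_to_map (nonZeroDivisors ℤ) a
  obtain ⟨⟨e, he⟩, hB⟩ := IsLocalization.integerNormalization_map_to_map (nonZeroDivisors ℤ) b
  simp only [algebraMap_int_eq, zsmul_eq_mul] at hA hB
  have key : C e * IsLocalization.integerNormalization (nonZeroDivisors ℤ) a * F +
      C d * IsLocalization.integerNormalization (nonZeroDivisors ℤ) b * G = C (d * e) := by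
    apply Polynomial.map_injective (Int.castRingHom ℚ) Int.cast_injective
    simp only [Polynomial.map_add, Polynomial.map_mul, Polynomial.map_C, Polynomial.map_intCast, hA, hB, eq_intCast,
      map_intCast, Int.cast_mul]
    linear_combination ((d : Polynomial ℚ) * (e : Polynomial ℚ)) * hab
  refine ⟨C (d * e).sign * (C e * IsLocalization.integerNormalization (nonZeroDivisors ℤ) a),
    C (d * e).sign * (C d * IsLocalization.integerNormalization (nonZeroDivisors ℤ) b), (d * e).natAbs,
    Int.natAbs_ne_zero.2 (mul_ne_zero (nonZeroDivisors.ne_zero hd) (nonZeroDivisors.ne_zero he)), ?_⟩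
  rw [← Int.sign_mul_self_eq_natAbs, C_mul (b := d * e), ← key]
  ring

/-- Distinct minimal polynomials are coprime over `ℚ`. -/
theorem isCoprime_prod {J₀ : Type*} (m : J₀ → Polynomial ℤ) (hm : ∀ i, (m i).Monic) (hirr : ∀ i, Irreducible (m i))
    (hinj : ∀ i j, m i = m j → i = j) {s t : Finset J₀} (hst : Disjoint s t) :
    IsCoprime ((∏ i ∈ s, m i).map (Int.castRingHom ℚ)) ((∏ i ∈ t, m i).map (Int.castRingHom ℚ)) := by
  rw [Polynomial.map_prod, Polynomial.map_prod]
  refine IsCoprime.prod_left fun i hi => IsCoprime.prod_right fun j hj => ?_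
  have hI : ∀ i, Irreducible ((m i).map (Int.castRingHom ℚ)) := fun i => by
    rw [← algebraMap_int_eq]
    exact ((hm i).irreducible_iff_irreducible_map_fraction_map (K := ℚ)).1 (hirr i)
  refine (hI i).coprime_iff_not_dvd.2 fun hd => ?_
  have hij : i ≠ j := fun e => Finset.disjoint_left.1 hst hi (e ▸ hj)
  refine hij (hinj i j (Polynomial.map_injective (Int.castRingHom ℚ) Int.cast_injective ?_))
  exact Polynomial.eq_of_monic_of_associated ((hm i).map _) ((hm j).map _) ((hI i).associated_of_dvd (hI j) hd)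

variable {k : Type u} [Field k] [Finite k]
  {Aw : Over (Spec (CommRingCat.of k))} [GrpObj Aw] [IsCommMonObj Aw] [IsProper Aw.hom] [GeometricallyIntegral Aw.hom]
  {p : ℕ} {P : Polynomial ℤ}

theorem Mem.of_dvd {X : Over (Spec (CommRingCat.of k))} [GrpObj X] [IsCommMonObj X] {Q : Polynomial ℤ}
    (hX : Mem Q X) (hd : Q ∣ P) : Mem P X := by
  obtain ⟨R, rfl⟩ := hd
  show Polynomial.aeval (frobE X) (Q * R) = 0
  rw [map_mul, show Polynomial.aeval (frobE X) Q = 0 from hX, zero_mul]

/-- The largest abelian subvariety killed by a factor of the Frobenius polynomial. -/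
theorem Data.sub_facts (h : Data Aw p P) {Pv Po : Polynomial ℤ} (hP : P = Pv * Po) {a b : Polynomial ℤ} {c : ℕ}
    (hc : c ≠ 0) (hab : a * Pv + b * Po = Polynomial.C (c : ℤ)) (hPo : Po ≠ 0)
    {C : Over (Spec (CommRingCat.of k))} [GrpObj C] [IsCommMonObj C] [IsProper C.hom] [GeometricallyIntegral C.hom]
    (j : EndAV.Hom C Aw) [IsClosedImmersion j.toHom.left]
    (hfac : ∀ (B : Over (Spec (CommRingCat.of k))) [GrpObj B] [IsCommMonObj B] [IsProper B.hom]
      [GeometricallyIntegral B.hom], Mem Pv B → ∀ f : EndAV.Hom B Aw, ∃ f₀ : EndAV.Hom B C, f₀ ≫ j = f)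
    (hmin : ∀ (C' : Over (Spec (CommRingCat.of k))) [GrpObj C'] [IsCommMonObj C'] [IsProper C'.hom]
      [GeometricallyIntegral C'.hom] (j' : EndAV.Hom C' Aw) [IsClosedImmersion j'.toHom.left],
      (∀ (B : Over (Spec (CommRingCat.of k))) [GrpObj B] [IsCommMonObj B] [IsProper B.hom]
        [GeometricallyIntegral B.hom], Mem Pv B → ∀ f : EndAV.Hom B Aw, ∃ f₀ : EndAV.Hom B C', f₀ ≫ j' = f) →
      ∃ i : EndAV.Hom C C', i ≫ j' = j) :
    ∃ (hC : Mem P C), Mem Pv C ∧ Function.Surjective (h.act hC) ∧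
      ∀ Q : Polynomial ℤ, Polynomial.aeval (frobE C) Q = 0 → Pv ∣ Q := by
  let u : EndAV.Hom Aw Aw := Polynomial.aeval (frobE Aw) Po
  obtain ⟨B0, _, j0, hj0, hjc, hBp, hBi, hjr⟩ := IsogLib.exists_image u.toHom
  haveI := hj0
  haveI := hjc
  haveI := hBp
  haveI := hBi
  haveI : IsCommMonObj B0 := isCommMonObj_of_isProper_of_geometricallyIntegral B0
  haveI : IsIntegral Aw.left := H23.MaxAbelian.isIntegral_of_geometricallyIntegral
  haveI : IsIntegral B0.left := H23.MaxAbelian.isIntegral_of_geometricallyIntegral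
  haveI : Mono j0 := AVRosati.SubAV.mono_of_closed j0
  haveI : Mono (EndAV.Hom.of j0).toHom := ‹Mono j0›
  haveI : IsClosedImmersion (EndAV.Hom.of j0).toHom.left := hjc
  haveI : Mono j.toHom := AVRosati.SubAV.mono_of_closed j.toHom
  obtain ⟨τ, hτ⟩ := AVRosati.SubAV.exists_lift_over u.toHom j0 hjr.ge
  haveI : Surjective τ.left := AVRosati.SubAV.surjective_of_range τ j0 (by rw [hτ, hjr])
  haveI : IsMonHom (τ ≫ j0) := hτ ▸ inferInstance
  haveI : IsMonHom τ := AVRosati.SubAV.isMonHom_of_comp_mono τ j0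
  have hτ' : EndAV.Hom.of τ ≫ EndAV.Hom.of j0 = u := EndAV.Hom.ext hτ
  -- composites with the Frobenius of the image
  have key : ∀ Q : Polynomial ℤ,
      EndAV.Hom.of τ ≫ (show EndAV.Hom B0 B0 from Polynomial.aeval (frobE B0) Q) ≫ EndAV.Hom.of j0 =
        (show EndAV.Hom Aw Aw from Polynomial.aeval (frobE Aw) (Q * Po)) := fun Q => by
    rw [aeval_natural (EndAV.Hom.of j0) Q, ← Category.assoc, hτ', map_mul]
    rfl
  have hB0 : Mem Pv B0 := by
    refine EndAV.End.ext ((cancel_mono j0).1 ?_)
    refine AVRosati.Factor.cancel_surjective τ ?_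
    refine (congrArg EndAV.Hom.toHom (key Pv)).trans ?_
    rw [← hP, show Polynomial.aeval (frobE Aw) P = 0 from h.root, EndAV.End.toHom_zero, MonObj.one_comp,
      MonObj.comp_one]
    rfl
  have hfac0 : ∀ (B : Over (Spec (CommRingCat.of k))) [GrpObj B] [IsCommMonObj B] [IsProper B.hom]
      [GeometricallyIntegral B.hom], Mem Pv B → ∀ f : EndAV.Hom B Aw,
        ∃ f₀ : EndAV.Hom B B0, f₀ ≫ EndAV.Hom.of j0 = f := by
    intro B _ _ _ _ hB f
    haveI : IsIntegral B.left := H23.MaxAbelian.isIntegral_of_geometricallyIntegral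
    have e1 : c • f = (show EndAV.Hom B B from Polynomial.aeval (frobE B) b) ≫ f ≫ u := by
      have e2 : (c : EndAV.End B) = Polynomial.aeval (frobE B) Po * Polynomial.aeval (frobE B) b := by
        have h0 := congrArg (Polynomial.aeval (frobE B)) hab
        rw [map_add, map_mul, show Polynomial.aeval (frobE B) Pv = 0 from hB, mul_zero, zero_add,
          mul_comm b Po, map_mul, Polynomial.aeval_C] at h0
        rw [h0]
        simp
      have e3 : c • f = (show EndAV.Hom B B from (c : EndAV.End B)) ≫ f := by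
        rw [show (show EndAV.Hom B B from (c : EndAV.End B)) = c • 𝟙 (CommGrp.mk B) from EndAV.Hom.ext (by
          rw [EndAV.Hom.toHom_nsmul]; exact EndAV.End.toHom_natCast c), Preadditive.nsmul_comp, Category.id_comp]
      rw [e3, e2]
      exact (Category.assoc _ _ _).trans (congrArg _ (aeval_natural f Po))
    have hrange : Set.range f.toHom.left ⊆ Set.range j0.left := by
      rintro _ ⟨x, rfl⟩
      haveI : Surjective (𝟙 B ^ c : B ⟶ B).left := AVMulN.surjective_pow (A := B) c (Nat.one_le_iff_ne_zero.2 hc)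
      obtain ⟨x', hx'⟩ := (Surjective.surj (f := (𝟙 B ^ c : B ⟶ B).left)) x
      have e4 : (𝟙 B ^ c : B ⟶ B) ≫ f.toHom = (EndAV.End.toHom (Polynomial.aeval (frobE B) b) ≫ f.toHom) ≫ u.toHom := by
        have e5 := congrArg EndAV.Hom.toHom e1
        rw [EndAV.Hom.toHom_nsmul] at e5
        rw [MonObj.pow_comp, Category.id_comp, e5, Category.assoc]
        rfl
      rw [← hx', ← Scheme.Hom.comp_apply, ← Over.comp_left, e4, hjr, Over.comp_left, Scheme.Hom.comp_apply]
      exact ⟨_, rfl⟩
    obtain ⟨f₀, hf₀⟩ := AVRosati.SubAV.exists_lift_over f.toHom j0 hrange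
    haveI : IsMonHom (f₀ ≫ j0) := hf₀ ▸ inferInstance
    haveI : IsMonHom f₀ := AVRosati.SubAV.isMonHom_of_comp_mono f₀ j0
    exact ⟨EndAV.Hom.of f₀, EndAV.Hom.ext hf₀⟩
  obtain ⟨i, hi⟩ := hmin B0 (EndAV.Hom.of j0) hfac0
  obtain ⟨i', hi'⟩ := hfac B0 hB0 (EndAV.Hom.of j0)
  haveI : Mono i.toHom := by
    haveI : Mono (i.toHom ≫ j0) := by
      rw [show i.toHom ≫ j0 = j.toHom from congrArg EndAV.Hom.toHom hi]; infer_instance
    exact mono_of_mono i.toHom j0
  haveI : Mono i'.toHom := by
    haveI : Mono (i'.toHom ≫ j.toHom) := by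
      rw [show i'.toHom ≫ j.toHom = j0 from congrArg EndAV.Hom.toHom hi']; infer_instance
    exact mono_of_mono i'.toHom j.toHom
  have hCv : Mem Pv C := Mem.of_mono (f := i) hB0
  have hC : Mem P C := hCv.of_dvd ⟨Po, hP⟩
  refine ⟨hC, hCv, fun f => ?_, fun Q hQ => ?_⟩
  · obtain ⟨(s : EndAV.End Aw), hs⟩ := h.surjective_of_mono hC h.mem_self j ((show EndAV.Hom C C from f) ≫ j)
    refine ⟨s, EndAV.End.ext ((cancel_mono j.toHom).1 ?_)⟩
    refine congrArg EndAV.Hom.toHom (?_ : (show EndAV.Hom C C from h.act hC s) ≫ j = (show EndAV.Hom C C from f) ≫ j)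
    rw [h.act_natural hC h.mem_self j s, h.act_self]
    exact hs
  · have hQ0 : Polynomial.aeval (frobE B0) Q = 0 := by
      refine EndAV.End.ext ((cancel_mono i'.toHom).1 ?_)
      refine (congrArg EndAV.Hom.toHom (aeval_natural i' Q)).trans ?_
      rw [hQ, EndAV.End.toHom_zero, MonObj.one_comp]
      exact MonObj.comp_one _
    have e : Polynomial.aeval (frobE Aw) (Q * Po) = 0 := by
      refine ((key Q).symm.trans ?_ : (show EndAV.Hom Aw Aw from Polynomial.aeval (frobE Aw) (Q * Po)) = 0)
      rw [hQ0]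
      exact (congrArg _ Limits.zero_comp).trans Limits.comp_zero
    exact (mul_dvd_mul_iff_right hPo).1 (hP ▸ h.dvd_of_aeval e)

end Groth.Agent.CSEquiv
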