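import Groth.Agent.CSEquiv.Full
import Groth.Agent.AVTateSeq.Basic
import Groth.Agent.AVTorsLib.GeomPts
import Groth.Prelude.Def_EndTate

/-!
The Tate module of a variety is determined by its homomorphisms to `A_w`.
-/

noncomputable section

set_option autoImplicit false
set_option linter.style.haveILetI false
set_option linter.unusedSectionVars false
set_option linter.overlappingInstances false
set_option backward.isDefEq.respectTransparency false
set_option backward.isDefEq.respectTransparency.types false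
set_option maxHeartbeats 800000
set_option synthInstance.maxHeartbeats 400000

universe u

open CategoryTheory CategoryTheory.Limits AlgebraicGeometry MonoidalCategory CartesianMonoidalCategory
open scoped MonObj

attribute [-instance] CategoryTheory.catToReflQuiver

namespace Groth.Agent.CSEquiv

variable {k : Type u} [Field k] [Finite k]
  {X : Over (Spec (CommRingCat.of k))} [GrpObj X] [IsCommMonObj X] [IsProper X.hom] [GeometricallyIntegral X.hom]
  {Y : Over (Spec (CommRingCat.of k))} [GrpObj Y] [IsCommMonObj Y]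
  {Z : Over (Spec (CommRingCat.of k))} [GrpObj Z] [IsCommMonObj Z]
  {Aw : Over (Spec (CommRingCat.of k))} [GrpObj Aw] [IsCommMonObj Aw] [IsProper Aw.hom] [GeometricallyIntegral Aw.hom]
  {p : ℕ} {P : Polynomial ℤ} (l : ℕ) [Fact l.Prime]
  (Ω : Type u) [Field Ω] [Algebra k Ω] [IsAlgClosure k Ω]

theorem tateMap_comp {T : Over (Spec (CommRingCat.of k))} (a : EndAV.Hom X Y) (b : EndAV.Hom Y Z)
    (x : AbDual.TateMod X l T) :
    EndAV.Hom.tateMap l T (a ≫ b) x = EndAV.Hom.tateMap l T b (EndAV.Hom.tateMap l T a x) :=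
  AbDual.TateMod.ext fun n => congrArg Additive.ofMul (Category.assoc _ _ _).symm

theorem tateMap_id {T : Over (Spec (CommRingCat.of k))} (x : AbDual.TateMod X l T) :
    EndAV.Hom.tateMap l T (𝟙 (CommGrp.mk X)) x = x :=
  AbDual.TateMod.ext fun n => congrArg Additive.ofMul (Category.comp_id _)

theorem exists_pow_mul_unit {N : ℕ} (hN : 0 < N) :
    ∃ (e m : ℕ), N = l ^ e * m ∧ IsUnit (m : ℤ_[l]) := by
  obtain ⟨e, m, hm, rfl⟩ := Nat.exists_eq_pow_mul_and_not_dvd hN.ne' l (Fact.out : l.Prime).ne_one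
  exact ⟨e, m, rfl, AVTateSeq.isUnit_natCast hm⟩

theorem nsmul_cancel_tate {A : Over (Spec (CommRingCat.of k))} [GrpObj A] [IsCommMonObj A]
    {T : Over (Spec (CommRingCat.of k))} {N : ℕ} (hN : 0 < N) {x y : AbDual.TateMod A l T} (h : N • x = N • y) :
    x = y := by
  obtain ⟨e, m, rfl, hm⟩ := exists_pow_mul_unit l hN
  rw [mul_nsmul', mul_nsmul'] at h
  have h' := AVTateSeq.nsmul_cancel _ _ e h
  rw [← Nat.cast_smul_eq_nsmul ℤ_[l], ← Nat.cast_smul_eq_nsmul ℤ_[l] m y] at h'
  exact hm.smul_left_cancel.1 h'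

/-- The Tate module is the space of compatible values on homomorphisms to `A_w`. -/
theorem Data.tate_eval (h : Data Aw p P) (hX : Mem P X) (hl : (l : k) ≠ 0) :
    (∀ x y : AbDual.TateMod X l (SGA7.pt (K := k) Ω),
        (∀ φ : EndAV.Hom X Aw, EndAV.Hom.tateMap l (SGA7.pt Ω) φ x = EndAV.Hom.tateMap l (SGA7.pt Ω) φ y) → x = y) ∧
      (∀ g : EndAV.Hom X Aw →+ AbDual.TateMod Aw l (SGA7.pt (K := k) Ω),
        (∀ (φ : EndAV.Hom X Aw) (s : EndAV.End Aw), g (φ ≫ s) = EndAV.End.tateRep l (SGA7.pt Ω) s (g φ)) →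
          ∃ x : AbDual.TateMod X l (SGA7.pt (K := k) Ω), ∀ φ : EndAV.Hom X Aw,
            g φ = EndAV.Hom.tateMap l (SGA7.pt Ω) φ x) := by
  classical
  obtain ⟨N, hN, m, φ, r, -, hsum⟩ := h.exists_decomp hX
  have key : ∀ x : AbDual.TateMod X l (SGA7.pt (K := k) Ω), N • x =
      ∑ t, EndAV.Hom.tateMap l (SGA7.pt Ω) (r t) (EndAV.Hom.tateMap l (SGA7.pt Ω) (φ t) x) := fun x => by
    have e := congrArg (fun a : EndAV.Hom X X => EndAV.Hom.tateMap l (SGA7.pt (K := k) Ω) a x) hsum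
    simp only [map_sum, map_nsmul, LinearMap.sum_apply, LinearMap.smul_apply] at e
    rw [tateMap_id] at e
    rw [← e]
    exact Finset.sum_congr rfl fun t _ => tateMap_comp l (φ t) (r t) x
  refine ⟨fun x y hxy => nsmul_cancel_tate l hN ?_, fun g hg => ?_⟩
  · rw [key, key]
    exact Finset.sum_congr rfl fun t _ => by rw [hxy]
  let x' : AbDual.TateMod X l (SGA7.pt (K := k) Ω) := ∑ t, EndAV.Hom.tateMap l (SGA7.pt Ω) (r t) (g (φ t))
  have hx' : ∀ ψ : EndAV.Hom X Aw, EndAV.Hom.tateMap l (SGA7.pt Ω) ψ x' = N • g ψ := fun ψ => by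
    have e : ∀ t, EndAV.Hom.tateMap l (SGA7.pt Ω) ψ (EndAV.Hom.tateMap l (SGA7.pt Ω) (r t) (g (φ t))) =
        g ((φ t ≫ r t) ≫ ψ) := fun t => by
      rw [← tateMap_comp, Category.assoc]
      exact (hg (φ t) (r t ≫ ψ)).symm
    rw [map_sum, Finset.sum_congr rfl fun t _ => e t, ← map_sum, ← Preadditive.sum_comp, hsum,
      Preadditive.nsmul_comp, Category.id_comp, map_nsmul]
  obtain ⟨e, u, hNe, hu⟩ := exists_pow_mul_unit l hN
  obtain ⟨z, hz⟩ := AVTateSeq.exists_eq_pow_smul x' e (by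
    refine congrArg Additive.ofMul (h.eq_one_of_killed hX _ fun ψ => ?_)
    have e1 := congrArg (fun w : AbDual.TateMod Aw l (SGA7.pt (K := k) Ω) => AbDual.TateMod.component Aw l _ e w) (hx' ψ)
    have e2 : AbDual.TateMod.component Aw l (SGA7.pt (K := k) Ω) e (N • g ψ) = 0 := by
      rw [map_nsmul, hNe, mul_comm, mul_nsmul']
      refine (congrArg (fun w => u • w) ((g ψ).torsion e)).trans (nsmul_zero u)
    exact congrArg Additive.toMul (e1.trans e2))
  obtain ⟨v, hv⟩ := hu.exists_left_inv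
  refine ⟨v • z, fun ψ => nsmul_cancel_tate l hN ?_⟩
  rw [← hx', ← map_nsmul]
  refine congrArg _ ?_
  rw [← hz, hNe, ← Nat.cast_smul_eq_nsmul ℤ_[l] (l ^ e * u), ← Nat.cast_smul_eq_nsmul ℤ_[l] (l ^ e), smul_smul,
    Nat.cast_mul, mul_assoc, mul_comm (u : ℤ_[l]), hv, mul_one]

end Groth.Agent.CSEquiv
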