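import Groth.Agent.CSEquiv.RankHom
import Groth.Agent.CSEquiv.Cyclic
import Groth.Agent.AVTorsLib.GeomPts
import Groth.Prelude.Def_EndTate

/-!
The Tate modules of `A_w` are free of rank one over its endomorphism ring.
-/

noncomputable section

set_option autoImplicit false
set_option linter.style.haveILetI false
set_option linter.unusedSectionVars false
set_option linter.overlappingInstances false
set_option backward.isDefEq.respectTransparency false
set_option backward.isDefEq.respectTransparency.types false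
set_option maxHeartbeats 800000
set_option synthInstance.maxHeartbeats 400000

universe u

open CategoryTheory CategoryTheory.Limits AlgebraicGeometry MonoidalCategory CartesianMonoidalCategory
open scoped MonObj

attribute [-instance] CategoryTheory.catToReflQuiver

namespace Groth.Agent.CSEquiv

variable {k : Type u} [Field k] [Finite k]
  {Aw : Over (Spec (CommRingCat.of k))} [GrpObj Aw] [IsCommMonObj Aw] [IsProper Aw.hom] [GeometricallyIntegral Aw.hom]
  {p : ℕ} {P : Polynomial ℤ}

/-- Modulo a prime invertible in `k`, `End A_w` is generated by the Frobenius. -/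
theorem Data.exists_mod_repr (h : Data Aw p P) (l : ℕ) [Fact l.Prime] (hl : (l : k) ≠ 0) (s : EndAV.End Aw) :
    ∃ (c : Fin P.natDegree → ℤ) (t : EndAV.End Aw), s = ∑ i, c i • frobE Aw ^ (i : ℕ) + l • t := by
  classical
  haveI : Module.Finite ℤ (EndAV.End Aw) := (AVHomLib.hom_free (A := Aw) (B := Aw)).1
  obtain ⟨V, hV, hgen⟩ := h.gen
  let G : Subalgebra ℤ (EndAV.End Aw) :=
    { carrier := {s | ∃ (Q : Polynomial ℤ) (t : EndAV.End Aw), s = Polynomial.aeval (frobE Aw) Q + l • t}
      mul_mem' := fun {a b} ⟨Q, t, ha⟩ ⟨Q', t', hb⟩ =>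
        ⟨Q * Q', Polynomial.aeval (frobE Aw) Q * t' + t * Polynomial.aeval (frobE Aw) Q' + l • (t * t'), by
          rw [ha, hb, map_mul, add_mul, mul_add, mul_add]
          simp only [smul_add, mul_smul_comm, smul_mul_assoc]
          abel⟩
      add_mem' := fun {a b} ⟨Q, t, ha⟩ ⟨Q', t', hb⟩ => ⟨Q + Q', t + t', by rw [ha, hb, map_add, smul_add]; abel⟩
      algebraMap_mem' := fun c => ⟨Polynomial.C c, 0, by rw [Polynomial.aeval_C, smul_zero, add_zero]⟩ }
  have hVG : V ∈ G := by
    have hint : IsIntegral ℤ V := IsIntegral.of_finite ℤ V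
    obtain ⟨W, hWm, hW⟩ := hint
    obtain ⟨u, w, huw⟩ : ∃ u w : ℤ, u * (p : ℤ) ^ (W.natDegree - 1) + w * l = 1 := by
      have hpl : p ≠ l := fun e => hl (by
        haveI := Fintype.ofFinite k
        rw [← e, ← h.card, Nat.card_eq_fintype_card]; exact Nat.cast_card_eq_zero k)
      have : IsCoprime ((p : ℤ) ^ (W.natDegree - 1)) (l : ℤ) :=
        (Nat.isCoprime_iff_coprime.2 ((Nat.coprime_primes h.prime Fact.out).2 hpl)).pow_left
      obtain ⟨u, w, huw⟩ := this
      exact ⟨u, w, huw⟩
    have hpow : ∀ i, i ≤ W.natDegree - 1 → V ^ i * frobE Aw ^ (W.natDegree - 1) =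
        (p : ℤ) ^ i • frobE Aw ^ (W.natDegree - 1 - i) := fun i hi => by
      conv_lhs => rw [show W.natDegree - 1 = i + (W.natDegree - 1 - i) by omega, pow_add, ← mul_assoc,
        ← (Commute.mul_pow (show Commute V (frobE Aw) from h.comm _ _) i), h.comm V, hV]
      rw [zsmul_eq_mul, Int.cast_pow, Int.cast_natCast]
    have hkey : ∃ Q : Polynomial ℤ, (p : ℤ) ^ (W.natDegree - 1) • V = Polynomial.aeval (frobE Aw) Q := by
      rcases Nat.eq_zero_or_pos W.natDegree with h0 | h0
      · have hW1 : W = 1 := (Polynomial.Monic.natDegree_eq_zero hWm).1 h0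
        have : Subsingleton (EndAV.End Aw) := ⟨fun a b => by
          have h1 : (1 : EndAV.End Aw) = 0 := by simpa [hW1] using hW
          rw [← one_mul a, ← one_mul b, h1, zero_mul, zero_mul]⟩
        exact ⟨0, Subsingleton.elim _ _⟩
      obtain ⟨d, hd⟩ : ∃ d, W.natDegree = d + 1 := ⟨W.natDegree - 1, by omega⟩
      refine ⟨-∑ i ∈ Finset.range (d + 1), Polynomial.C (W.coeff i * (p : ℤ) ^ i) * Polynomial.X ^ (d - i), ?_⟩
      have e : Polynomial.aeval V W * frobE Aw ^ d = 0 := by
        rw [show Polynomial.aeval V W = 0 from hW, zero_mul]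
      rw [Polynomial.aeval_eq_sum_range, hd, Finset.sum_range_succ, show W.coeff (d + 1) = 1 by
        rw [← hd]; exact hWm.coeff_natDegree, one_smul, add_mul, Finset.sum_mul] at e
      have e1 : V ^ (d + 1) * frobE Aw ^ d = (p : ℤ) ^ d • V := by
        have := hpow d (by omega)
        rw [show W.natDegree - 1 = d by omega, Nat.sub_self, pow_zero] at this
        rw [pow_succ', mul_assoc, this, mul_smul_comm, mul_one]
      rw [show W.natDegree - 1 = d by omega, ← e1]
      rw [map_neg, map_sum, eq_neg_iff_add_eq_zero, add_comm, ← e]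
      refine congrArg (· + _) (Finset.sum_congr rfl fun i hi => ?_)
      have hi' := Finset.mem_range.1 hi
      have := hpow i (by omega)
      rw [show W.natDegree - 1 = d by omega] at this
      rw [smul_mul_assoc, this, map_mul, Polynomial.aeval_C, map_pow, Polynomial.aeval_X, ← Algebra.smul_def, mul_smul]
    obtain ⟨Q, hQ⟩ := hkey
    refine ⟨Polynomial.C u * Q, w • V, ?_⟩
    rw [map_mul, Polynomial.aeval_C, ← hQ, ← Algebra.smul_def, smul_smul, ← natCast_zsmul, smul_smul,
      mul_comm (l : ℤ) w, ← add_smul, huw, one_smul]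
  have hle : Algebra.adjoin ℤ ({frobE Aw, V} : Set (EndAV.End Aw)) ≤ G := Algebra.adjoin_le (by
    rintro x (rfl | rfl)
    · exact ⟨Polynomial.X, 0, by rw [Polynomial.aeval_X, smul_zero, add_zero]⟩
    · exact hVG)
  obtain ⟨Q, t, hQ⟩ := hle (hgen s)
  refine ⟨fun i => (Q %ₘ P).coeff i, t, ?_⟩
  rw [hQ, ← Polynomial.aeval_modByMonic_eq_self_of_root h.root]
  refine congrArg (· + _) ?_
  rcases Nat.eq_zero_or_pos P.natDegree with h0 | h0
  · haveI : Subsingleton (EndAV.End Aw) := by
      haveI : Module.Free ℤ (EndAV.End Aw) := (AVHomLib.hom_free (A := Aw) (B := Aw)).2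
      exact Module.finrank_zero_iff.1 (h.rank.trans h0)
    exact Subsingleton.elim _ _
  rw [Polynomial.aeval_eq_sum_range' (n := P.natDegree) (Polynomial.natDegree_modByMonic_lt Q h.monic (fun e => by
    rw [e, Polynomial.natDegree_one] at h0; exact lt_irrefl _ h0))]
  exact (Fin.sum_univ_eq_sum_range (fun i => (Q %ₘ P).coeff i • frobE Aw ^ i) _).symm

/-- Freeness of rank one of the Tate module. -/
theorem Data.exists_tate_generator (h : Data Aw p P) (l : ℕ) [Fact l.Prime] (hl : (l : k) ≠ 0)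
    (Ω : Type u) [Field Ω] [Algebra k Ω] [IsAlgClosure k Ω] :
    ∃ x : AbDual.TateMod Aw l (SGA7.pt (K := k) Ω), ∀ (n : ℕ) (b : Module.Basis (Fin n) ℤ (EndAV.End Aw)),
      LinearIndependent ℤ_[l] (fun i => EndAV.End.tateRep l (SGA7.pt Ω) (b i) x) ∧
        Submodule.span ℤ_[l] (Set.range fun i => EndAV.End.tateRep l (SGA7.pt Ω) (b i) x) = ⊤ := by
  haveI : IsAlgClosed Ω := IsAlgClosure.isAlgClosed k
  haveI : Module.Finite ℤ (EndAV.End Aw) := (AVHomLib.hom_free (A := Aw) (B := Aw)).1
  haveI : Module.Free ℤ (EndAV.End Aw) := (AVHomLib.hom_free (A := Aw) (B := Aw)).2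
  haveI := (AVTorsLib.tateMod_free_pt (A := Aw) Ω l hl).1
  haveI := (AVTorsLib.tateMod_free_pt (A := Aw) Ω l hl).2
  obtain ⟨gw, hgw⟩ := AVDegPoly.exists_dim (A := Aw)
  obtain ⟨-, -, hcp⟩ := h.self_facts hgw
  have hT : Module.finrank ℤ_[l] (AbDual.TateMod Aw l (SGA7.pt (K := k) Ω)) = P.natDegree := by
    rw [← LinearMap.charpoly_natDegree (AbDual.tateMapₗ (l := l) (T := SGA7.pt (K := k) Ω)
      (EndAV.End.toHom (frobE Aw))), hcp Ω l hl, h.monic.natDegree_map]
  refine exists_generator (EndAV.End.tateRep (A := Aw) l (SGA7.pt (K := k) Ω)) (frobE Aw) h.rank hT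
    (fun s => h.exists_mod_repr l hl s) fun s hs => ?_
  obtain ⟨φ', hφ', hs'⟩ := AVTorsLib.exists_factor_geom (A := Aw) Ω (EndAV.End.toHom s) l hl fun a ha => by
    obtain ⟨z, hz⟩ := AVTorsLib.exists_component_eq (A := Aw)
      (AVTorsLib.pt_divisible (A := Aw) Ω l (Fact.out : l.Prime).one_le) 1 a (by rwa [pow_one])
    obtain ⟨w, hw⟩ := hs z
    have e := congrArg (AbDual.TateMod.component Aw l (SGA7.pt (K := k) Ω) 1) hw
    rw [map_nsmul] at e
    have e0 : l • AbDual.TateMod.component Aw l (SGA7.pt (K := k) Ω) 1 w = 0 := by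
      exact (congrArg (· • _) (pow_one l).symm).trans (w.torsion 1)
    rw [e0] at e
    have e' : Additive.ofMul (((z : ℕ → Additive (SGA7.pt (K := k) Ω ⟶ Aw)) 1).toMul ≫ EndAV.End.toHom s) = 0 := e
    rw [hz] at e'
    exact congrArg Additive.toMul e'
  haveI := hφ'
  refine ⟨EndAV.End.of φ', EndAV.End.ext ?_⟩
  rw [EndAV.End.toHom_nsmul, EndAV.End.toHom_of, hs', MonObj.pow_comp, Category.id_comp]

end Groth.Agent.CSEquiv
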