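import Groth.Agent.CSEquiv.Full

/-!
Orders of kernels are indices; submodules of finite index are realised by isogenies.
-/

noncomputable section

set_option autoImplicit false
set_option linter.style.haveILetI false
set_option linter.unusedSectionVars false
set_option linter.overlappingInstances false
set_option backward.isDefEq.respectTransparency false
set_option backward.isDefEq.respectTransparency.types false
set_option maxHeartbeats 800000
set_option synthInstance.maxHeartbeats 400000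

universe u

open CategoryTheory CategoryTheory.Limits AlgebraicGeometry MonoidalCategory CartesianMonoidalCategory
open scoped MonObj

attribute [-instance] CategoryTheory.catToReflQuiver

namespace Groth.Agent.CSEquiv

variable {k : Type u} [Field k] [Finite k]
  {X : Over (Spec (CommRingCat.of k))} [GrpObj X] [IsCommMonObj X] [IsProper X.hom] [GeometricallyIntegral X.hom]
  {Y : Over (Spec (CommRingCat.of k))} [GrpObj Y] [IsCommMonObj Y] [IsProper Y.hom] [GeometricallyIntegral Y.hom]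
  {Aw : Over (Spec (CommRingCat.of k))} [GrpObj Aw] [IsCommMonObj Aw] [IsProper Aw.hom] [GeometricallyIntegral Aw.hom]
  {p : ℕ} {P : Polynomial ℤ}

/-- Shrinking the submodule by one generator multiplies the order by at most the index of the colon ideal. -/
theorem Data.step_upper (h : Data Aw p P) {n : ℕ} (hn : 0 < n)
    {S U : Submodule (EndAV.End Aw) (EndAV.Hom X Aw)} (hnS : ∀ φ, n • φ ∈ S) {x : EndAV.Hom X Aw}
    (hU : U = S ⊔ Submodule.span (EndAV.End Aw) {x}) {d d' : ℕ} (hd : IsOrd n S d) (hd' : IsOrd n U d') :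
    d ≤ d' * (Submodule.toAddSubgroup (S.comap (LinearMap.toSpanSingleton (EndAV.End Aw) (EndAV.Hom X Aw) x))).index := by
  obtain ⟨Q, _, _, _, _, q, hq, hi, rfl, hk⟩ := hd
  obtain ⟨Q', _, _, _, _, q', hq', hi', rfl, hk'⟩ := hd'
  haveI := hq
  haveI := hq'
  obtain ⟨r, hr, hri, hqr, hdeg⟩ := exists_isg_factor q' hi' q hi fun T g hg => (hk T g).2
    ⟨((hk' T g).1 hg).1, fun φ hφ => ((hk' T g).1 hg).2 φ (hU ▸ Submodule.mem_sup_left hφ)⟩
  haveI := hr
  rw [hdeg]
  refine Nat.mul_le_mul_left _ ?_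
  -- the colon ideal inside `A_w`
  let IC : Submodule (EndAV.End Aw) (EndAV.Hom Aw Aw) :=
    { carrier := {φ | (show EndAV.End Aw from φ) • x ∈ S}
      zero_mem' := by
        show (0 : EndAV.End Aw) • x ∈ S
        rw [zero_smul]; exact S.zero_mem
      add_mem' := fun {a b} ha hb => by
        show ((show EndAV.End Aw from a) + (show EndAV.End Aw from b)) • x ∈ S
        rw [add_smul]; exact S.add_mem ha hb
      smul_mem' := fun t φ hφ => by
        show (t * (show EndAV.End Aw from φ)) • x ∈ S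
        rw [mul_smul]; exact S.smul_mem t hφ }
  have hnIC : ∀ φ, n • φ ∈ IC := fun φ => by
    show (n • (show EndAV.End Aw from φ)) • x ∈ S
    rw [smul_assoc]
    exact hnS _
  obtain ⟨Qm, _, _, _, _, qm, hqm, hqmi, hqmk⟩ := (cut_kill (X := Aw) n hn IC).quot
  haveI := hqm
  rw [show (Submodule.toAddSubgroup (S.comap (LinearMap.toSpanSingleton (EndAV.End Aw) (EndAV.Hom X Aw) x))).index =
      IC.toAddSubgroup.index from rfl,
    ← h.ord_eq_index hn hnIC ⟨Qm, inferInstance, inferInstance, inferInstance, inferInstance, qm, hqm, hqmi, rfl, hqmk⟩]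
  obtain ⟨x', hx', hqx⟩ := exists_factor q' hi' x.toHom fun T g hg => ((hk' T g).1 hg).2 x
    (hU ▸ Submodule.mem_sup_right (Submodule.mem_span_singleton_self x))
  haveI := hx'
  have hland : ∀ (T : Over (Spec (CommRingCat.of k))) (g : T ⟶ Q'), g ≫ r = 1 → (g ≫ x') ≫ qm = 1 := by
    intro T g hg
    refine eq_of_lifts q' hi' g fun T' π g' hg' => ?_
    rw [MonObj.comp_one, ← Category.assoc, ← Category.assoc, ← hg', Category.assoc g', hqx]
    have hgq : g' ≫ q = 1 := by
      rw [← hqr, ← Category.assoc, hg', Category.assoc, hg, MonObj.comp_one]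
    obtain ⟨hgn, hgS⟩ := (hk T' g').1 hgq
    refine (hqmk T' _).2 ⟨by rw [← MonObj.pow_comp, hgn, MonObj.one_comp], fun s hs => ?_⟩
    rw [Category.assoc]
    exact hgS _ hs
  have hinj : ∀ (T : Over (Spec (CommRingCat.of k))) (g : T ⟶ Q'), g ≫ r = 1 → g ≫ x' = 1 → g = 1 := by
    intro T g hg hgx
    rw [← Category.comp_id g]
    refine eq_of_lifts q' hi' g fun T' π g' hg' => ?_
    rw [MonObj.comp_one, Category.comp_id, ← hg']
    have hgq : g' ≫ q = 1 := by
      rw [← hqr, ← Category.assoc, hg', Category.assoc, hg, MonObj.comp_one]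
    obtain ⟨hgn, hgS⟩ := (hk T' g').1 hgq
    refine (hk' T' g').2 ⟨hgn, fun φ hφ => ?_⟩
    have hxk : g' ≫ x.toHom = 1 := by
      rw [← hqx, ← Category.assoc, hg', Category.assoc, hgx, MonObj.comp_one]
    rw [hU] at hφ
    obtain ⟨a, ha, b, hb, rfl⟩ := Submodule.mem_sup.1 hφ
    obtain ⟨t, rfl⟩ := Submodule.mem_span_singleton.1 hb
    rw [EndAV.Hom.toHom_add, MonObj.comp_mul, hgS a ha, _root_.one_mul]
    show g' ≫ EndAV.Hom.toHom (x ≫ t) = 1
    rw [EndAV.Hom.toHom_comp, ← Category.assoc, hxk, MonObj.one_comp]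
  obtain ⟨N, _, i, hi₁, -, hN, hNf, hNd⟩ := exists_ker r hri
  obtain ⟨Nm, _, im, him, -, hNm, hNmf, hNmd⟩ := exists_ker qm hqmi
  haveI := hi₁
  haveI := him
  haveI := hNf
  haveI := hNmf
  haveI : Mono i := IsogLib.mono_kernel r hN
  haveI : Mono im := IsogLib.mono_kernel qm hNm
  obtain ⟨l, hl⟩ := IsogLib.exists_kernel_lift qm hNm (i ≫ x') (hland N i (IsogLib.kernel_comp _ hN))
  haveI : IsMonHom (l ≫ im) := hl ▸ inferInstance
  haveI : IsMonHom l := AVRosati.SubAV.isMonHom_of_comp_mono l im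
  haveI : Mono l := mono_of_trivial l fun T t ht => by
    refine (cancel_mono i).1 ?_
    rw [MonObj.one_comp]
    refine hinj T _ (by rw [Category.assoc, IsogLib.kernel_comp _ hN, MonObj.comp_one]) ?_
    rw [Category.assoc, ← hl, ← Category.assoc, ht, MonObj.one_comp]
  rw [← hNd, ← hNmd]
  exact finrank_le_of_mono l _

theorem Data.upper (h : Data Aw p P) {n : ℕ} (hn : 0 < n) :
    ∀ {S T : Submodule (EndAV.End Aw) (EndAV.Hom X Aw)}, (∀ φ, n • φ ∈ S) → S ≤ T → ∀ {d d' : ℕ},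
      IsOrd n S d → IsOrd n T d' → d ≤ d' * S.toAddSubgroup.relIndex T.toAddSubgroup := by
  haveI : Module.Finite ℤ (EndAV.Hom X Aw) := (AVHomLib.hom_free (A := X) (B := Aw)).1
  haveI : Module.Free ℤ (EndAV.Hom X Aw) := (AVHomLib.hom_free (A := X) (B := Aw)).2
  suffices hind : ∀ c, ∀ {S T : Submodule (EndAV.End Aw) (EndAV.Hom X Aw)}, (∀ φ, n • φ ∈ S) → S ≤ T →
      S.toAddSubgroup.relIndex T.toAddSubgroup = c → ∀ {d d' : ℕ}, IsOrd n S d → IsOrd n T d' → d ≤ d' * c by
    intro S T hnS hle d d' hd hd'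
    exact hind _ hnS hle rfl hd hd'
  intro c
  induction c using Nat.strong_induction_on with
  | _ c ih =>
    intro S T hnS hle hc d d' hd hd'
    rcases hle.eq_or_lt with rfl | hlt
    · rw [AddSubgroup.relIndex_self] at hc
      rw [← hc, mul_one, hd.unique hd']
    obtain ⟨U, x, hSU, hUT, hx, hU, hm, hidx⟩ := exists_step hn hnS hlt
    obtain ⟨e, he⟩ := exists_isOrd n hn U
    have hmul := AddSubgroup.relIndex_mul_relIndex S.toAddSubgroup U.toAddSubgroup T.toAddSubgroup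
      ((Submodule.toAddSubgroup_le _ _).2 hSU.le) ((Submodule.toAddSubgroup_le _ _).2 hUT)
    rw [hc] at hmul
    have h1 : 1 < S.toAddSubgroup.relIndex U.toAddSubgroup := by
      have h0 := relIndex_ne_zero hn hnS hSU.le
      have h1 : S.toAddSubgroup.relIndex U.toAddSubgroup ≠ 1 := fun e1 =>
        hSU.not_ge ((Submodule.toAddSubgroup_le _ _).1 (AddSubgroup.relIndex_eq_one.1 e1))
      omega
    have h2 := relIndex_ne_zero hn (fun φ => hSU.le (hnS φ)) hUT
    have hlt' : U.toAddSubgroup.relIndex T.toAddSubgroup < c := by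
      rw [← hmul]
      exact lt_mul_of_one_lt_left (Nat.pos_of_ne_zero h2) h1
    have h3 := ih _ hlt' (fun φ => hSU.le (hnS φ)) hUT rfl he hd'
    have h4 := h.step_upper hn hnS hU hd he
    rw [← hidx] at h4
    calc d ≤ e * S.toAddSubgroup.relIndex U.toAddSubgroup := h4
      _ ≤ d' * U.toAddSubgroup.relIndex T.toAddSubgroup * S.toAddSubgroup.relIndex U.toAddSubgroup :=
          Nat.mul_le_mul_right _ h3
      _ = d' * c := by rw [← hmul]; ring

/-- The subgroup cut out by a submodule containing `n` has the index of the submodule as its order. -/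
theorem Data.ord_eq_index' (h : Data Aw p P) (hX : Mem P X) {n : ℕ} (hn : 0 < n)
    {S : Submodule (EndAV.End Aw) (EndAV.Hom X Aw)} (hnS : ∀ φ, n • φ ∈ S) {d : ℕ} (hd : IsOrd n S d) :
    d = S.toAddSubgroup.index := by
  haveI : Module.Finite ℤ (EndAV.Hom X Aw) := (AVHomLib.hom_free (A := X) (B := Aw)).1
  haveI : Module.Free ℤ (EndAV.Hom X Aw) := (AVHomLib.hom_free (A := X) (B := Aw)).2
  obtain ⟨g, hg⟩ := AVDegPoly.exists_dim (A := X)
  have hnn : ∀ φ, n • φ ∈ nTop n X Aw := fun φ => ⟨φ, rfl⟩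
  have hle : nTop n X Aw ≤ S := by rintro _ ⟨ψ, rfl⟩; exact hnS ψ
  obtain ⟨d0, hd0⟩ := exists_isOrd (X := X) n hn (nTop n X Aw)
  obtain ⟨d1, hd1⟩ := exists_isOrd (X := X) n hn (⊤ : Submodule (EndAV.End Aw) (EndAV.Hom X Aw))
  have e0 := hd0.eq_nTop hn hg
  have e1 : d1 = 1 := by
    obtain ⟨Q, _, _, _, _, q, hq, hi, rfl, hk⟩ := hd1
    haveI := hq
    rw [← deg_of_isIso (𝟙 X)]
    refine deg_eq_of_kernel_eq q hi (𝟙 X) (isg_of_isIso _) fun T x => ⟨fun hx => ?_, fun hx => ?_⟩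
    · rw [Category.comp_id]
      exact h.eq_one_of_killed hX x fun φ => ((hk T x).1 hx).2 φ trivial
    · rw [Category.comp_id] at hx
      rw [hx, MonObj.one_comp]
  have h1 := h.upper hn hnn hle hd0 hd
  have h2 := h.upper hn hnS le_top hd hd1
  rw [e1, one_mul, show (⊤ : Submodule (EndAV.End Aw) (EndAV.Hom X Aw)).toAddSubgroup = ⊤ from rfl,
    AddSubgroup.relIndex_top_right] at h2
  have htot := AddSubgroup.relIndex_mul_index ((Submodule.toAddSubgroup_le _ _).2 hle)
  rw [index_nTop, show Module.finrank ℤ (EndAV.Hom X Aw) = 2 * g from h.finrank_hom hX hg, ← e0] at htot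
  have hpos : 0 < (nTop n X Aw).toAddSubgroup.relIndex S.toAddSubgroup :=
    Nat.pos_of_ne_zero (relIndex_ne_zero hn hnn hle)
  rw [← htot, mul_comm _ S.toAddSubgroup.index] at h1
  exact le_antisymm h2 (Nat.le_of_mul_le_mul_right h1 hpos)

/-- A submodule of finite index is the image of precomposition with an isogeny. -/
theorem Data.exists_quot (h : Data Aw p P) (hX : Mem P X) {n : ℕ} (hn : 0 < n)
    {S : Submodule (EndAV.End Aw) (EndAV.Hom X Aw)} (hnS : ∀ φ, n • φ ∈ S) :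
    ∃ (Q : Over (Spec (CommRingCat.of k))) (_ : GrpObj Q) (_ : IsCommMonObj Q) (_ : IsProper Q.hom)
      (_ : GeometricallyIntegral Q.hom) (q : EndAV.Hom X Q), Isg q.toHom ∧ Mem P Q ∧
      (∀ φ, φ ∈ S ↔ ∃ ψ : EndAV.Hom Q Aw, q ≫ ψ = φ) ∧
      ∀ (T : Over (Spec (CommRingCat.of k))) (g : T ⟶ X), g ≫ q.toHom = 1 ↔
        Kill n (S : Set (EndAV.Hom X Aw)) T g := by
  haveI : Module.Finite ℤ (EndAV.Hom X Aw) := (AVHomLib.hom_free (A := X) (B := Aw)).1
  haveI : Module.Free ℤ (EndAV.Hom X Aw) := (AVHomLib.hom_free (A := X) (B := Aw)).2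
  obtain ⟨Q, i1, i2, i3, i4, q, hq, hi, hk⟩ := (cut_kill n hn S).quot
  haveI := hq
  have hQ : Mem P Q := Mem.of_surjective (f := EndAV.Hom.of q) hX hi.2
  have hd : deg q = S.toAddSubgroup.index :=
    h.ord_eq_index' hX hn hnS ⟨Q, i1, i2, i3, i4, q, hq, hi, rfl, hk⟩
  refine ⟨Q, i1, i2, i3, i4, EndAV.Hom.of q, hi, hQ, fun φ => ?_, hk⟩
  let R := (Preadditive.leftComp (CommGrp.mk Aw) (EndAV.Hom.of q)).range
  have hle : S.toAddSubgroup ≤ R := fun (ψ : EndAV.Hom X Aw) hψ => by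
    obtain ⟨v, hv, hqv⟩ := exists_factor q hi ψ.toHom fun T g hg => ((hk T g).1 hg).2 ψ hψ
    exact ⟨EndAV.Hom.of v, EndAV.Hom.ext hqv⟩
  have hR : R.index = S.toAddSubgroup.index := (h.hidx_eq_deg hX hQ (EndAV.Hom.of q) hi).trans hd
  have hmul := AddSubgroup.relIndex_mul_index hle
  rw [hR] at hmul
  have h1 : S.toAddSubgroup.relIndex R = 1 := by
    have h0 := index_ne_zero hn hnS
    exact mul_right_cancel₀ h0 (hmul.trans (one_mul _).symm)
  exact ⟨fun hφ => hle hφ, fun hφ => AddSubgroup.relIndex_eq_one.1 h1 hφ⟩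

/-- Every homomorphism to `A_w` from an abelian subvariety extends. -/
theorem Data.surjective_of_mono (h : Data Aw p P) (hX : Mem P X) (hY : Mem P Y) (j : EndAV.Hom X Y) [Mono j.toHom] :
    Function.Surjective (Preadditive.leftComp (CommGrp.mk Aw) j) := by
  obtain ⟨y, N, hN, hy, hjy⟩ := AVRosati.QuasiSection.exists_regular j.toHom
  haveI := hy
  have hjN : j ≫ EndAV.Hom.of y = N • 𝟙 (CommGrp.mk X) := EndAV.Hom.ext (by
    rw [EndAV.Hom.toHom_nsmul, EndAV.Hom.toHom_id]
    refine (cancel_mono j.toHom).1 ?_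
    rw [MonObj.pow_comp, Category.id_comp, ← hjy, EndAV.Hom.toHom_comp, EndAV.Hom.toHom_of, Category.assoc])
  let S : Submodule (EndAV.End Aw) (EndAV.Hom X Aw) :=
    { carrier := {φ | ∃ ψ : EndAV.Hom Y Aw, j ≫ ψ = φ}
      zero_mem' := ⟨0, Limits.comp_zero⟩
      add_mem' := fun {a b} ⟨c, hc⟩ ⟨d, hd⟩ => ⟨c + d, by rw [Preadditive.comp_add, hc, hd]⟩
      smul_mem' := fun t a ⟨c, hc⟩ => ⟨c ≫ t, by rw [← Category.assoc, hc]; rfl⟩ }
  have hnS : ∀ φ, N • φ ∈ S := fun φ =>
    ⟨EndAV.Hom.of y ≫ φ, by rw [← Category.assoc, hjN, Preadditive.nsmul_comp, Category.id_comp]⟩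
  obtain ⟨Q, _, _, _, _, q, hqi, -, hqS, hqk⟩ := h.exists_quot hX hN hnS
  have htriv : ∀ (T : Over (Spec (CommRingCat.of k))) (g : T ⟶ X), g ≫ q.toHom = 1 → g = 1 := fun T g hg => by
    refine (cancel_mono j.toHom).1 ((h.eq_one_of_killed hY (g ≫ j.toHom) fun ψ => ?_).trans (MonObj.one_comp _).symm)
    rw [Category.assoc]
    exact ((hqk T g).1 hg).2 (j ≫ ψ) ⟨ψ, rfl⟩
  haveI : IsIso q.toHom := isIso_of_deg_eq_one q.toHom hqi (by
    rw [← deg_of_isIso (𝟙 X)]
    exact deg_eq_of_kernel_eq q.toHom hqi (𝟙 X) (isg_of_isIso _) fun T g =>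
      ⟨fun hg => by rw [Category.comp_id]; exact htriv T g hg,
        fun hg => by rw [Category.comp_id] at hg; rw [hg, MonObj.one_comp]⟩)
  haveI := isIso_hom q
  intro φ
  exact (hqS φ).2 ⟨inv q ≫ φ, IsIso.hom_inv_id_assoc q φ⟩

end Groth.Agent.CSEquiv
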